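import Groth.Agent.RelPC17.TruncLift
import Groth.Agent.ExistEasy.PP.PullSec
import Groth.Agent.AmpleVan.ThickPush
import Mathlib.AlgebraicGeometry.Geometrically.Connected

/-!
# Freeness from the generic fibre and a truncation
-/

set_option autoImplicit false
set_option backward.isDefEq.respectTransparency false
set_option backward.isDefEq.respectTransparency.types false
set_option linter.style.haveILetI false

universe u

open CategoryTheory CategoryTheory.Limits AlgebraicGeometry TopologicalSpace Opposite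

namespace Groth.Agent.RelPC17.TruncFree

open CechBound TruncLift

variable {X : Scheme.{u}}

/-- The linear combination map of a family of sections. -/
noncomputable def combLin {M : X.Modules} {U : X.Opens} {r : ℕ} (s : Fin r → Γ(M, U)) (V : X.Opens)
    (h : V ≤ U) : (Fin r → Γ(X, V)) →ₗ[Γ(X, V)] Γ(M, V) :=
  Fintype.linearCombination Γ(X, V) fun i => res h (s i)

theorem combLin_apply {M : X.Modules} {U : X.Opens} {r : ℕ} (s : Fin r → Γ(M, U)) (V : X.Opens)
    (h : V ≤ U) (a : Fin r → Γ(X, V)) : combLin s V h a = H23.Frame.comb M s V h a :=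
  Fintype.linearCombination_apply _ _ _

/-- A trivial module has a frame on the whole scheme. -/
theorem exists_frame_top {M : X.Modules} {r : ℕ} (e : M ≅ FlatMod.freeMod X r) :
    ∃ σ : Fin r → Γ(M, ⊤), H23.Frame.IsFrame M σ := by
  let t : Fin r → Γ(FlatMod.freeMod X r, ⊤) :=
    fun i => (H23.Frame.incl X r i).app ⊤ (H23.Frame.one ⊤)
  refine ⟨fun i => e.inv.app ⊤ (t i), fun W h => ?_⟩
  have hi : Function.Bijective (e.inv.app W) := ConcreteCategory.bijective_of_isIso (e.inv.app W)
  have key : H23.Frame.comb M (fun i => e.inv.app ⊤ (t i)) W h =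
      (fun x => e.inv.app W x) ∘ H23.Frame.comb (FlatMod.freeMod X r) t W h := by
    funext a
    simp only [Function.comp, H23.Frame.comb, map_sum]
    refine Finset.sum_congr rfl fun i _ => ?_
    rw [Scheme.Modules.Hom.app_smul, QCoh.map_app_comm]
  rw [key]
  exact hi.comp (H23.Frame.incl_isFrame W h)

/-- A global frame trivialises. -/
theorem nonempty_iso_of_frame {M : X.Modules} {r : ℕ} (s : Fin r → Γ(M, ⊤))
    (hs : H23.Frame.IsFrame M s) : Nonempty (M ≅ FlatMod.freeMod X r) := by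
  let φ : FlatMod.freeMod X r ⟶ M := Sigma.desc fun i => QCoh.homOfTop (P := M) (s i)
  suffices h : IsIso φ from ⟨(asIso φ).symm⟩
  refine Scheme.Modules.Hom.isIso_iff_isIso_app.mpr fun W => ?_
  rw [ConcreteCategory.isIso_iff_bijective]
  let t : Fin r → Γ(FlatMod.freeMod X r, ⊤) :=
    fun i => (H23.Frame.incl X r i).app ⊤ (H23.Frame.one ⊤)
  have hb := (H23.Frame.incl_isFrame (X := X) (n := r)) W le_top
  have key : (fun x => φ.app W x) ∘ H23.Frame.comb (FlatMod.freeMod X r) t W le_top =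
      H23.Frame.comb M s W le_top := by
    funext a
    simp only [Function.comp, H23.Frame.comb, map_sum]
    refine Finset.sum_congr rfl fun i _ => ?_
    rw [Scheme.Modules.Hom.app_smul, H23.Frame.app_one_res (H23.Frame.incl X r i) le_top]
    refine congrArg (a i • ·) ?_
    show (H23.Frame.incl X r i ≫ φ).app W (H23.Frame.one W) = _
    rw [H23.Frame.incl, Sigma.ι_desc]
    refine (QCoh.homOfTop_app _ _).trans ?_
    exact one_smul Γ(X, W) _
  exact (Function.Bijective.of_comp_iff _ hb).mp (key ▸ hs W le_top)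

/-- Being a frame is local. -/
theorem isFrame_of_cover {M : X.Modules} {r : ℕ} (s : Fin r → Γ(M, ⊤)) {κ : Type u} (D : κ → X.Opens)
    (hcov : ∀ x : X, ∃ k, x ∈ D k)
    (hD : ∀ k, H23.Frame.IsFrame M fun i => res (le_top : D k ≤ ⊤) (s i)) :
    H23.Frame.IsFrame M s := by
  intro W hW
  have hsup : W ≤ ⨆ k, W ⊓ D k := fun x hx => by
    obtain ⟨k, hk⟩ := hcov x
    exact Opens.mem_iSup.2 ⟨k, hx, hk⟩
  have hres : ∀ (V : X.Opens) (hV : V ≤ W) (k : κ) (hk : V ≤ D k) (a : Fin r → Γ(X, W)),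
      res hV (H23.Frame.comb M s W hW a) = H23.Frame.comb M (fun i => res (le_top : D k ≤ ⊤) (s i)) V hk
        (fun i => X.presheaf.map (homOfLE hV).op (a i)) := fun V hV k hk a => by
    show res hV (∑ i, a i • res hW (s i)) = ∑ i, _ • res hk (res le_top (s i))
    rw [res_sum_smul]
    exact Finset.sum_congr rfl fun i _ => by rw [res_res, res_res]
  refine ⟨fun a b hab => funext fun i => ?_, fun x => ?_⟩
  · refine TopCat.Sheaf.eq_of_locally_eq' X.sheaf (fun k => W ⊓ D k) W (fun _ => homOfLE inf_le_left)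
      hsup _ _ fun k => ?_
    exact congrFun ((hD k _ inf_le_right).1 (((hres _ inf_le_left k inf_le_right a).symm.trans
      (congrArg _ hab)).trans (hres _ inf_le_left k inf_le_right b))) i
  · choose b hb using fun k => (hD k (W ⊓ D k) inf_le_right).2 (res inf_le_left x)
    have hcompat : ∀ k l (i : Fin r),
        X.presheaf.map (homOfLE (inf_le_left : (W ⊓ D k) ⊓ (W ⊓ D l) ≤ W ⊓ D k)).op (b k i) =
          X.presheaf.map (homOfLE (inf_le_right : (W ⊓ D k) ⊓ (W ⊓ D l) ≤ W ⊓ D l)).op (b l i) := by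
      intro k l
      have hk : (W ⊓ D k) ⊓ (W ⊓ D l) ≤ D k := inf_le_left.trans inf_le_right
      refine congrFun ((hD k _ hk).1 ?_)
      have e1 : ∀ (m : κ) (h : (W ⊓ D k) ⊓ (W ⊓ D l) ≤ W ⊓ D m),
          H23.Frame.comb M (fun i => res (le_top : D k ≤ ⊤) (s i)) _ hk
            (fun i => X.presheaf.map (homOfLE h).op (b m i)) =
          res (h.trans inf_le_left) x := fun m h => by
        have e2 := congrArg (res h) (hb m)
        rw [res_res] at e2
        refine Eq.trans ?_ e2
        show ∑ i, _ • res hk (res le_top (s i)) = res h (∑ i, b m i • res inf_le_right (res le_top (s i)))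
        rw [res_sum_smul]
        exact Finset.sum_congr rfl fun i _ => by rw [res_res, res_res, res_res]
      exact (e1 k inf_le_left).trans (e1 l inf_le_right).symm
    have hg : ∀ i, ∃ a : Γ(X, W), ∀ k, X.presheaf.map (homOfLE inf_le_left).op a = b k i := fun i => by
      obtain ⟨a, ha, -⟩ := TopCat.Sheaf.existsUnique_gluing' X.sheaf (fun k => W ⊓ D k) W
        (fun _ => homOfLE inf_le_left) hsup (fun k => b k i) fun k l => hcompat k l i
      exact ⟨a, ha⟩
    choose a ha using hg
    refine ⟨a, TopCat.Sheaf.eq_of_locally_eq' ⟨M.presheaf, Scheme.Modules.isSheaf M⟩ (fun k => W ⊓ D k) W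
      (fun _ => homOfLE inf_le_left) hsup _ _ fun k => ?_⟩
    refine (hres _ inf_le_left k inf_le_right a).trans ?_
    rw [show (fun i => X.presheaf.map (homOfLE (inf_le_left : W ⊓ D k ≤ W)).op (a i)) = b k from
      funext fun i => ha i k]
    exact hb k

/-- A frame over an open immersion with free inverse image. -/
theorem exists_frame_of_openImmersion {Z : Scheme.{u}} (g : Z ⟶ X) [IsOpenImmersion g] {V : X.Opens}
    (hV : g.opensRange = V) {M : X.Modules} {r : ℕ}
    (e : (Scheme.Modules.pullback g).obj M ≅ FlatMod.freeMod Z r) :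
    ∃ σ : Fin r → Γ(M, V), H23.Frame.IsFrame M σ := by
  subst hV
  exact H23.Frame.exists_frame
    ((Scheme.Modules.restrictFunctorCongr (show g.opensRange.ι = g.isoOpensRange.inv ≫ g from
        (Scheme.Hom.isoOpensRange_inv_comp g).symm)).app M ≪≫
      (QCoh.restrictRestrict M _ _).symm ≪≫
      (Scheme.Modules.restrictFunctor _).mapIso ((Scheme.Modules.restrictFunctorIsoPullback g).app M ≪≫ e) ≪≫
      QCoh.freeModRestrict _ r)

/-- Frames on a nonempty open have the same size. -/
theorem frame_card_eq {M : X.Modules} {U U' : X.Opens} {m r : ℕ} {s : Fin m → Γ(M, U)}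
    {σ : Fin r → Γ(M, U')} (hs : H23.Frame.IsFrame M s) (hσ : H23.Frame.IsFrame M σ) {x : X}
    (hx : x ∈ U) (hx' : x ∈ U') : m = r := by
  haveI : Nontrivial Γ(X, U ⊓ U') := (X.presheaf.germ (U ⊓ U') x ⟨hx, hx'⟩).hom.domain_nontrivial
  let e₁ := LinearEquiv.ofBijective (combLin s (U ⊓ U') inf_le_left) (by
    rw [show ⇑(combLin s (U ⊓ U') inf_le_left) = H23.Frame.comb M s _ inf_le_left from
      funext (combLin_apply s _ _)]
    exact hs _ _)
  let e₂ := LinearEquiv.ofBijective (combLin σ (U ⊓ U') inf_le_right) (by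
    rw [show ⇑(combLin σ (U ⊓ U') inf_le_right) = H23.Frame.comb M σ _ inf_le_right from
      funext (combLin_apply σ _ _)]
    exact hσ _ _)
  have h := (e₁.trans e₂.symm).finrank_eq
  rwa [Module.finrank_fin_fun, Module.finrank_fin_fun] at h

/-- Base change detects divisibility by the ideal. -/
theorem mem_smul_top_of_isBaseChange {C C' N N' : Type u} [CommRing C] [CommRing C'] [Algebra C C']
    [AddCommGroup N] [Module C N] [AddCommGroup N'] [Module C N'] [Module C' N'] [IsScalarTower C C' N']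
    (l : N →ₗ[C] N') (h : IsBaseChange C' l) (Q : Ideal C)
    (r : C' →+* C ⧸ Q) (hr : ∀ a, r (algebraMap C C' a) = Ideal.Quotient.mk Q a) {x : N} (hx : l x = 0) :
    x ∈ Q • (⊤ : Submodule C N) := by
  let N₀ := N ⧸ (Q • (⊤ : Submodule C N))
  have hT : Module.IsTorsionBySet C N₀ (Q : Set C) := fun y q => by
    obtain ⟨y, rfl⟩ := Submodule.Quotient.mk_surjective _ y
    rw [← Submodule.Quotient.mk_smul]
    exact (Submodule.Quotient.mk_eq_zero _).2 (Submodule.smul_mem_smul q.2 trivial)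
  letI : Module (C ⧸ Q) N₀ := hT.module
  letI : Module C' N₀ := Module.compHom N₀ r
  haveI : IsScalarTower C C' N₀ := ⟨fun a c' y => by
    show r (a • c') • y = a • (r c' • y)
    rw [Algebra.smul_def, map_mul, mul_smul, hr]
    rfl⟩
  have h1 := h.lift_eq ((Q • (⊤ : Submodule C N)).mkQ) x
  rw [hx, map_zero] at h1
  exact (Submodule.Quotient.mk_eq_zero _).1 h1.symm

section Trunc

variable {c : Γ(X, ⊤)} {Z : Scheme.{u}} (g : Z ⟶ X) [IsClosedImmersion g] {n : ℕ}
  (hker : ∀ U : X.affineOpens, RingHom.ker (g.app U.1).hom = Ideal.span {cr c U.1 ^ n})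
  {E : X.Modules} (hE : Coh.IsQCoh E) {r : ℕ} {σ : Fin r → Γ((Scheme.Modules.pullback g).obj E, ⊤)}
  (hσ : H23.Frame.IsFrame ((Scheme.Modules.pullback g).obj E) σ)

variable (σ) in
/-- Sections lifting the frame of the truncation. -/
def IsLift (U : X.Opens) (e : Fin r → Γ(E, U)) : Prop :=
  ∀ l, QCoh.pullSec g E (le_refl (g ⁻¹ᵁ U)) (e l) = res (le_top : g ⁻¹ᵁ U ≤ ⊤) (σ l)

theorem IsLift.res {U V : X.Opens} {e : Fin r → Γ(E, U)} (he : IsLift g σ U e) (h : V ≤ U) :
    IsLift g σ V fun l => TruncLift.res h (e l) := fun l => by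
  refine (ExistEasy.pullSec_res g E h (g.preimage_mono h) le_rfl le_rfl (e l)).symm.trans ?_
  rw [he l]
  exact res_res _ _ _

theorem appLE_eq (U : X.Opens) (a : Γ(X, U)) : g.appLE U (g ⁻¹ᵁ U) le_rfl a = g.app U a := by
  rw [Scheme.Hom.app_eq_appLE]

include hE in
theorem pullSec_surjective {U : X.Opens} (hU : IsAffineOpen U) :
    Function.Surjective (QCoh.pullSec g E (le_refl (g ⁻¹ᵁ U))) :=
  ExistEasy.surjective_pullSec g hE (hU.preimage g) hU le_rfl fun c' => by
    obtain ⟨a, rfl⟩ := g.app_surjective U hU c'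
    exact ⟨a, fun y => by rw [appLE_eq]⟩

include hE in
theorem exists_lift {U : X.Opens} (hU : IsAffineOpen U) : ∃ e, IsLift g σ U e := by
  choose e he using fun l => pullSec_surjective g hE hU (res (le_top : g ⁻¹ᵁ U ≤ ⊤) (σ l))
  exact ⟨e, he⟩

include hker hE in
theorem div_of_pullSec_eq_zero {U : X.Opens} (hU : IsAffineOpen U) {x : Γ(E, U)}
    (hx : QCoh.pullSec g E (le_refl (g ⁻¹ᵁ U)) x = 0) : Div c E n U x := by
  letI : Algebra Γ(X, U) Γ(Z, g ⁻¹ᵁ U) := (g.appLE U (g ⁻¹ᵁ U) le_rfl).hom.toAlgebra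
  letI : Module Γ(X, U) Γ((Scheme.Modules.pullback g).obj E, g ⁻¹ᵁ U) :=
    Module.compHom _ (g.appLE U (g ⁻¹ᵁ U) le_rfl).hom
  haveI : IsScalarTower Γ(X, U) Γ(Z, g ⁻¹ᵁ U) Γ((Scheme.Modules.pullback g).obj E, g ⁻¹ᵁ U) :=
    ⟨fun a b y => mul_smul ((g.appLE U (g ⁻¹ᵁ U) le_rfl).hom a) b y⟩
  obtain ⟨l, hl, hb⟩ := ExistEasy.exists_pullSec_baseChange g hE (hU.preimage g) hU (le_refl (g ⁻¹ᵁ U))
  let e := RingHom.quotientKerEquivOfSurjective (g.app_surjective U hU)
  let r₀ : Γ(Z, g ⁻¹ᵁ U) →+* Γ(X, U) ⧸ Ideal.span {cr c U ^ n} :=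
    (Ideal.quotEquivOfEq (hker ⟨U, hU⟩)).toRingHom.comp e.symm.toRingHom
  have hr : ∀ a, r₀ (algebraMap Γ(X, U) Γ(Z, g ⁻¹ᵁ U) a) = Ideal.Quotient.mk _ a := fun a => by
    show (Ideal.quotEquivOfEq (hker ⟨U, hU⟩)) (e.symm (g.appLE U (g ⁻¹ᵁ U) le_rfl a)) = _
    rw [appLE_eq, show g.app U a = e (Ideal.Quotient.mk _ a) from
      (RingHom.quotientKerEquivOfSurjective_apply_mk (g.app_surjective U hU) a).symm,
      e.symm_apply_apply, Ideal.quotEquivOfEq_mk]
  have h := mem_smul_top_of_isBaseChange l hb _ r₀ hr (by rw [hl]; exact hx)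
  rw [Submodule.ideal_span_singleton_smul, Submodule.mem_smul_pointwise_iff_exists] at h
  obtain ⟨y, -, hy⟩ := h
  exact ⟨y, hy⟩

theorem pullSec_sum_smul {U : X.Opens} {e : Fin r → Γ(E, U)} (he : IsLift g σ U e)
    (a : Fin r → Γ(X, U)) :
    QCoh.pullSec g E (le_refl (g ⁻¹ᵁ U)) (∑ l, a l • e l) =
      H23.Frame.comb _ σ (g ⁻¹ᵁ U) le_top fun l => g.app U (a l) := by
  refine (map_sum (AddMonoidHom.mk' (QCoh.pullSec g E (le_refl (g ⁻¹ᵁ U)))
    (QCoh.pullSec_add g E le_rfl)) (fun l => a l • e l) Finset.univ).trans ?_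
  refine Finset.sum_congr rfl fun l _ => ?_
  show QCoh.pullSec g E (le_refl (g ⁻¹ᵁ U)) (a l • e l) = _
  rw [QCoh.pullSec_smul, appLE_eq, he l]

include hker hE hσ in
theorem modFrame {U : X.Opens} (hU : IsAffineOpen U) {e : Fin r → Γ(E, U)} (he : IsLift g σ U e) :
    ModFrame c E n U e := by
  have hc : g.app U (cr c U ^ n) = 0 := by
    show cr c U ^ n ∈ RingHom.ker (g.app U).hom
    rw [hker ⟨U, hU⟩]
    exact Ideal.mem_span_singleton_self _
  refine ⟨fun x => ?_, fun a ha l => ?_⟩
  · obtain ⟨b, hb⟩ := (hσ (g ⁻¹ᵁ U) le_top).2 (QCoh.pullSec g E (le_refl (g ⁻¹ᵁ U)) x)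
    choose a ha using fun l => g.app_surjective U hU (b l)
    refine ⟨a, div_of_pullSec_eq_zero g hker hE hU ?_⟩
    have h := QCoh.pullSec_add g E (le_refl (g ⁻¹ᵁ U)) (x - ∑ l, a l • e l) (∑ l, a l • e l)
    rw [sub_add_cancel, pullSec_sum_smul g he, show (fun l => g.app U (a l)) = b from funext ha, hb] at h
    exact right_eq_add.1 h
  · obtain ⟨y, hy⟩ := ha
    have h0 : H23.Frame.comb _ σ (g ⁻¹ᵁ U) le_top (fun l => g.app U (a l)) = 0 := by
      rw [← pullSec_sum_smul g he, ← hy, QCoh.pullSec_smul, appLE_eq, hc, zero_smul]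
    have h1 := congrFun ((hσ (g ⁻¹ᵁ U) le_top).1 (h0.trans
      (show (0 : Γ((Scheme.Modules.pullback g).obj E, g ⁻¹ᵁ U)) =
        H23.Frame.comb _ σ (g ⁻¹ᵁ U) le_top 0 by simp [H23.Frame.comb]))) l
    have h2 : a l ∈ RingHom.ker (g.app U).hom := h1
    rw [hker ⟨U, hU⟩, Ideal.mem_span_singleton] at h2
    exact h2

include hker hE in
theorem compat {U V W : X.Opens} (hW : IsAffineOpen W) (hU : W ≤ U) (hV : W ≤ V)
    {e : Fin r → Γ(E, U)} {e' : Fin r → Γ(E, V)} (he : IsLift g σ U e) (he' : IsLift g σ V e') (l : Fin r) :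
    Div c E n W (TruncLift.res hU (e l) - TruncLift.res hV (e' l)) := by
  refine div_of_pullSec_eq_zero g hker hE hW ?_
  have h := QCoh.pullSec_add g E (le_refl (g ⁻¹ᵁ W)) (TruncLift.res hU (e l) - TruncLift.res hV (e' l))
    (TruncLift.res hV (e' l))
  rw [sub_add_cancel, (he.res g hU) l, (he'.res g hV) l] at h
  exact right_eq_add.1 h

end Trunc

section Mod

variable {c : Γ(X, ⊤)} {M : X.Modules} {W : X.Opens} {m r : ℕ} {s : Fin m → Γ(M, W)}
  (hs : H23.Frame.IsFrame M s) {e : Fin r → Γ(M, W)} (he : ModFrame c M 1 W e)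

/-- The coordinates in a frame. -/
noncomputable def coord : Γ(M, W) ≃ₗ[Γ(X, W)] (Fin m → Γ(X, W)) :=
  (LinearEquiv.ofBijective (combLin s W le_rfl) (by
    rw [show ⇑(combLin s W le_rfl) = H23.Frame.comb M s W le_rfl from funext (combLin_apply s _ _)]
    exact hs _ _)).symm

theorem coord_symm (a : Fin m → Γ(X, W)) : (coord hs).symm a = ∑ k, a k • s k := by
  show combLin s W le_rfl a = _
  rw [combLin_apply]
  exact Finset.sum_congr rfl fun k _ => congrArg (a k • ·) (res_self _ _)

variable (c) in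
/-- The coefficient matrix modulo `c`. -/
noncomputable def matMod (e : Fin r → Γ(M, W)) : Matrix (Fin r) (Fin m) (Γ(X, W) ⧸ Ideal.span {cr c W}) :=
  fun l k => Ideal.Quotient.mk _ (coord hs (e l) k)

theorem vecMul_matMod (a : Fin r → Γ(X, W)) (k : Fin m) :
    Matrix.vecMul (fun l => Ideal.Quotient.mk (Ideal.span {cr c W}) (a l)) (matMod c hs e) k =
      Ideal.Quotient.mk _ (coord hs (∑ l, a l • e l) k) := by
  simp only [Matrix.vecMul, dotProduct, matMod, map_sum, map_smul, Finset.sum_apply, Pi.smul_apply,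
    smul_eq_mul, map_mul]

include he in
theorem bijective_vecMul : Function.Bijective (Matrix.vecMul · (matMod c hs e)) := by
  refine ⟨fun v v' hvv => ?_, fun q => ?_⟩
  · obtain ⟨a, rfl⟩ := Ideal.Quotient.mk_surjective.comp_left v
    obtain ⟨a', rfl⟩ := Ideal.Quotient.mk_surjective.comp_left v'
    have h : Div c M 1 W (∑ l, (a l - a' l) • e l) := by
      have hk : ∀ k, cr c W ∣ coord hs (∑ l, (a l - a' l) • e l) k := fun k => by
        rw [← Ideal.mem_span_singleton, ← Ideal.Quotient.eq_zero_iff_mem]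
        have hk := congrFun hvv k
        simp only [Function.comp_def] at hk
        rw [vecMul_matMod hs, vecMul_matMod hs] at hk
        simp only [sub_smul, Finset.sum_sub_distrib, map_sub, Pi.sub_apply, hk, sub_self]
      choose b hb using hk
      refine ⟨(coord hs).symm b, ?_⟩
      rw [pow_one, ← map_smul]
      exact (coord hs).symm_apply_eq.2 (funext fun k => (hb k).symm)
    funext l
    refine Ideal.Quotient.eq.2 (Ideal.mem_span_singleton.2 ?_)
    simpa using he.indep _ h l
  · obtain ⟨b, rfl⟩ := Ideal.Quotient.mk_surjective.comp_left q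
    obtain ⟨a, y, hy⟩ := he.span ((coord hs).symm b)
    refine ⟨fun l => Ideal.Quotient.mk _ (a l), funext fun k => ?_⟩
    show Matrix.vecMul _ _ k = _
    rw [vecMul_matMod hs]
    show _ = Ideal.Quotient.mk _ (b k)
    rw [Ideal.Quotient.eq, Ideal.mem_span_singleton]
    refine ⟨-coord hs y k, ?_⟩
    have h := congrFun (congrArg (coord hs) hy) k
    rw [map_sub, LinearEquiv.apply_symm_apply, map_smul, pow_one, Pi.smul_apply, Pi.sub_apply,
      smul_eq_mul] at h
    rw [mul_neg, h, neg_sub]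

include hs he in
theorem modFrame_card_eq [Nontrivial (Γ(X, W) ⧸ Ideal.span {cr c W})] : r = m := by
  let e₀ := LinearEquiv.ofBijective (Matrix.vecMulLinear (matMod c hs e)) (bijective_vecMul hs he)
  have h := e₀.finrank_eq
  rwa [Module.finrank_fin_fun, Module.finrank_fin_fun] at h

end Mod

/-- Sections congruent to a frame modulo `c` form a frame near the zeros of `c`. -/
theorem exists_frame_nhd {c : Γ(X, ⊤)} {M : X.Modules} {W : X.Opens} {r : ℕ} {s : Fin r → Γ(M, W)}
    (hs : H23.Frame.IsFrame M s) {e : Fin r → Γ(M, W)} (he : ModFrame c M 1 W e) {x : X} (hxW : x ∈ W)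
    (hxc : x ∉ X.basicOpen c) :
    ∃ (D : X.Opens) (hD : D ≤ W), x ∈ D ∧ H23.Frame.IsFrame M fun l => res hD (e l) := by
  let A : Matrix (Fin r) (Fin r) Γ(X, W) := fun l k => coord hs (e l) k
  have hmap : matMod c hs e = A.map (Ideal.Quotient.mk _) := rfl
  have hu : IsUnit (matMod c hs e) := Matrix.vecMul_surjective_iff_isUnit.1 (bijective_vecMul hs he).2
  rw [Matrix.isUnit_iff_isUnit_det, hmap, ← RingHom.mapMatrix_apply, ← RingHom.map_det] at hu
  obtain ⟨b, hb⟩ := hu.exists_right_inv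
  obtain ⟨b, rfl⟩ := Ideal.Quotient.mk_surjective b
  rw [← map_mul, ← map_one (Ideal.Quotient.mk _), Ideal.Quotient.eq, Ideal.mem_span_singleton] at hb
  obtain ⟨d, hd⟩ := hb
  refine ⟨X.basicOpen A.det, X.basicOpen_le _, ?_, fun V hV => ?_⟩
  · rw [Scheme.mem_basicOpen X A.det x hxW]
    by_contra hnu
    have hcu : ¬ IsUnit (X.presheaf.germ W x hxW (cr c W)) := by
      rw [TopCat.Presheaf.germ_res_apply]
      intro h
      exact hxc ((Scheme.mem_basicOpen X c x trivial).2 h)
    have h1 := congrArg (X.presheaf.germ W x hxW) hd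
    rw [map_sub, map_mul, map_one, map_mul] at h1
    refine hnu ?_
    by_contra hnu'
    have hm1 : X.presheaf.germ W x hxW A.det * X.presheaf.germ W x hxW b -
        X.presheaf.germ W x hxW (cr c W) * X.presheaf.germ W x hxW d ∈
        IsLocalRing.maximalIdeal (X.presheaf.stalk x) :=
      Ideal.sub_mem _ (Ideal.mul_mem_right _ _ ((IsLocalRing.mem_maximalIdeal _).2 hnu'))
        (Ideal.mul_mem_right _ _ ((IsLocalRing.mem_maximalIdeal _).2 hcu))
    rw [← h1, sub_sub_cancel] at hm1
    exact (IsLocalRing.maximalIdeal.isMaximal _).ne_top ((Ideal.eq_top_iff_one _).2 hm1)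
  · have hVW : V ≤ W := hV.trans (X.basicOpen_le _)
    let ρ : Γ(X, W) →+* Γ(X, V) := (X.presheaf.map (homOfLE hVW).op).hom
    have hdet : IsUnit (A.map ρ) := by
      rw [Matrix.isUnit_iff_isUnit_det, ← RingHom.mapMatrix_apply, ← RingHom.map_det]
      have := (RingedSpace.isUnit_res_basicOpen X.toRingedSpace A.det).map
        (X.presheaf.map (homOfLE hV).op).hom
      exact (congrArg IsUnit (QCoh.ringMap_map (homOfLE hV) (homOfLE (X.basicOpen_le A.det)) A.det)).mp this
    have key : H23.Frame.comb M (fun l => res (X.basicOpen_le A.det) (e l)) V hV =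
        H23.Frame.comb M s V hVW ∘ fun v => Matrix.vecMul v (A.map ρ) := by
      funext v
      show ∑ l, v l • res hV (res (X.basicOpen_le A.det) (e l)) =
        ∑ k, Matrix.vecMul v (A.map ρ) k • res hVW (s k)
      have he' : ∀ l, e l = ∑ k, A l k • s k := fun l =>
        ((coord hs).symm_apply_apply (e l)).symm.trans (coord_symm hs _)
      have h3 : ∀ l, res hV (res (X.basicOpen_le A.det) (e l)) = ∑ k, ρ (A l k) • res hVW (s k) :=
        fun l => by
          rw [res_res, he' l, res_sum_smul]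
      simp only [h3, Finset.smul_sum, smul_smul, Matrix.vecMul, dotProduct, Finset.sum_smul,
        Matrix.map_apply]
      exact Finset.sum_comm
    rw [key]
    exact (hs V hVW).comp ⟨Matrix.vecMul_injective_of_isUnit hdet,
      Matrix.vecMul_surjective_iff_isUnit.2 hdet⟩

section Main

variable {R : Type u} [CommRing R] [IsDomain R] [IsDiscreteValuationRing R] {ϖ : R} (hϖ : Irreducible ϖ)
  (f : X ⟶ Spec (CommRingCat.of R))

include hϖ in
theorem isAway_fractionRing : IsLocalization.Away ϖ (FractionRing R) := by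
  have hinj : Function.Injective (algebraMap R (FractionRing R)) := IsFractionRing.injective R _
  have hϖ' : algebraMap R (FractionRing R) ϖ ≠ 0 := (map_ne_zero_iff _ hinj).2 hϖ.ne_zero
  refine IsLocalization.Away.mk ϖ ((isUnit_iff_ne_zero).2 hϖ') (fun z => ?_)
    (fun a b hab => ⟨0, by rw [hinj hab]⟩)
  obtain ⟨a, b, hb, rfl⟩ := IsFractionRing.div_surjective (A := R) z
  obtain ⟨k, u, hu⟩ := IsDiscreteValuationRing.associated_pow_irreducible (nonZeroDivisors.ne_zero hb) hϖ
  have hb' : algebraMap R (FractionRing R) b ≠ 0 := (map_ne_zero_iff _ hinj).2 (nonZeroDivisors.ne_zero hb)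
  refine ⟨k, a * u, ?_⟩
  rw [map_mul, ← map_pow, ← hu, map_mul]
  field_simp

include hϖ in
theorem opensRange_generic :
    haveI := isAway_fractionRing hϖ
    haveI : IsOpenImmersion (Spec.map (CommRingCat.ofHom (algebraMap R (FractionRing R)))) :=
      IsOpenImmersion.of_isLocalization ϖ
    (pullback.fst f (Spec.map (CommRingCat.ofHom (algebraMap R (FractionRing R))))).opensRange =
      X.basicOpen (gl f ϖ) := by
  haveI := isAway_fractionRing hϖ
  haveI : IsOpenImmersion (Spec.map (CommRingCat.ofHom (algebraMap R (FractionRing R)))) :=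
    IsOpenImmersion.of_isLocalization ϖ
  rw [Scheme.Hom.opensRange_pullbackFst]
  have h : (Spec.map (CommRingCat.ofHom (algebraMap R (FractionRing R)))).opensRange =
      (Spec (CommRingCat.of R)).basicOpen ((Scheme.ΓSpecIso (CommRingCat.of R)).inv ϖ) := by
    rw [basicOpen_eq_of_affine]
    exact Opens.ext (PrimeSpectrum.localization_away_comap_range (FractionRing R) ϖ)
  rw [h, Scheme.preimage_basicOpen_top]
  rfl

include hϖ in
theorem closedPoint_not_mem {x : X} (hx : f x = IsLocalRing.closedPoint R) :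
    x ∉ X.basicOpen (gl f ϖ) := by
  have h : X.basicOpen (gl f ϖ) = f ⁻¹ᵁ (PrimeSpectrum.basicOpen ϖ) := by
    refine Eq.trans ?_ (congrArg (f ⁻¹ᵁ ·) (basicOpen_eq_of_affine (R := CommRingCat.of R) ϖ))
    exact (Scheme.preimage_basicOpen_top f _).symm
  rw [h]
  intro hmem
  have hmem' : f x ∈ PrimeSpectrum.basicOpen ϖ := hmem
  rw [hx, PrimeSpectrum.mem_basicOpen] at hmem'
  exact hmem' ((IsLocalRing.mem_maximalIdeal _).2 hϖ.not_isUnit)

theorem exists_specializes [IsProper f] (x : X) :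
    ∃ x₀ : X, x ⤳ x₀ ∧ f x₀ = IsLocalRing.closedPoint R := by
  have hcl : IsClosed (f.base '' closure {x}) := Scheme.Hom.isClosedMap f _ isClosed_closure
  have hmem : f x ∈ f.base '' closure {x} := ⟨x, subset_closure rfl, rfl⟩
  have := (IsLocalRing.specializes_closedPoint (f x : PrimeSpectrum R)).mem_closed hcl hmem
  obtain ⟨x₀, hx₀, h0⟩ := this
  exact ⟨x₀, specializes_iff_mem_closure.2 hx₀, h0⟩

end Main

end Groth.Agent.RelPC17.TruncFree
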