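import Groth.Agent.RelPC17.Terms
import Groth.Agent.QCoh.Support
import Groth.Agent.QCoh.SpecFT
import Groth.Agent.RelFP.Perm

/-!
# Finite type modules and relative pseudo-coherence in degree zero
-/

set_option autoImplicit false
set_option linter.style.haveILetI false
set_option backward.isDefEq.respectTransparency false
set_option backward.isDefEq.respectTransparency.types false

universe u

open CategoryTheory CategoryTheory.Limits AlgebraicGeometry TopologicalSpace Opposite

attribute [local instance] HasDerivedCategory.standard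

namespace Groth.Agent.RelPC17

open KFlatLib

variable {X Y P Z : Scheme.{u}}

/-- Finite type is local. -/
theorem isFT_of_local {M : X.Modules}
    (h : ∀ x : X, ∃ (U : Scheme.{u}) (j : U ⟶ X) (_ : IsOpenImmersion j),
      x ∈ Set.range j.base ∧ CohB1.IsFT (M.restrict j)) : CohB1.IsFT M :=
  isFT_of_epi_free fun x => by
    obtain ⟨U, j, _, ⟨v, rfl⟩, hU⟩ := h x
    obtain ⟨W, n, r, hv, hr⟩ := exists_epi_free_of_isFT hU v
    let W' : X.Opens := (W.ι ≫ j).opensRange
    have hrg : Set.range W'.ι ⊆ Set.range (W.ι ≫ j) := by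
      rw [Scheme.Opens.range_ι]; exact subset_rfl
    let e : (W' : Scheme.{u}) ⟶ W := IsOpenImmersion.lift (W.ι ≫ j) W'.ι hrg
    have he : e ≫ W.ι ≫ j = W'.ι := IsOpenImmersion.lift_fac _ _ _
    haveI : IsOpenImmersion (e ≫ W.ι ≫ j) := by rw [he]; infer_instance
    haveI : IsOpenImmersion e := IsOpenImmersion.of_comp e (W.ι ≫ j)
    haveI := (Scheme.Modules.restrictAdjunction e).isLeftAdjoint
    haveI := hr
    let i₁ : FlatMod.freeMod (W' : Scheme.{u}) n ≅
        (Scheme.Modules.restrictFunctor e).obj (FlatMod.freeMod (W : Scheme.{u}) n) :=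
      (pullFreeIso e n).symm ≪≫ ((Scheme.Modules.restrictFunctorIsoPullback e).app _).symm
    let i₂ : (Scheme.Modules.restrictFunctor e).obj ((M.restrict j).restrict W.ι) ≅ M.restrict W'.ι :=
      (Scheme.Modules.restrictFunctor e).mapIso
          ((Scheme.Modules.restrictFunctorComp W.ι j).symm.app M) ≪≫
        (Scheme.Modules.restrictFunctorComp e (W.ι ≫ j)).symm.app M ≪≫
        (Scheme.Modules.restrictFunctorCongr he).app M
    exact ⟨W', n, i₁.hom ≫ (Scheme.Modules.restrictFunctor e).map r ≫ i₂.hom, ⟨⟨v, hv⟩, rfl⟩,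
      epi_comp' inferInstance (epi_comp' inferInstance inferInstance)⟩

/-- Finite type passes to quotients. -/
theorem isFT_of_epi' {M N : X.Modules} (f : M ⟶ N) [Epi f] (h : CohB1.IsFT M) : CohB1.IsFT N :=
  isFT_of_epi_free fun x => by
    obtain ⟨W, n, r, hx, hr⟩ := exists_epi_free_of_isFT h x
    haveI := (Scheme.Modules.restrictAdjunction W.ι).isLeftAdjoint
    haveI := hr
    exact ⟨W, n, r ≫ (Scheme.Modules.restrictFunctor W.ι).map f, hx, epi_comp' inferInstance inferInstance⟩

lemma isFT_freeMod (n : ℕ) : CohB1.IsFT (FlatMod.freeMod X n) :=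
  isFT_of_epi_free fun x => by
    refine ⟨⊤, n, (pullFreeIso (⊤ : X.Opens).ι n).inv ≫
      ((Scheme.Modules.restrictFunctorIsoPullback (⊤ : X.Opens).ι).app _).inv, trivial, inferInstance⟩

/-- Direct image along a closed immersion preserves finite type. -/
theorem isFT_push (i : Z ⟶ P) [IsClosedImmersion i] {M : Z.Modules} (h : CohB1.IsFT M) :
    CohB1.IsFT ((Scheme.Modules.pushforward i).obj M) :=
  isFT_of_local fun p => by
    by_cases hp : p ∈ Set.range i
    · obtain ⟨z, rfl⟩ := hp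
      obtain ⟨U, n, q, hz, hq⟩ := exists_epi_free_of_isFT h z
      obtain ⟨O, rfl⟩ := KZ.ClosedDev.exists_preimage_eq i U
      refine ⟨_, O.ι, inferInstance, ⟨⟨i z, hz⟩, rfl⟩, ?_⟩
      haveI := hq
      haveI : PreservesFiniteColimits (Scheme.Modules.pushforward (i ∣_ O)) := inferInstance
      let e := (pushResIso i O.ι (i ⁻¹ᵁ O).ι (i ∣_ O) (morphismRestrict_ι i O).symm
        (by rw [Scheme.Opens.opensRange_ι, Scheme.Opens.opensRange_ι])).app M
      haveI : Epi ((Scheme.Modules.pushforward (i ∣_ O)).map q) := inferInstance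
      exact isFT_of_epi' ((Scheme.Modules.pushforward (i ∣_ O)).map q ≫ e.inv)
        (QCoh.isCoh_pushforward_finite (i ∣_ O)
          ⟨QCoh.isQCoh_of_isFinLocFree (isFinLocFree_freeMod n), isFT_freeMod n⟩).2
    · let O : P.Opens := ⟨(Set.range i)ᶜ, i.isClosedEmbedding.isClosed_range.isOpen_compl⟩
      refine ⟨_, O.ι, inferInstance, ⟨⟨p, hp⟩, rfl⟩, ?_⟩
      haveI : IsEmpty ↥(i ⁻¹ᵁ O : Z.Opens).toScheme := ⟨fun z => z.2 ⟨z.1, rfl⟩⟩
      let e := (pushResIso i O.ι (i ⁻¹ᵁ O).ι (i ∣_ O) (morphismRestrict_ι i O).symm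
        (by rw [Scheme.Opens.opensRange_ι, Scheme.Opens.opensRange_ι])).app M
      have hz : IsZero ((Scheme.Modules.restrictFunctor O.ι).obj ((Scheme.Modules.pushforward i).obj M)) :=
        ((Scheme.Modules.pushforward (i ∣_ O)).map_isZero (isZero_of_isEmpty _)).of_iso e
      haveI : Epi (0 : FlatMod.freeMod (O : Scheme.{u}) 0 ⟶
          (Scheme.Modules.restrictFunctor O.ι).obj ((Scheme.Modules.pushforward i).obj M)) :=
        ⟨fun a b _ => hz.eq_of_src a b⟩
      exact isFT_of_epi' (0 : FlatMod.freeMod (O : Scheme.{u}) 0 ⟶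
          (Scheme.Modules.restrictFunctor O.ι).obj ((Scheme.Modules.pushforward i).obj M)) (isFT_freeMod 0)

/-- Finite presentation of a direct image along a presentation, on sections. -/
theorem isFP_push_imm_iff {U : X.Opens} {P : Type u} [CommRing P] (γ : P →+* Γ(X, U))
    [IsClosedImmersion (imm U γ)] {M : X.Modules} (hM : Coh.IsQCoh (M.restrict U.ι)) :
    CohB1.IsFP ((Scheme.Modules.pushforward (imm U γ)).obj (M.restrict U.ι)) ↔
      RelFP.FPVia γ Γ(M, U) := by
  rw [QCoh.isFP_iff_finitePresentation _ (QCoh.isQCoh_pushforward (imm U γ) hM)]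
  let N := (Scheme.Modules.pushforward (imm U γ)).obj (M.restrict U.ι)
  let i : U ≅ U.ι ''ᵁ ⊤ := eqToIso (Scheme.Opens.ι_image_top U).symm
  let e : (moduleSpecΓFunctor (R := CommRingCat.of P)).obj N ≃+ Γ(M, U) :=
    (M.presheaf.mapIso i.op).addCommGroupIsoToAddEquiv
  have h : ∀ (r : P) (x : (moduleSpecΓFunctor (R := CommRingCat.of P)).obj N), e (r • x) = γ r • e x := fun r x => by
    change M.presheaf.map i.hom.op ((U.ι.appIso ⊤).inv ((imm U γ).appTop
      ((Scheme.ΓSpecIso (CommRingCat.of P)).inv r)) • (show Γ(M, U.ι ''ᵁ ⊤) from x)) = _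
    rw [QCoh.map_smul']
    congr 1
    simp [imm, Scheme.Opens.toSpecΓ_appTop, Scheme.ΓSpecIso_naturality_assoc, i]
    exact (QCoh.ringMap_map (X := X) _ _ (γ r)).trans (QCoh.ringMap_id _ _)
  have := RelFP.fpVia_equiv (q := RingHom.id P) (q' := γ) e h
  rwa [RelFP.FPVia, show (Module.compHom ((moduleSpecΓFunctor (R := CommRingCat.of P)).obj N) (RingHom.id P) : Module P _) =
    (inferInstance : Module P ((moduleSpecΓFunctor (R := CommRingCat.of P)).obj N)) from Module.ext' _ _ fun _ _ => rfl] at this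

/-- Finite type restricts along open immersions. -/
theorem isFT_restrict (j : Z ⟶ X) [IsOpenImmersion j] {M : X.Modules} (h : CohB1.IsFT M) :
    CohB1.IsFT (M.restrict j) :=
  isFT_of_epi_free fun z => by
    obtain ⟨W, n, r, hz, hr⟩ := exists_epi_free_of_isFT h (j z)
    haveI := hr
    haveI := (Scheme.Modules.restrictAdjunction (j ∣_ W)).isLeftAdjoint
    let i₁ : FlatMod.freeMod (j ⁻¹ᵁ W : Z.Opens).toScheme n ≅
        (Scheme.Modules.restrictFunctor (j ∣_ W)).obj (FlatMod.freeMod (W : Scheme.{u}) n) :=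
      (pullFreeIso (j ∣_ W) n).symm ≪≫ ((Scheme.Modules.restrictFunctorIsoPullback (j ∣_ W)).app _).symm
    let i₂ : (Scheme.Modules.restrictFunctor (j ∣_ W)).obj (M.restrict W.ι) ≅
        (M.restrict j).restrict (j ⁻¹ᵁ W).ι :=
      (Scheme.Modules.restrictFunctorComp (j ∣_ W) W.ι).symm.app M ≪≫
        (Scheme.Modules.restrictFunctorCongr (morphismRestrict_ι j W)).app M ≪≫
        (Scheme.Modules.restrictFunctorComp (j ⁻¹ᵁ W).ι j).app M
    exact ⟨j ⁻¹ᵁ W, n, i₁.hom ≫ (Scheme.Modules.restrictFunctor (j ∣_ W)).map r ≫ i₂.hom, hz,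
      epi_comp' inferInstance (epi_comp' inferInstance inferInstance)⟩

end Groth.Agent.RelPC17
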