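import Groth.Agent.RelPC17.TopDegree
import Groth.Agent.Algz7.PullbackFormal
import Groth.Agent.InvX.GenEpi
import Groth.Agent.S4407
import Groth.Agent.S12131
import Groth.Agent.PicClLib.Basic
import Groth.Agent.H23.LocFinCoprod
import Groth.Agent.FreeEquiv.Basic
import Groth.Agent.QcqsColim.FTSub
import Mathlib.CategoryTheory.Limits.Constructions.Filtered
import Mathlib.RingTheory.Nakayama

/-!
# Proper morphisms with fibres of dimension at most one and without `H¹` of the structure sheaf

The first cohomology is right exact on quasi-coherent modules and commutes with direct sums, so its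
vanishing for the structure sheaf gives it for every module generated by global sections, in particular
for the modules coming from the base.
-/

set_option autoImplicit false
set_option linter.style.haveILetI false
set_option linter.unusedSectionVars false
set_option backward.isDefEq.respectTransparency false
set_option backward.isDefEq.respectTransparency.types false

universe u

open CategoryTheory CategoryTheory.Limits AlgebraicGeometry TopologicalSpace Opposite
open CategoryTheory.Abelian

noncomputable section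

namespace Groth.Agent.RelPC17.DimOne

open Groth.Agent

variable {X : Scheme.{u}}

/-- Functoriality of cohomology. -/
def hmap {M N : X.Modules} (φ : M ⟶ N) (n : ℕ) : Coh.HH X M n →+ Coh.HH X N n :=
  Sheaf.H.map ((QCoh.toAbFunctor X).map φ) n

theorem hmap_comp {M N P : X.Modules} (φ : M ⟶ N) (ψ : N ⟶ P) (n : ℕ) (x : Coh.HH X M n) :
    hmap ψ n (hmap φ n x) = hmap (φ ≫ ψ) n x :=
  PnCoh.Finite.map_map (Y := X.toPresheafedSpace.carrier) ((QCoh.toAbFunctor X).map_comp φ ψ).symm n x

theorem hmap_id {M : X.Modules} (n : ℕ) (x : Coh.HH X M n) : hmap (𝟙 M) n x = x := by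
  show Sheaf.H.map ((QCoh.toAbFunctor X).map (𝟙 M)) n x = x
  rw [CategoryTheory.Functor.map_id, Sheaf.H.map_id_apply]

theorem hmap_add {M N : X.Modules} (φ ψ : M ⟶ N) (n : ℕ) (x : Coh.HH X M n) :
    hmap (φ + ψ) n x = hmap φ n x + hmap ψ n x := by
  show (Sheaf.functorH.{u, u} (Opens.grothendieckTopology X) n).map ((QCoh.toAbFunctor X).map (φ + ψ)) x = _
  rw [Functor.map_add, Functor.map_add]
  rfl

/-- A class in the cohomology of a finite direct sum is the sum of its components. -/
theorem exists_sum_finite {ι : Type u} [Fintype ι] (T : ι → X.Modules) (n : ℕ)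
    (x : Coh.HH X (∐ T) n) :
    ∃ z : ∀ i, Coh.HH X (T i) n, x = ∑ i, hmap (Sigma.ι T i) n (z i) := by
  classical
  let p : ∀ i, ∐ T ⟶ T i := fun i =>
    Sigma.desc fun j => if h : j = i then eqToHom (congrArg T h) else 0
  have hid : ∑ i, p i ≫ Sigma.ι T i = 𝟙 (∐ T) := by
    refine Sigma.hom_ext _ _ fun j => ?_
    rw [Preadditive.comp_sum, Category.comp_id, Finset.sum_eq_single j]
    · simp [p]
    · intro i _ hij
      simp [p, Ne.symm hij]
    · exact fun h => absurd (Finset.mem_univ j) h
  refine ⟨fun i => hmap (p i) n x, ?_⟩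
  let Φ : (∐ T ⟶ ∐ T) →+ Coh.HH X (∐ T) n := AddMonoidHom.mk' (fun φ => hmap φ n x) fun a b => hmap_add a b n x
  have h1 := congrArg Φ hid
  rw [map_sum] at h1
  exact (hmap_id n x).symm.trans (h1.symm.trans (Finset.sum_congr rfl fun i _ => (hmap_comp _ _ n x).symm))

/-- A class in the cohomology of a direct sum on a qcqs scheme comes from finitely many summands. -/
theorem exists_sum [CompactSpace X] [QuasiSeparatedSpace X] {ι : Type u} (T : ι → X.Modules) (n : ℕ)
    (x : Coh.HH X (∐ T) n) :
    ∃ (κ : Type u) (_ : Fintype κ) (j : κ → ι) (z : ∀ k, Coh.HH X (T (j k)) n),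
      x = ∑ k, hmap (Sigma.ι T (j k)) n (z k) := by
  classical
  haveI : CompactSpace (TopCat.of X) := inferInstanceAs (CompactSpace X)
  let D := CoproductsFromFiniteFiltered.liftToFinsetObj (Discrete.functor T)
  let c := CoproductsFromFiniteFiltered.finiteSubcoproductsCocone T
  let hc : IsColimit c := CoproductsFromFiniteFiltered.isColimitFiniteSubproductsCocone T
  haveI : PreservesColimitsOfShape (Finset (Discrete ι)) (QCoh.toAbFunctor X) :=
    KFlatLib.preservesColimitsOfShape_toAb X _
  let hc' := isColimitOfPreserves (QCoh.toAbFunctor X) hc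
  let e := hc'.coconePointUniqueUpToIso (colimit.isColimit (D ⋙ QCoh.toAbFunctor X))
  obtain ⟨s, y, hy⟩ := QcqsColim.exists_stage (T := TopCat.of X) (D ⋙ QCoh.toAbFunctor X) n
    (Sheaf.H.map e.hom n x)
  have hx : hmap (c.ι.app s) n y = x := by
    have h1 : Sheaf.H.map e.inv n (Sheaf.H.map e.hom n x) = x := by
      rw [← Sheaf.H.map_comp_apply, e.hom_inv_id, Sheaf.H.map_id_apply]
    have h2 : colimit.ι (D ⋙ QCoh.toAbFunctor X) s ≫ e.inv = (QCoh.toAbFunctor X).map (c.ι.app s) :=
      hc'.comp_coconePointUniqueUpToIso_inv _ s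
    refine Eq.trans ?_ h1
    rw [← hy]
    exact (PnCoh.Finite.map_map (Y := X.toPresheafedSpace.carrier) h2 n y).symm
  obtain ⟨z, hz⟩ := exists_sum_finite (fun t : (s : Finset (Discrete ι)) => T t.1.as) n y
  refine ⟨(s : Finset (Discrete ι)), inferInstance, fun t => t.1.as, z, ?_⟩
  rw [← hx, hz, map_sum]
  refine Finset.sum_congr rfl fun t _ => ?_
  refine (hmap_comp _ (c.ι.app s) n (z t)).trans ?_
  exact congrArg (fun φ => hmap φ n (z t)) (Sigma.ι_desc _ _)

theorem subsingleton_coprod [CompactSpace X] [QuasiSeparatedSpace X] {ι : Type u} (T : ι → X.Modules)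
    (n : ℕ) (h : ∀ i, Subsingleton (Coh.HH X (T i) n)) : Subsingleton (Coh.HH X (∐ T) n) := by
  refine subsingleton_of_forall_eq 0 fun x => ?_
  obtain ⟨κ, _, j, z, rfl⟩ := exists_sum T n x
  exact Finset.sum_eq_zero fun k _ => by rw [(h (j k)).elim (z k) 0, map_zero]

/-- Coproducts of copies of the structure sheaf are quasi-coherent. -/
theorem isQCoh_coprodO (X : Scheme.{u}) (ι : Type u) :
    Coh.IsQCoh (∐ fun _ : ι => Coh.structureModule X) :=
  H23.LocFinCoprod.isQCoh_coprod fun _ => QCoh.isQCoh_structureModule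

/-- Exactness at the middle term. -/
theorem exact_middle {Y : TopCat.{u}} {T : ShortComplex (CohTop.Ab Y)} (hT : T.ShortExact) (n : ℕ)
    (x : CohTop.H T.X₂ n) (h : Subsingleton (CohTop.H T.X₃ n)) : ∃ y, Sheaf.H.map T.f n y = x :=
  Ext.covariant_sequence_exact₂ _ hT x (h.elim _ _)

variable {Y : Scheme.{u}}

/-- With fibres of dimension at most one, an epimorphism is surjective in degree one. -/
theorem hmap_surjective (f : X ⟶ Y) [IsProper f] [IsAffine Y]
    (hd : ∀ y : Y, topologicalKrullDim ↥(f.fiber y) ≤ (1 : ℕ))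
    {M N : X.Modules} (e : M ⟶ N) [Epi e] (hM : Coh.IsQCoh M) (hN : Coh.IsQCoh N) :
    Function.Surjective (hmap e 1) := by
  let S : ShortComplex X.Modules := ShortComplex.mk (kernel.ι e) e (kernel.condition e)
  have hS : S.ShortExact := { exact := ShortComplex.exact_of_f_is_kernel _ (kernelIsKernel e) }
  haveI := HighVanish.subsingleton_HH_of_fibre_dim f 1 hd (QCoh.isQCoh_kernel hM hN e) 2 (by omega)
  intro y
  exact (QCoh.Ab.connecting_eq_zero_iff (X := X.toPresheafedSpace.carrier) (QCoh.toAb_shortExact hS) 1 y).1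
    (Subsingleton.elim (α := Coh.HH X S.X₁ (1 + 1)) _ _)

/-- If `H¹(X, O) = 0`, the first cohomology of a module generated by global sections vanishes. -/
theorem subsingleton_HH_one_of_epi (f : X ⟶ Y) [IsProper f] [IsAffine Y]
    (hd : ∀ y : Y, topologicalKrullDim ↥(f.fiber y) ≤ (1 : ℕ))
    (hO : Subsingleton (Coh.HH X (Coh.structureModule X) 1)) {F : X.Modules} (hF : Coh.IsQCoh F)
    {ι : Type u} (e : (∐ fun _ : ι => Coh.structureModule X) ⟶ F) [Epi e] :
    Subsingleton (Coh.HH X F 1) := by
  haveI : CompactSpace X := QuasiCompact.compactSpace_of_compactSpace f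
  haveI : QuasiSeparatedSpace X := quasiSeparatedSpace_of_quasiSeparated f
  haveI := subsingleton_coprod (fun _ : ι => Coh.structureModule X) 1 fun _ => hO
  exact (hmap_surjective f hd e (isQCoh_coprodO X ι) hF).subsingleton

/-- Modules coming from an affine base are generated by global sections. -/
theorem exists_epi_pullback (f : X ⟶ Y) [IsAffine Y] {M : Y.Modules} (hM : Coh.IsQCoh M) :
    ∃ (ι : Type u) (e : (∐ fun _ : ι => Coh.structureModule X) ⟶ (Scheme.Modules.pullback f).obj M), Epi e := by
  obtain ⟨ι, p, hp⟩ := S4407.result Y M hM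
  haveI : Epi p := hp
  haveI : (Scheme.Modules.pullback f).PreservesEpimorphisms :=
    Functor.preservesEpimorphisms_of_adjunction (Scheme.Modules.pullbackPushforwardAdjunction f)
  let u := (PicClLib.nonempty_pullback_structureModule f).some
  let a : (∐ fun _ : ι => Coh.structureModule X) ≅
      (Scheme.Modules.pullback f).obj (∐ fun _ : ι => Coh.structureModule Y) :=
    (Sigma.mapIso fun _ => u.symm) ≪≫ (PreservesCoproduct.iso (Scheme.Modules.pullback f) _).symm
  exact ⟨ι, a.hom ≫ (Scheme.Modules.pullback f).map p, epi_comp _ _⟩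

variable {X' Y' : Scheme.{u}}

/-- The direct image of the structure sheaf of a base change along a morphism of affine schemes. -/
theorem nonempty_push_iso (f : X ⟶ Y) (g : Y' ⟶ Y) [IsAffineHom g] (g' : X' ⟶ X) (f' : X' ⟶ Y')
    (h : IsPullback g' f' f g) :
    Nonempty ((Scheme.Modules.pullback f).obj ((Scheme.Modules.pushforward g).obj (Coh.structureModule Y')) ≅
      (Scheme.Modules.pushforward g').obj (Coh.structureModule X')) := by
  haveI : Coh.IsQCoh (Coh.structureModule Y') := QCoh.isQCoh_structureModule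
  haveI := S12131.result g f f' g' h.flip (Coh.structureModule Y')
  refine ⟨?_ ≪≫ (Scheme.Modules.pushforward g').mapIso (PicClLib.nonempty_pullback_structureModule f').some⟩
  exact @asIso _ _ _ _ _ this

/-- The vanishing of `H¹(X, O)` is stable under affine base change. -/
theorem subsingleton_baseChange (f : X ⟶ Y) [IsProper f] [IsAffine Y] [IsAffine Y']
    (hd : ∀ y : Y, topologicalKrullDim ↥(f.fiber y) ≤ (1 : ℕ))
    (hO : Subsingleton (Coh.HH X (Coh.structureModule X) 1))
    (g : Y' ⟶ Y) (g' : X' ⟶ X) (f' : X' ⟶ Y') (h : IsPullback g' f' f g) :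
    Subsingleton (Coh.HH X' (Coh.structureModule X') 1) := by
  haveI : IsAffineHom g := isAffineHom_of_isAffine g
  haveI : IsAffineHom g' := MorphismProperty.of_isPullback h.flip ‹IsAffineHom g›
  obtain ⟨e₀⟩ := nonempty_push_iso f g g' f' h
  have hq : Coh.IsQCoh ((Scheme.Modules.pushforward g).obj (Coh.structureModule Y')) :=
    QCoh.isQCoh_pushforward g QCoh.isQCoh_structureModule
  obtain ⟨ι, e, he⟩ := exists_epi_pullback f hq
  haveI := subsingleton_HH_one_of_epi f hd hO
    (QCoh.isQCoh_pushforward g' QCoh.isQCoh_structureModule) (e ≫ e₀.hom)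
  obtain ⟨E⟩ := QCoh.HH_push_of_isAffineHom g' (M := Coh.structureModule X') QCoh.isQCoh_structureModule 1
  exact E.toEquiv.subsingleton

/-- The structure sheaf of a closed subscheme of an affine scheme as the cokernel of multiplications. -/
theorem exists_presentation {A : Type u} [CommRing A] {K : Type u} [CommRing K] (χ : A →+* K)
    (hχ : Function.Surjective χ) :
    letI : (Spec (CommRingCat.of A)).Over (Spec (CommRingCat.of A)) := ⟨𝟙 _⟩
    ∃ (κ : Type u) (a : κ → A) (_ : ∀ i, a i ∈ RingHom.ker χ)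
      (r : Coh.structureModule (Spec (CommRingCat.of A)) ⟶
        (Scheme.Modules.pushforward (Spec.map (CommRingCat.ofHom χ))).obj
          (Coh.structureModule (Spec (CommRingCat.of K))))
      (w : Sigma.desc (fun i : κ => Formal.smulMod A (Coh.structureModule (Spec (CommRingCat.of A))) (a i)) ≫ r = 0),
      (ShortComplex.mk _ r w).Exact ∧ Epi r := by
  letI : (Spec (CommRingCat.of A)).Over (Spec (CommRingCat.of A)) := ⟨𝟙 _⟩
  let g := Spec.map (CommRingCat.ofHom χ)
  haveI : IsAffineHom g := isAffineHom_of_isAffine g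
  let N := (Scheme.Modules.pushforward g).obj (Coh.structureModule (Spec (CommRingCat.of K)))
  let r : Coh.structureModule (Spec (CommRingCat.of A)) ⟶ N :=
    InvX.ofSect (show Γ(N, ⊤) from (1 : Γ(Spec (CommRingCat.of K), ⊤)))
  haveI : Coh.IsQCoh N := QCoh.isQCoh_pushforward g QCoh.isQCoh_structureModule
  have hK : Coh.IsQCoh (kernel r) :=
    QCoh.isQCoh_kernel QCoh.isQCoh_structureModule ‹Coh.IsQCoh N› r
  have hr1 : InvX.one r = (1 : Γ(Spec (CommRingCat.of K), ⊤)) := InvX.one_ofSect _
  have hrtop : ∀ a : Γ(Spec (CommRingCat.of A), ⊤), r.app ⊤ a = g.appTop a := fun a => by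
    refine (InvX.app_eq_smul r a).trans ?_
    rw [AModX.res_self, hr1]
    exact mul_one (g.appTop a)
  obtain ⟨ι, q, hq⟩ := S4407.result _ N ‹_›
  haveI : Epi q := hq
  have hsurj : Function.Surjective g.appTop := fun b => by
    obtain ⟨a, ha⟩ := hχ ((Scheme.ΓSpecIso (CommRingCat.of K)).hom b)
    refine ⟨(Scheme.ΓSpecIso (CommRingCat.of A)).inv a, ?_⟩
    refine (congr($(Scheme.ΓSpecIso_inv_naturality (CommRingCat.ofHom χ)) a)).symm.trans ?_
    show (Scheme.ΓSpecIso (CommRingCat.of K)).inv (χ a) = b
    rw [ha]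
    exact congr($((Scheme.ΓSpecIso (CommRingCat.of K)).hom_inv_id) b)
  have hepi : Epi r := ⟨fun {T} φ ψ hφψ => by
    rw [← cancel_epi q]
    refine Sigma.hom_ext _ _ fun i => ?_
    let σ := Sigma.ι (fun _ : ι => Coh.structureModule (Spec (CommRingCat.of A))) i
    obtain ⟨a, ha⟩ := hsurj (InvX.one (σ ≫ q))
    have e : InvX.ofSect (M := Coh.structureModule (Spec (CommRingCat.of A))) a ≫ r = σ ≫ q := by
      refine FreeEquiv.hom_ext_one _ _ ?_
      show _ = InvX.one (σ ≫ q)
      refine Eq.trans ?_ ha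
      refine Eq.trans ?_ (hrtop a)
      exact congrArg (fun s => r.app ⊤ s) (InvX.one_ofSect _)
    show σ ≫ q ≫ φ = σ ≫ q ≫ ψ
    rw [← Category.assoc, ← Category.assoc, ← e, Category.assoc, Category.assoc, hφψ]⟩
  obtain ⟨κ, p, hp⟩ := S4407.result _ (kernel r) hK
  haveI : Epi p := hp
  let t : κ → Γ(Spec (CommRingCat.of A), ⊤) := fun i =>
    InvX.one (Sigma.ι (fun _ : κ => Coh.structureModule (Spec (CommRingCat.of A))) i ≫ p ≫ kernel.ι r)
  let a : κ → A := fun i => (Scheme.ΓSpecIso (CommRingCat.of A)).hom (t i)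
  have hpa : Sigma.desc (fun i : κ => Formal.smulMod A (Coh.structureModule (Spec (CommRingCat.of A))) (a i)) =
      p ≫ kernel.ι r := by
    refine Sigma.hom_ext _ _ fun i => ?_
    rw [Sigma.ι_desc]
    refine FreeEquiv.hom_ext_one _ _ ?_
    show _ * (1 : Γ(Spec (CommRingCat.of A), ⊤)) = t i
    rw [mul_one]
    show ((Spec (CommRingCat.of A)).presheaf.map (homOfLE le_top).op).hom
      ((Scheme.ΓSpecIso (CommRingCat.of A)).inv (a i)) = t i
    rw [show (homOfLE (le_top (a := (⊤ : (Spec (CommRingCat.of A)).Opens)))).op = 𝟙 _ from rfl,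
      CategoryTheory.Functor.map_id]
    exact congr($((Scheme.ΓSpecIso (CommRingCat.of A)).hom_inv_id) (t i))
  have ha : ∀ i, a i ∈ RingHom.ker χ := fun i => by
    have h1 : g.appTop (t i) = 0 := by
      refine (hrtop _).symm.trans ?_
      have : (Sigma.ι (fun _ : κ => Coh.structureModule (Spec (CommRingCat.of A))) i ≫ p ≫ kernel.ι r) ≫ r = 0 := by
        rw [Category.assoc, Category.assoc, kernel.condition, comp_zero, comp_zero]
      exact congrArg (fun φ => InvX.one φ) this
    have h2 : (g.appTop ≫ (Scheme.ΓSpecIso (CommRingCat.of K)).hom) (t i) = 0 := by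
      show (Scheme.ΓSpecIso (CommRingCat.of K)).hom (g.appTop (t i)) = 0
      rw [h1, map_zero]
    rw [Scheme.ΓSpecIso_naturality] at h2
    exact h2
  have w : Sigma.desc (fun i : κ => Formal.smulMod A (Coh.structureModule (Spec (CommRingCat.of A))) (a i)) ≫ r = 0 := by
    rw [hpa, Category.assoc, kernel.condition, comp_zero]
  have hl : kernel.lift r _ w = p := (cancel_mono (kernel.ι r)).1 ((kernel.lift_ι _ _ _).trans hpa)
  refine ⟨κ, a, ha, r, w, ?_, hepi⟩
  rw [ShortComplex.exact_iff_epi_kernel_lift]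
  show Epi (kernel.lift r _ w)
  rw [hl]
  exact hp

set_option maxHeartbeats 1000000 in
/-- Over an affine base, a cohomology class of the structure sheaf that dies on the fibre over a closed
point is a multiple by the maximal ideal. -/
theorem mem_smul_top {A : Type u} [CommRing A] [X.Over (Spec (CommRingCat.of A))]
    [IsProper (X ↘ Spec (CommRingCat.of A))]
    (hd : ∀ y, topologicalKrullDim ↥((X ↘ Spec (CommRingCat.of A)).fiber y) ≤ (1 : ℕ))
    {K : Type u} [CommRing K] (χ : A →+* K) (hχ : Function.Surjective χ)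
    (g' : X' ⟶ X) (f' : X' ⟶ Spec (CommRingCat.of K))
    (h : IsPullback g' f' (X ↘ Spec (CommRingCat.of A)) (Spec.map (CommRingCat.ofHom χ)))
    (h0 : Subsingleton (Coh.HH X' (Coh.structureModule X') 1))
    (x : Coh.HH X (Coh.structureModule X) 1) :
    x ∈ (RingHom.ker χ • ⊤ : Submodule A (Coh.HH X (Coh.structureModule X) 1)) := by
  let f := X ↘ Spec (CommRingCat.of A)
  haveI : CompactSpace X := QuasiCompact.compactSpace_of_compactSpace f
  haveI : QuasiSeparatedSpace X := quasiSeparatedSpace_of_quasiSeparated f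
  letI : (Spec (CommRingCat.of A)).Over (Spec (CommRingCat.of A)) := ⟨𝟙 _⟩
  have hf : f ≫ ((Spec (CommRingCat.of A)) ↘ Spec (CommRingCat.of A)) = X ↘ Spec (CommRingCat.of A) :=
    Category.comp_id _
  let g := Spec.map (CommRingCat.ofHom χ)
  haveI : IsAffineHom g := isAffineHom_of_isAffine g
  haveI : IsAffineHom g' := MorphismProperty.of_isPullback h.flip ‹IsAffineHom g›
  obtain ⟨κ, a, ha, r, w, hS, hr⟩ := exists_presentation χ hχ
  -- pull back to `X`
  let F := Scheme.Modules.pullback f
  haveI : F.Additive := (Scheme.Modules.pullbackPushforwardAdjunction f).left_adjoint_additive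
  haveI : F.PreservesEpimorphisms :=
    Functor.preservesEpimorphisms_of_adjunction (Scheme.Modules.pullbackPushforwardAdjunction f)
  haveI : Epi (ShortComplex.mk _ r w).g := hr
  let S' := (ShortComplex.mk _ r w).map F
  have hS' : S'.Exact := hS.map_of_epi_of_preservesCokernel F hr inferInstance
  let N := (Scheme.Modules.pushforward g).obj (Coh.structureModule (Spec (CommRingCat.of K)))
  obtain ⟨eN⟩ := nonempty_push_iso f g g' f' h
  obtain ⟨E⟩ := QCoh.HH_push_of_isAffineHom g' (M := Coh.structureModule X') QCoh.isQCoh_structureModule 1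
  haveI : Subsingleton (Coh.HH X (F.obj N) 1) :=
    QCoh.subsingleton_HH_of_iso eN.symm 1 E.symm.toEquiv.subsingleton
  let u := (PicClLib.nonempty_pullback_structureModule f).some
  let T : ShortComplex X.Modules := ShortComplex.mk (kernel.ι (F.map r)) (F.map r) (kernel.condition _)
  have hT : T.ShortExact := { exact := ShortComplex.exact_of_f_is_kernel _ (kernelIsKernel _) }
  let lft : F.obj (∐ fun _ : κ => Coh.structureModule (Spec (CommRingCat.of A))) ⟶ kernel (F.map r) :=
    kernel.lift (F.map r) S'.f S'.zero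
  haveI : Epi lft := (ShortComplex.exact_iff_epi_kernel_lift S').1 hS'
  have hIq : Coh.IsQCoh (kernel (F.map r)) :=
    QCoh.isQCoh_kernel (QCoh.isQCoh_pullback f QCoh.isQCoh_structureModule)
      (QCoh.isQCoh_pullback f (QCoh.isQCoh_pushforward g QCoh.isQCoh_structureModule)) _
  obtain ⟨y, hy⟩ := exact_middle (Y := X.toPresheafedSpace.carrier) (QCoh.toAb_shortExact hT) 1
    (hmap u.inv 1 x) ‹Subsingleton (Coh.HH X (F.obj N) 1)›
  let c := (PreservesCoproduct.iso F (fun _ : κ => Coh.structureModule (Spec (CommRingCat.of A)))).inv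
  obtain ⟨v, hv⟩ := hmap_surjective f hd (c ≫ lft)
    (H23.LocFinCoprod.isQCoh_coprod fun _ => QCoh.isQCoh_pullback f QCoh.isQCoh_structureModule) hIq y
  obtain ⟨κ', _, j, z, rfl⟩ := exists_sum _ 1 v
  have hy' : hmap (kernel.ι (F.map r)) 1 y = hmap u.inv 1 x := hy
  rw [← hv, hmap_comp] at hy'
  have hx := congrArg (hmap u.hom 1) hy'
  rw [hmap_comp, hmap_comp, u.inv_hom_id, hmap_id] at hx
  rw [← hx, map_sum]
  refine Submodule.sum_mem _ fun k _ => ?_
  rw [hmap_comp]
  have hk : Sigma.ι (fun _ : κ => F.obj (Coh.structureModule (Spec (CommRingCat.of A)))) (j k) ≫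
      ((c ≫ lft) ≫ kernel.ι (F.map r)) ≫ u.hom =
      u.hom ≫ Formal.smulMod A (Coh.structureModule X) (a (j k)) := by
    simp only [c, lft, Category.assoc, kernel.lift_ι_assoc, S', ShortComplex.map_f,
      PreservesCoproduct.inv_hom, ι_comp_sigmaComparison_assoc]
    rw [← Functor.map_comp_assoc, Sigma.ι_desc, Algz7.pullback_smulMod f hf, Algz7.smulMod_naturality]
  rw [hk, ← hmap_comp]
  exact Submodule.smul_mem_smul (ha (j k)) Submodule.mem_top

end Groth.Agent.RelPC17.DimOne
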