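import Groth.Agent.RelPC17.HighVanish
import Groth.Agent.S9686
import Groth.Agent.S10830
import Groth.Prelude.Def_CurvBase

/-!
# Fibres of a birational proper morphism to a two-dimensional base
-/

set_option autoImplicit false
set_option linter.style.haveILetI false
set_option backward.isDefEq.respectTransparency false
set_option backward.isDefEq.respectTransparency.types false

universe u

open CategoryTheory CategoryTheory.Limits AlgebraicGeometry TopologicalSpace Opposite

noncomputable section

namespace Groth.Agent.RelPC17.BirFibre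

open Groth.Agent

theorem residueFieldMap_surjective {X Y : Scheme.{u}} (f : X ⟶ Y) (U : Y.Opens) [IsIso (f ∣_ U)] (ξ : X)
    (hξ : f ξ ∈ U) : Function.Surjective (f.residueFieldMap ξ) := by
  let W := f ⁻¹ᵁ U
  let z : (W : Scheme.{u}) := ⟨ξ, hξ⟩
  have h1 : IsIso ((W.ι ≫ f).stalkMap z) := by
    rw [Scheme.Hom.stalkMap_congr_hom _ ((f ∣_ U) ≫ U.ι) (morphismRestrict_ι f U).symm,
      Scheme.Hom.stalkMap_comp]
    infer_instance
  rw [Scheme.Hom.stalkMap_comp] at h1
  have h2 : IsIso (f.stalkMap (W.ι z)) := @IsIso.of_isIso_comp_right _ _ _ _ _ _ _ inferInstance h1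
  intro b
  obtain ⟨c, rfl⟩ := X.residue_surjective ξ b
  obtain ⟨a, rfl⟩ := ((ConcreteCategory.isIso_iff_bijective (f.stalkMap ξ)).1 h2).2 c
  exact ⟨Y.residue (f ξ) a, congr($(Scheme.residue_residueFieldMap f ξ) a)⟩

/-- The fibres of a proper birational morphism to an irreducible scheme of dimension at most two have
dimension at most one. -/
theorem fibre_dim_le_one {X Y : Scheme.{u}} [IrreducibleSpace X] [IsLocallyNoetherian Y] [IrreducibleSpace Y]
    (f : X ⟶ Y) [LocallyOfFiniteType f] (hY : topologicalKrullDim Y ≤ (2 : ℕ))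
    (U : Y.Opens) (hU : (U : Set Y).Nonempty) [IsIso (f ∣_ U)] (y : Y) :
    topologicalKrullDim ↥(f.fiber y) ≤ (1 : ℕ) := by
  by_cases hy : y ∈ U
  · haveI : Subsingleton ↥(f.fiber y) := ⟨fun a b => by
      apply (f.fiberι y).isEmbedding.injective
      have ha : f (f.fiberι y a) = y := by
        have : f.fiberι y a ∈ Set.range (f.fiberι y) := ⟨a, rfl⟩
        rwa [Scheme.Hom.range_fiberι] at this
      have hb : f (f.fiberι y b) = y := by
        have : f.fiberι y b ∈ Set.range (f.fiberι y) := ⟨b, rfl⟩
        rwa [Scheme.Hom.range_fiberι] at this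
      have := (f ∣_ U).isEmbedding.injective (a₁ := ⟨f.fiberι y a, show f (f.fiberι y a) ∈ U from ha.symm ▸ hy⟩)
        (a₂ := ⟨f.fiberι y b, show f (f.fiberι y b) ∈ U from hb.symm ▸ hy⟩)
        (Subtype.ext (by rw [morphismRestrict_base_coe, morphismRestrict_base_coe]; exact ha.trans hb.symm))
      exact congrArg Subtype.val this⟩
    haveI : Subsingleton (IrreducibleCloseds ↥(f.fiber y)) := ⟨fun s t => by
      apply SetLike.coe_injective
      exact ((Set.subsingleton_of_subsingleton).eq_singleton_of_mem s.isIrreducible.nonempty.some_mem).trans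
        (((Set.subsingleton_of_subsingleton).eq_singleton_of_mem t.isIrreducible.nonempty.some_mem).trans
          (by rw [Subsingleton.elim t.isIrreducible.nonempty.some s.isIrreducible.nonempty.some])).symm⟩
    exact le_trans Order.krullDim_nonpos_of_subsingleton (by simp)
  let ξ := genericPoint X
  obtain ⟨w, hw⟩ : (f ⁻¹ᵁ U : Set X).Nonempty := by
    obtain ⟨v, hv⟩ := hU
    obtain ⟨z, hz⟩ := (f ∣_ U).surjective ⟨v, hv⟩
    exact ⟨z.1, z.2⟩
  have hξ : f ξ ∈ U := ((genericPoint_spec X).specializes trivial).mem_open (f ⁻¹ᵁ U).isOpen hw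
  have hX : topologicalKrullDim X ≤ (2 : ℕ) := by
    refine le_trans (S9686.result f 0 fun η hη => ?_) (by simpa using hY)
    have hη' : closure ({η} : Set X) = Set.univ := by
      rw [irreducibleComponents_eq_singleton] at hη
      exact hη
    have : η = ξ := IsGenericPoint.eq hη' (genericPoint_spec X)
    subst this
    letI := (f.residueFieldMap ξ).hom.toAlgebra
    haveI : Algebra.IsAlgebraic (Y.residueField (f.base ξ)) (X.residueField ξ) := ⟨fun b => by
      obtain ⟨a, rfl⟩ := residueFieldMap_surjective f U ξ hξ b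
      exact isAlgebraic_algebraMap a⟩
    rw [trdeg_eq_zero]
    simp
  let Z : Set X := f ⁻¹' closure {y}
  have hZ : IsClosed Z := isClosed_closure.preimage f.continuous
  have hne : Z ≠ Set.univ := fun h => hy (by
    have : ξ ∈ Z := h ▸ trivial
    exact (specializes_iff_mem_closure.2 this).mem_open U.isOpen hξ)
  have hfin : topologicalKrullDim X ≠ ⊤ := fun h => by
    rw [h] at hX
    exact absurd (top_le_iff.1 hX) (fun h2 => ENat.natCast_ne_top 2 (WithBot.coe_injective h2))
  have hlt := S10830.result X hfin Z hZ hne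
  have hle : topologicalKrullDim ↥(f.fiber y) ≤ topologicalKrullDim Z := by
    refine Topology.IsInducing.topologicalKrullDim_le (f := fun a => (⟨f.fiberι y a, ?_⟩ : Z)) ?_
    · show f (f.fiberι y a) ∈ closure {y}
      have : f.fiberι y a ∈ Set.range (f.fiberι y) := ⟨a, rfl⟩
      rw [Scheme.Hom.range_fiberι] at this
      exact subset_closure this
    · exact ((f.fiberι y).isEmbedding.codRestrict Z _).isInducing
  refine hle.trans ?_
  have h2 := lt_of_lt_of_le hlt hX
  generalize topologicalKrullDim ↥Z = d at h2 ⊢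
  cases d with
  | bot => exact bot_le
  | coe d =>
    have h3 : d < ((2 : ℕ) : ℕ∞) := WithBot.coe_lt_coe.1 h2
    refine WithBot.coe_le_coe.2 ?_
    cases d with
    | top => exact absurd h3 (by simp)
    | coe d =>
      have : d < 2 := by exact_mod_cast h3
      exact_mod_cast (by omega : d ≤ 1)

/-- The dimension of an affine scheme. -/
theorem dim_spec_le (A : Type u) [CommRing A] (n : ℕ) (h : ringKrullDim A ≤ n) :
    topologicalKrullDim ↥(Spec (CommRingCat.of A)) ≤ n :=
  (PrimeSpectrum.topologicalKrullDim_eq_ringKrullDim A).trans_le h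

end Groth.Agent.RelPC17.BirFibre
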