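import Groth.Agent.RelPC17.ProperSystem
import Groth.Agent.Approx.FibreDimStage
import Groth.Agent.AmpleVan.FibreDim
import Groth.Agent.QCoh.RpushAbGod
import Groth.Agent.QCoh.RpushModel
import Groth.Agent.QCoh.RpushStalk
import Groth.Agent.QCoh.LocFree
import Groth.Agent.KFlatLib.Scheme.Exact
import Groth.Agent.SiteBase.ProperDescent.Assemble
import Groth.Agent.S0800
import Groth.Agent.S2128
import Groth.Agent.S0403

/-!
# Higher direct images vanish above the dimension of the fibres, without Noetherian hypotheses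
-/

set_option autoImplicit false
set_option linter.style.haveILetI false
set_option backward.isDefEq.respectTransparency false
set_option backward.isDefEq.respectTransparency.types false

universe u

open CategoryTheory CategoryTheory.Limits AlgebraicGeometry TopologicalSpace Opposite

noncomputable section

namespace Groth.Agent.RelPC17.HighVanish

open Groth.Agent

/-- Over a Noetherian base, higher direct images of quasi-coherent modules vanish above the dimension of
the fibres. -/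
theorem isZero_RpushAb_noetherian {X Y : Scheme.{u}} (f : X ⟶ Y) [IsProper f] [IsLocallyNoetherian Y]
    [CompactSpace X] [QuasiSeparatedSpace X]
    (d : ℕ) (hd : ∀ y : Y, topologicalKrullDim ↥(f.fiber y) ≤ d) {G : X.Modules} (hG : Coh.IsQCoh G)
    (p : ℕ) (hp : d < p) : IsZero ((Coh.RpushAb f p).obj (Coh.toAb G)) := by
  obtain ⟨I, _, _, D, c, hc, hD, rfl⟩ := S2128.result X G hG
  haveI := S0800.result f p I
  haveI : PreservesColimitsOfShape I (QCoh.toAbFunctor X) := KFlatLib.preservesColimitsOfShape_toAb X I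
  have hcol := isColimitOfPreserves (QCoh.toAbFunctor X ⋙ Coh.RpushAb f p) hc
  have hz : ∀ i, IsZero ((Coh.RpushAb f p).obj (Coh.toAb (D.obj i))) := fun i =>
    ProperDescent.isZero_of_stalks _ fun y =>
      AmpleVan.FibreVanish.isZero_stalk_RpushAb_of_fibre_dim f y d (hd y)
        ⟨QCoh.isQCoh_of_isFP (hD i), QCoh.isFT_of_isFP (hD i)⟩ p hp
  rw [IsZero.iff_id_eq_zero]
  exact hcol.hom_ext fun i => (hz i).eq_of_src _ _

/-- Fibres embed along an embedding of sources. -/
theorem dim_fiber_le {X X' S S' : Scheme.{u}} (g : X' ⟶ S') (f : X ⟶ S) (w : X' ⟶ X)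
    (hw : Topology.IsEmbedding w) (s' : S') (s : S) (h : ∀ x, g x = s' → f (w x) = s) :
    topologicalKrullDim ↥(g.fiber s') ≤ topologicalKrullDim ↥(f.fiber s) := by
  let r : g ⁻¹' {s'} → f ⁻¹' {s} := fun x => ⟨w x.1, h x.1 x.2⟩
  have hr : Topology.IsEmbedding r :=
    (hw.comp Topology.IsEmbedding.subtypeVal).codRestrict _ fun x => h x.1 x.2
  exact (((f.fiberHomeo s).symm.isEmbedding.comp hr).comp
    (g.fiberHomeo s').isEmbedding).isInducing.topologicalKrullDim_le

/-- The affine case. -/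
theorem subsingleton_HH_of_fibre_dim {X S : Scheme.{u}} (f : X ⟶ S) [IsProper f] [IsAffine S] (d : ℕ)
    (hd : ∀ s : S, topologicalKrullDim ↥(f.fiber s) ≤ d) {M : X.Modules} (hM : Coh.IsQCoh M)
    (p : ℕ) (hp : d < p) : Subsingleton (Coh.HH X M p) := by
  obtain ⟨I, _, _, DX, DS, φ, cX, cS, hX, hS, eX, eS, haff, hφ, hw, hcl, -⟩ :=
    RelPC17.exists_proper_system_closed f
  haveI : ∀ i, IsProper (φ.app i) := fun i => (hφ i).1
  haveI : ∀ i, CompactSpace (DS.obj i) := fun i => (hφ i).2.1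
  haveI : ∀ i, IsLocallyNoetherian (DS.obj i) := fun i => by
    exact Approx.isLocallyNoetherian_of_ftz (hφ i).2.2
  haveI : ∀ (i j : I) (a : i ⟶ j), IsAffineHom (DS.map a) := fun i j a => (haff i j a).2
  haveI : ∀ {i j : I} (a : i ⟶ j), IsAffineHom (DS.map a) := fun {i j} a => (haff i j a).2
  haveI : ∀ {i j : I} (a : i ⟶ j), IsAffineHom (DX.map a) := fun {i j} a => (haff i j a).1
  have hd' : ∀ s : cS.pt, topologicalKrullDim ↥((eX.hom ≫ f ≫ eS.inv).fiber s) ≤ d := fun s => by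
    refine (dim_fiber_le _ f eX.hom eX.hom.isEmbedding s (eS.hom s) fun x hx => ?_).trans (hd _)
    rw [← hx, ← Scheme.Hom.comp_apply, ← Scheme.Hom.comp_apply]
    simp
  obtain ⟨i, hi⟩ := Approx.FibreDimStage.exists_stage DX DS φ cX cS hX hS hcl (eX.hom ≫ f ≫ eS.inv)
    (fun i => by rw [Category.assoc, Category.assoc]; exact (hw i).symm) d hd'
  haveI := isAffineHom_π_app DX cX hX i
  haveI := isAffineHom_π_app DS cS hS i
  let g : X ⟶ DX.obj i := eX.inv ≫ cX.π.app i
  let σ : S ⟶ DS.obj i := eS.inv ≫ cS.π.app i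
  have hgσ : g ≫ φ.app i = f ≫ σ := by
    simp only [g, σ, Category.assoc, hw i, Iso.inv_hom_id_assoc]
  haveI : CompactSpace (DX.obj i) := QuasiCompact.compactSpace_of_compactSpace (φ.app i)
  haveI : QuasiSeparatedSpace (DX.obj i) := quasiSeparatedSpace_of_quasiSeparated (φ.app i)
  have h0 := isZero_RpushAb_noetherian (φ.app i) d hi (QCoh.isQCoh_pushforward g hM) p hp
  obtain ⟨e₁⟩ := QCoh.nonempty_RpushAb_affine_push g (φ.app i) hM p
  obtain ⟨e₂⟩ := QCoh.nonempty_RpushAb_affine_base f σ hM p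
  rw [hgσ] at e₁
  have h1 : IsZero ((Coh.pushAb σ).obj ((Coh.RpushAb f p).obj (Coh.toAb M))) :=
    h0.of_iso (e₂.symm ≪≫ e₁.symm)
  obtain ⟨e⟩ := QCoh.nonempty_HH_equiv_sections f hM p
  have h2 : IsZero (((Coh.pushAb σ).obj ((Coh.RpushAb f p).obj (Coh.toAb M))).obj.obj (op ⊤)) :=
    Functor.map_isZero (sheafToPresheaf (Opens.grothendieckTopology (DS.obj i)) AddCommGrpCat.{u} ⋙
      (evaluation _ _).obj (op (⊤ : (DS.obj i).Opens))) h1
  haveI : Subsingleton ↑(((Coh.RpushAb f p).obj (Coh.toAb M)).obj.obj (op ⊤)) :=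
    AddCommGrpCat.subsingleton_of_isZero h2
  exact e.toEquiv.subsingleton

/-- A proper morphism to an affine scheme with bounded fibres maps affinely to a proper scheme over a
Noetherian ring with the same bound. -/
theorem exists_noetherian_model {A : Type u} [CommRing A] {X : Scheme.{u}}
    (f : X ⟶ Spec (CommRingCat.of A)) [IsProper f] (d : ℕ)
    (hd : ∀ s, topologicalKrullDim ↥(f.fiber s) ≤ d) :
    ∃ (A₀ : Type u) (_ : CommRing A₀) (_ : IsNoetherianRing A₀) (φ : A₀ →+* A) (Z : Scheme.{u})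
      (π : Z ⟶ Spec (CommRingCat.of A₀)) (g : X ⟶ Z), IsProper π ∧ IsAffineHom g ∧
      g ≫ π = f ≫ Spec.map (CommRingCat.ofHom φ) ∧
      ∀ s, topologicalKrullDim ↥(π.fiber s) ≤ d := by
  obtain ⟨I, _, _, DX, DS, φ, cX, cS, hX, hS, eX, eS, haff, hφ, hw, hcl, hDS⟩ :=
    RelPC17.exists_proper_system_closed f
  haveI : ∀ i, IsProper (φ.app i) := fun i => (hφ i).1
  haveI : ∀ i, CompactSpace (DS.obj i) := fun i => (hφ i).2.1
  haveI : ∀ (i j : I) (a : i ⟶ j), IsAffineHom (DS.map a) := fun i j a => (haff i j a).2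
  haveI : ∀ {i j : I} (a : i ⟶ j), IsAffineHom (DX.map a) := fun {i j} a => (haff i j a).1
  have hd' : ∀ s : cS.pt, topologicalKrullDim ↥((eX.hom ≫ f ≫ eS.inv).fiber s) ≤ d := fun s => by
    refine (dim_fiber_le _ f eX.hom eX.hom.isEmbedding s (eS.hom s) fun x hx => ?_).trans (hd _)
    rw [← hx, ← Scheme.Hom.comp_apply, ← Scheme.Hom.comp_apply]
    simp
  obtain ⟨i, hi⟩ := Approx.FibreDimStage.exists_stage DX DS φ cX cS hX hS hcl (eX.hom ≫ f ≫ eS.inv)
    (fun i => by rw [Category.assoc, Category.assoc]; exact (hw i).symm) d hd'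
  haveI := hDS i
  haveI : IsLocallyNoetherian (DS.obj i) := by
    exact Approx.isLocallyNoetherian_of_ftz (hφ i).2.2
  haveI := isAffineHom_π_app DX cX hX i
  let T := DS.obj i
  let τ : Spec (CommRingCat.of A) ⟶ Spec Γ(T, ⊤) := eS.inv ≫ cS.π.app i ≫ T.isoSpec.hom
  haveI : IsNoetherianRing Γ(T, ⊤) :=
    IsLocallyNoetherian.component_noetherian ⟨⊤, isAffineOpen_top T⟩
  refine ⟨Γ(T, ⊤), inferInstance, inferInstance, (Spec.preimage τ).hom, DX.obj i,
    φ.app i ≫ T.isoSpec.hom, eX.inv ≫ cX.π.app i, inferInstance, inferInstance, ?_, fun s => ?_⟩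
  · rw [show Spec.map (CommRingCat.ofHom (Spec.preimage τ).hom) = τ from Spec.map_preimage τ]
    simp only [τ, Category.assoc, reassoc_of% (hw i), Iso.inv_hom_id_assoc]
  · refine (dim_fiber_le _ (φ.app i) (𝟙 _) (𝟙 (DX.obj i) : _ ⟶ _).isEmbedding s (T.isoSpec.inv s)
      fun x hx => ?_).trans (hi _)
    subst hx
    show (φ.app i) x = ((φ.app i ≫ T.isoSpec.hom) ≫ T.isoSpec.inv) x
    simp
    rfl

/-- The stalk at a point with an affine neighbourhood above which the cohomology vanishes. -/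
theorem isZero_stalk_of_HH {X S : Scheme.{u}} (f : X ⟶ S) [QuasiCompact f] [QuasiSeparated f]
    {M : X.Modules} (hM : Coh.IsQCoh M) {V : S.Opens} (hV : IsAffineOpen V) (p : ℕ)
    (h : Subsingleton (Coh.HH _ (M.restrict (f ⁻¹ᵁ V).ι) p)) {y : S} (hy : y ∈ V) :
    IsZero (TopCat.Presheaf.stalk ((Coh.RpushAb f p).obj (Coh.toAb M)).obj y) := by
  haveI : HasInjectiveResolutions X.Modules := inferInstance
  letI := QCoh.modHH (QCoh.rhoV f V) (M.restrict (f ⁻¹ᵁ V).ι) p
  obtain ⟨e⟩ := QCoh.nonempty_sections_HH (f := f) hM hV p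
  let N := (Coh.Rpush f p).obj M
  haveI : Subsingleton Γ(N, V) := e.toEquiv.subsingleton
  letI := QCoh.stalkAlg (X := S) hy
  letI := QCoh.stalkModule N hy
  haveI := QCoh.isScalarTower_stalk N hy
  haveI := QCoh.isLocalization_stalk' hV hy
  haveI := QCoh.isLocalizedModule_germLin (QCoh.isQCoh_Rpush f hM p) hV hy
  haveI : Subsingleton (N.presheaf.stalk y) := by
    refine subsingleton_of_forall_eq 0 fun x => ?_
    obtain ⟨⟨m, s⟩, hm⟩ := IsLocalizedModule.surj (hV.primeIdealOf ⟨y, hy⟩).asIdeal.primeCompl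
      (QCoh.germLin N hy) x
    rw [Subsingleton.elim m 0, map_zero] at hm
    have hu := ((Module.End.isUnit_iff _).1 (IsLocalizedModule.map_units (QCoh.germLin N hy) s)).1
    exact hu (a₁ := x) (a₂ := 0) (hm.trans (map_zero _).symm)
  obtain ⟨e'⟩ := S11319.result f M p
  have hz : IsZero (TopCat.Presheaf.stalk (Coh.toAb N).obj y) :=
    @AddCommGrpCat.isZero_of_subsingleton _ (‹Subsingleton (N.presheaf.stalk y)›)
  exact hz.of_iso (((TopCat.Presheaf.stalkFunctor AddCommGrpCat y).mapIso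
    ((sheafToPresheaf _ _).mapIso e')).symm)

/-- An affine neighbourhood with bounded fibres. -/
theorem exists_nhd_dim {X Y : Scheme.{u}} (f : X ⟶ Y) [IsProper f] (y : Y) (d : ℕ)
    (hd : topologicalKrullDim ↥(f.fiber y) ≤ d) :
    ∃ V : Y.Opens, y ∈ V ∧ IsAffineOpen V ∧ ∀ s : V, topologicalKrullDim ↥((f ∣_ V).fiber s) ≤ d := by
  obtain ⟨_, ⟨V, hV, rfl⟩, hyV, hVsub⟩ :=
    Y.isBasis_affineOpens.exists_subset_of_mem_open (show y ∈ {s : Y | topologicalKrullDim (f.fiber s) ≤ d}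
      from hd) (S0403.result f d)
  refine ⟨V, hyV, hV, fun s => ?_⟩
  refine (dim_fiber_le (f ∣_ V) f (f ⁻¹ᵁ V).ι (f ⁻¹ᵁ V).ι.isEmbedding s s.1 fun x hx => ?_).trans (hVsub s.2)
  rw [← hx, ← Scheme.Hom.comp_apply, ← morphismRestrict_ι]
  rfl

theorem isZero_stalk {X Y : Scheme.{u}} (f : X ⟶ Y) [IsProper f] (y : Y) (d : ℕ)
    (hd : topologicalKrullDim ↥(f.fiber y) ≤ d) {M : X.Modules} (hM : Coh.IsQCoh M) (p : ℕ)
    (hp : d < p) : IsZero (TopCat.Presheaf.stalk ((Coh.RpushAb f p).obj (Coh.toAb M)).obj y) := by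
  obtain ⟨V, hyV, hV, hdV⟩ := exists_nhd_dim f y d hd
  haveI : IsAffine V.toScheme := hV
  exact isZero_stalk_of_HH f hM hV p
    (subsingleton_HH_of_fibre_dim (f ∣_ V) d hdV (QCoh.isQCoh_restrict _ hM) p hp) hyV

end Groth.Agent.RelPC17.HighVanish
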