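import Groth.Agent.RelPC17.DimOneFibres
import Groth.Agent.H23.SeesawGlobal
import Groth.Agent.AmpleVan.ThickPush
import Groth.Agent.H23.PullPush

/-!
# Invertible modules trivial on the fibres, for fibres of dimension at most one without `H¹`

Such a module is trivial near every fibre, so its direct image is invertible.
-/

set_option autoImplicit false
set_option linter.style.haveILetI false
set_option linter.unusedSectionVars false
set_option backward.isDefEq.respectTransparency false
set_option backward.isDefEq.respectTransparency.types false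
set_option maxHeartbeats 1000000

universe u

open CategoryTheory CategoryTheory.Limits AlgebraicGeometry TopologicalSpace Opposite

noncomputable section

namespace Groth.Agent.RelPC17.FibTriv

open Groth.Agent DimOne

section Lift

variable {X : Scheme.{u}}

/-- A short exact sequence with vanishing first cohomology is surjective on sections. -/
theorem app_top_surjective {S : ShortComplex X.Modules} (hS : S.ShortExact)
    (h : Subsingleton (Coh.HH X S.X₁ 1)) (z : Γ(S.X₃, ⊤)) : ∃ s : Γ(S.X₂, ⊤), S.g.app ⊤ s = z := by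
  let hT := QCoh.toAb_shortExact hS
  let z' : Coh.HH X S.X₃ 0 := (Sheaf.H.equiv₀ (Coh.toAb S.X₃) isTerminalTop).symm z
  have hex := (ShortComplex.ab_exact_iff _).1
    (CategoryTheory.Abelian.Ext.covariant_sequence_exact₃'
      ((constantSheaf (Opens.grothendieckTopology X) AddCommGrpCat.{u}).obj (AddCommGrpCat.of (ULift ℤ)))
      hT 0 1 rfl) z' (h.elim _ _)
  obtain ⟨s, hs⟩ := hex
  have hs' : hmap S.g 0 s = z' := hs
  refine ⟨Sheaf.H.equiv₀ (Coh.toAb S.X₂) isTerminalTop s, ?_⟩
  refine (Sheaf.H.equiv₀_naturality isTerminalTop ((QCoh.toAbFunctor X).map S.g) s).trans ?_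
  exact (congrArg (Sheaf.H.equiv₀ (Coh.toAb S.X₃) isTerminalTop) hs').trans
    ((Sheaf.H.equiv₀ (Coh.toAb S.X₃) isTerminalTop).apply_symm_apply z)

end Lift

section OverRing

variable {A : Type u} [CommRing A] [IsNoetherianRing A] {X : Scheme.{u}} [X.Over (Spec (CommRingCat.of A))]
  [IsProper (X ↘ Spec (CommRingCat.of A))]
  (hd : ∀ y, topologicalKrullDim ↥((X ↘ Spec (CommRingCat.of A)).fiber y) ≤ (1 : ℕ))
  {L : X.Modules} (hL : Coh.IsQCoh L) (J : Ideal A) {Z : Scheme.{u}} (i : Z ⟶ X) [IsClosedImmersion i]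
  {q : Z ⟶ Spec (CommRingCat.of (A ⧸ J))}
  (sq : IsPullback i q (X ↘ Spec (CommRingCat.of A)) (Spec.map (CommRingCat.ofHom (Ideal.Quotient.mk J))))
  (h0 : Subsingleton (Coh.HH Z ((Scheme.Modules.pullback i).obj L) 1))

variable (L) in
/-- The sequence of the multiples of the ideal. -/
abbrev kerSeq : ShortComplex X.Modules :=
  ShortComplex.mk (kernel.ι (cokernel.π (Formal.smulFamily J L))) (cokernel.π (Formal.smulFamily J L))
    (kernel.condition _)

theorem shortExact_kerSeq : (kerSeq L J).ShortExact :=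
  { exact := ShortComplex.exact_of_f_is_kernel _ (kernelIsKernel _) }

theorem isQCoh_cok {M : X.Modules} (hM : Coh.IsQCoh M) : Coh.IsQCoh (cokernel (Formal.smulFamily J M)) :=
  QCoh.isQCoh_cokernel (QCoh.isQCoh_colimit (Discrete.functor fun _ : J => M) fun _ => hM) hM _

include hd hL in
/-- Classes of the multiples of `J` come from multiples of classes. -/
theorem mem_smul_of_kernel (y : Coh.HH X (kernel (cokernel.π (Formal.smulFamily J L))) 1) :
    ∃ (κ : Type u) (_ : Fintype κ) (a : κ → J) (z : κ → Coh.HH X L 1)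
      (l : (∐ fun _ : J => L) ⟶ kernel (cokernel.π (Formal.smulFamily J L))),
      l ≫ kernel.ι _ = Formal.smulFamily J L ∧
      y = ∑ k, hmap (Sigma.ι (fun _ : J => L) (a k) ≫ l) 1 (z k) := by
  let f := X ↘ Spec (CommRingCat.of A)
  haveI : CompactSpace X := QuasiCompact.compactSpace_of_compactSpace f
  haveI : QuasiSeparatedSpace X := quasiSeparatedSpace_of_quasiSeparated f
  let S : ShortComplex X.Modules :=
    ShortComplex.mk (Formal.smulFamily J L) (cokernel.π (Formal.smulFamily J L)) (cokernel.condition _)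
  have hS : S.Exact := ShortComplex.exact_of_g_is_cokernel S (cokernelIsCokernel _)
  let l := kernel.lift (cokernel.π (Formal.smulFamily J L)) (Formal.smulFamily J L) (cokernel.condition _)
  haveI : Epi l := (ShortComplex.exact_iff_epi_kernel_lift S).1 hS
  have hq : Coh.IsQCoh (∐ fun _ : J => L) := H23.LocFinCoprod.isQCoh_coprod fun _ => hL
  obtain ⟨v, hv⟩ := hmap_surjective f hd l hq (QCoh.isQCoh_kernel hL (isQCoh_cok J hL) _) y
  obtain ⟨κ, hκ, a, z, rfl⟩ := exists_sum _ 1 v
  refine ⟨κ, hκ, a, z, l, kernel.lift_ι _ _ _, ?_⟩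
  rw [← hv, map_sum]
  exact Finset.sum_congr rfl fun k _ => hmap_comp _ _ _ _

include hL sq h0 in
theorem subsingleton_cok : Subsingleton (Coh.HH X (cokernel (Formal.smulFamily J L)) 1) := by
  haveI := AmpleVan.unit_desc_iso sq hL
  obtain ⟨h, hiso⟩ := this
  haveI := hiso
  let e := asIso (cokernel.desc _ _ h)
  haveI : IsAffineHom i := inferInstance
  obtain ⟨E⟩ := QCoh.HH_push_of_isAffineHom i (M := (Scheme.Modules.pullback i).obj L)
    (QCoh.isQCoh_pullback i hL) 1
  exact QCoh.subsingleton_HH_of_iso e.symm 1 E.symm.toEquiv.subsingleton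

include hd hL sq h0 in
/-- Vanishing on the fibre gives that the classes are multiples of the ideal. -/
theorem top_le_smul : (⊤ : Submodule A (Coh.HH X L 1)) ≤ J • ⊤ := by
  intro x _
  haveI := subsingleton_cok hL J i sq h0
  obtain ⟨y, hy⟩ := exact_middle (Y := X.toPresheafedSpace.carrier)
    (QCoh.toAb_shortExact (shortExact_kerSeq (L := L) J)) 1 x this
  obtain ⟨κ, _, a, z, l, hl, rfl⟩ := mem_smul_of_kernel hd hL J y
  have hy' : hmap (kernel.ι (cokernel.π (Formal.smulFamily J L))) 1
      (∑ k, hmap (Sigma.ι (fun _ : J => L) (a k) ≫ l) 1 (z k)) = x := hy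
  rw [← hy', map_sum]
  refine Submodule.sum_mem _ fun k _ => ?_
  rw [hmap_comp, Category.assoc, hl, Formal.smulFamily, Sigma.ι_desc]
  exact Submodule.smul_mem_smul (a k).2 Submodule.mem_top

include hd hL sq h0 in
/-- With vanishing `H¹`, sections on the fibre lift. -/
theorem exists_lift (hX : Subsingleton (Coh.HH X L 1))
    (w : Γ((Scheme.Modules.pullback i).obj L, ⊤)) : ∃ s : Γ(L, ⊤), InvX.pullElt i s = w := by
  obtain ⟨h, hiso⟩ := AmpleVan.unit_desc_iso sq hL
  haveI := hiso
  let e := asIso (cokernel.desc _ _ h)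
  have hK : Subsingleton (Coh.HH X (kerSeq L J).X₁ 1) := by
    refine subsingleton_of_forall_eq 0 fun y => ?_
    obtain ⟨κ, _, a, z, l, -, rfl⟩ := mem_smul_of_kernel hd hL J y
    exact Finset.sum_eq_zero fun k _ => by rw [hX.elim (z k) 0, map_zero]
  obtain ⟨s, hs⟩ := app_top_surjective (shortExact_kerSeq (L := L) J) hK
    (e.inv.app ⊤ (show Γ((Scheme.Modules.pushforward i).obj ((Scheme.Modules.pullback i).obj L), ⊤) from w))
  refine ⟨s, ?_⟩
  have h1 := congrArg (e.hom.app ⊤) hs
  have h2 : ∀ v, e.hom.app ⊤ (e.inv.app ⊤ v) = v := fun v => congr(($(e.inv_hom_id)).app ⊤ v)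
  rw [h2] at h1
  exact (congr(($(cokernel.π_desc _ _ h)).app ⊤ s)).symm.trans h1

omit J i q sq h0 in
include hd hL in
/-- Over an affine base, vanishing on all closed fibres gives vanishing. -/
theorem subsingleton_HH_one (hLc : Coh.IsCoh L)
    (h : ∀ m : Ideal A, m.IsMaximal → Subsingleton (Coh.HH
      (pullback (X ↘ Spec (CommRingCat.of A)) (Spec.map (CommRingCat.ofHom (Ideal.Quotient.mk m))))
      ((Scheme.Modules.pullback (pullback.fst (X ↘ Spec (CommRingCat.of A))
        (Spec.map (CommRingCat.ofHom (Ideal.Quotient.mk m))))).obj L) 1)) :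
    Subsingleton (Coh.HH X L 1) := by
  haveI := S0002.result A X L hLc 1
  let H := Coh.HH X L 1
  have hann : (⊤ : Submodule A H).annihilator = ⊤ := by
    by_contra hne
    obtain ⟨m, hm, hle⟩ := Ideal.exists_le_maximal _ hne
    haveI : IsClosedImmersion (Spec.map (CommRingCat.ofHom (Ideal.Quotient.mk m))) :=
      IsClosedImmersion.spec_of_surjective _ Ideal.Quotient.mk_surjective
    obtain ⟨r, hr, hr0⟩ := Submodule.exists_sub_one_mem_and_smul_eq_zero_of_fg_of_le_smul m
      (⊤ : Submodule A H) Module.Finite.fg_top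
      (top_le_smul hd hL m _ (IsPullback.of_hasPullback _ _) (h m hm))
    have hrm : r ∈ m := hle (Submodule.mem_annihilator.2 hr0)
    exact hm.ne_top ((Ideal.eq_top_iff_one m).2 (by simpa using m.sub_mem hrm hr))
  refine subsingleton_of_forall_eq 0 fun x => ?_
  have h1 : (1 : A) ∈ (⊤ : Submodule A H).annihilator := hann ▸ trivial
  simpa using Submodule.mem_annihilator.1 h1 x trivial

end OverRing

section Global

open H23 H23.SeesawGlobal H23.TrivBasic

variable {X Y : Scheme.{u}} (f : X ⟶ Y) [IsProper f] {L : X.Modules} (hL : PicF.IsInvertible L)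
  (hd : ∀ y : Y, topologicalKrullDim ↥(f.fiber y) ≤ (1 : ℕ))
  (hH1 : ∀ y : Y, Subsingleton (Coh.HH (f.fiber y) (Coh.structureModule (f.fiber y)) 1))
  (hT : ∀ y : Y, FieldTriv f L y)

include hL hd hH1 hT in
/-- A fibrewise trivial module has a frame near the fibre over a closed point. -/
theorem exists_frame_closed [IsLocallyNoetherian Y] (y : Y) (hy : IsClosed ({y} : Set Y)) :
    ∃ V : Y.Opens, y ∈ V ∧ ∃ s : Γ(L, f ⁻¹ᵁ V), InvX.IsFrame s := by
  obtain ⟨A, _, _, g, _, x, rfl⟩ := exists_chart y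
  refine exists_frame_of_chart f A g ?_
  let π := chart f A g ↘ Spec (CommRingCat.of A)
  haveI : IsProper π := MorphismProperty.pullback_snd f g inferInstance
  have hsq : IsPullback (pullback.fst f g) π f g := IsPullback.of_hasPullback f g
  have hdA := TopDegree.fibre_bound_baseChange hsq 1 hd
  have hLA : PicF.IsInvertible (chartMod f L A g) := PicClLib.isInvertible_pullback _ hL
  haveI : IsLocallyNoetherian (chart f A g) := LocallyOfFiniteType.isLocallyNoetherian π
  have hLAc : Coh.IsCoh (chartMod f L A g) := CurveDeg.isCoh_of_isInvertible hLA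
  have hpt : ∀ (m : Ideal A) (hm : m.IsMaximal),
      letI := Ideal.Quotient.field m
      Seesaw.specAlg A (A ⧸ m) (IsLocalRing.closedPoint (A ⧸ m)) = (⟨m, hm.isPrime⟩ : PrimeSpectrum A) := by
    intro m hm
    letI := Ideal.Quotient.field m
    refine PrimeSpectrum.ext ?_
    show Ideal.comap (Ideal.Quotient.mk m) (IsLocalRing.closedPoint (A ⧸ m)).asIdeal = m
    rw [show (IsLocalRing.closedPoint (A ⧸ m)).asIdeal = ⊥ from IsLocalRing.maximalIdeal_eq_bot,
      ← RingHom.ker_eq_comap_bot, Ideal.mk_ker]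
  have htriv : ∀ (m : Ideal A) (hm : m.IsMaximal),
      Triv ((Scheme.Modules.pullback (pullback.fst π (Seesaw.specAlg A (A ⧸ m)))).obj (chartMod f L A g)) :=
    fun m hm => by
      letI := Ideal.Quotient.field m
      refine triv_chart f A g (hT (g ⟨m, hm.isPrime⟩) (A ⧸ m) _ ?_)
      rw [Scheme.Hom.comp_apply, hpt m hm]
  have hH : ∀ (m : Ideal A) (_ : m.IsMaximal), Subsingleton (Coh.HH (pullback π (Seesaw.specAlg A (A ⧸ m)))
      ((Scheme.Modules.pullback (pullback.fst π (Seesaw.specAlg A (A ⧸ m)))).obj (chartMod f L A g)) 1) := by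
    intro m hm
    letI := Ideal.Quotient.field m
    have hv := (vanishAt_of_fiber f (g ⟨m, hm.isPrime⟩) (hd _) (hH1 _)).baseChange hsq
    exact QCoh.subsingleton_HH_of_iso (htriv m hm).some.symm 1
      (hv (A ⧸ m) _ (hpt m hm) _ _ (IsPullback.of_hasPullback _ _))
  have hX1 : Subsingleton (Coh.HH (chart f A g) (chartMod f L A g) 1) :=
    subsingleton_HH_one hdA hLAc.1 hLAc hH
  -- the point is maximal
  have hm : x.asIdeal.IsMaximal := by
    rw [← PrimeSpectrum.isClosed_singleton_iff_isMaximal]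
    have h := hy.preimage g.continuous
    have e : ({x} : Set (PrimeSpectrum A)) = g ⁻¹' {g x} :=
      Set.ext fun z => ⟨fun hz => congrArg g hz, fun hz => g.isOpenEmbedding.injective hz⟩
    rw [e]
    exact h
  let i := pullback.fst π (Seesaw.specAlg A (A ⧸ x.asIdeal))
  haveI : IsClosedImmersion (Seesaw.specAlg A (A ⧸ x.asIdeal)) :=
    IsClosedImmersion.spec_of_surjective _ Ideal.Quotient.mk_surjective
  obtain ⟨w, hw⟩ := (htriv x.asIdeal hm).exists_frame
  obtain ⟨s, hs⟩ := exists_lift hdA hLAc.1 x.asIdeal i (IsPullback.of_hasPullback _ _) (hH _ hm) hX1 w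
  let C : Set ↥(Spec (CommRingCat.of A)) := π '' ((locus s : Set (chart f A g))ᶜ)
  have hC : IsClosed C := (Scheme.Hom.isClosedMap π) _ (locus s).isOpen.isClosed_compl
  refine ⟨⟨Cᶜ, hC.isOpen_compl⟩, fun hx => ?_, _, isFrame_res_of_le_locus (s := s) fun z hz => ?_⟩
  · obtain ⟨z, hz, hzx⟩ := hx
    letI := Ideal.Quotient.field x.asIdeal
    obtain ⟨z', hz', -⟩ := Scheme.Pullback.exists_preimage_pullback (f := π)
      (g := Seesaw.specAlg A (A ⧸ x.asIdeal)) z (IsLocalRing.closedPoint (A ⧸ x.asIdeal))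
      (hzx.trans (hpt x.asIdeal hm).symm)
    exact hz (hz' ▸ mem_locus_of_pullElt hLA i s (hs.symm ▸ hw) z')
  · by_contra hz'
    exact hz ⟨z, hz', rfl⟩

include hL hd hH1 hT in
/-- A fibrewise trivial module has a frame near every fibre. -/
theorem exists_frame_near [IsNoetherian Y] (y : Y) :
    ∃ V : Y.Opens, y ∈ V ∧ ∃ s : Γ(L, f ⁻¹ᵁ V), InvX.IsFrame s := by
  haveI : CompactSpace Y := inferInstance
  obtain ⟨z, hz, hzc⟩ := (isClosed_closure (s := {y})).exists_closed_singleton
    ⟨y, subset_closure rfl⟩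
  obtain ⟨V, hzV, h⟩ := exists_frame_closed f hL hd hH1 hT z hzc
  exact ⟨V, (specializes_iff_mem_closure.2 hz).mem_open V.2 hzV, h⟩

include hL hd hH1 hT in
/-- The direct image of a fibrewise trivial module is invertible. -/
theorem isInvertible_pushforward [IsNoetherian Y] (hO : ∀ U : Y.Opens, Function.Bijective (f.app U)) :
    PicF.IsInvertible ((Scheme.Modules.pushforward f).obj L) := by
  intro y
  obtain ⟨V, hyV, s, hs⟩ := exists_frame_near f hL hd hH1 hT y
  obtain ⟨e⟩ := InvX.nonempty_iso_of_isFrame hs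
  haveI := PullPush.isIso_pushRestrict_app f V L
  exact ⟨V, hyV, ⟨asIso ((PullPush.pushRestrict f V).app L) ≪≫
    (Scheme.Modules.pushforward (f ∣_ V)).mapIso e ≪≫
    (PullPush.structureModuleIsoPush (f ∣_ V) (PullPush.app_morphismRestrict_bijective f hO V)).symm⟩⟩

end Global

end Groth.Agent.RelPC17.FibTriv
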