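import Groth.Agent.KFlatLib.Perfect.Tri
import Mathlib.Algebra.Homology.DerivedCategory.ShortExact
import Mathlib.CategoryTheory.Abelian.Exact

/-!
# Dévissage of bounded complexes by terms
-/

set_option autoImplicit false
set_option linter.style.haveILetI false

open CategoryTheory CategoryTheory.Limits CategoryTheory.Pretriangulated

namespace Groth.Agent.RelPC17

open KFlatLib

universe w v u

variable {C : Type u} [Category.{v} C] [Abelian C]

/-- A complex concentrated in one degree. -/
lemma exists_single_iso (K : CochainComplex C ℤ) (a : ℤ) (h : ∀ i, i ≠ a → IsZero (K.X i)) :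
    Nonempty (K ≅ (HomologicalComplex.single C (ComplexShape.up ℤ) a).obj (K.X a)) := by
  let φ : K ⟶ (HomologicalComplex.single C (ComplexShape.up ℤ) a).obj (K.X a) :=
    HomologicalComplex.mkHomToSingle (𝟙 _) (fun i hi => (h i (by
      simp only [ComplexShape.up_Rel] at hi; omega)).eq_of_src _ _)
  haveI : ∀ i, IsIso (φ.f i) := fun i => by
    by_cases hi : i = a
    · subst hi
      simp only [φ, HomologicalComplex.mkHomToSingle_f]
      infer_instance
    · exact isIso_of_source_target_iso_zero _ (h i hi).isoZero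
        (HomologicalComplex.isZero_single_obj_X (ComplexShape.up ℤ) a _ i hi).isoZero
  haveI : IsIso φ := HomologicalComplex.Hom.isIso_of_components φ
  exact ⟨asIso φ⟩

variable [HasDerivedCategory.{w} C]

/-- The stupid truncation as a distinguished triangle. -/
lemma exists_triangle_stupid (K : CochainComplex C ℤ) (n : ℤ) :
    ∃ (K' : CochainComplex C ℤ) (g : DerivedCategory.Q.obj K ⟶ DerivedCategory.Q.obj K')
      (h : DerivedCategory.Q.obj K' ⟶ (DerivedCategory.Q.obj (stupidGE K n))⟦(1 : ℤ)⟧),
      Triangle.mk (DerivedCategory.Q.map (stupidGEι K n)) g h ∈ distTriang (DerivedCategory C) ∧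
      (∀ i, n ≤ i → IsZero (K'.X i)) ∧ ∀ i, i < n → Nonempty (K'.X i ≅ K.X i) := by
  haveI : ∀ i, Mono ((stupidGEι K n).f i) := fun i => inferInstanceAs (Mono (stupidι K n i))
  haveI : Mono (stupidGEι K n) := HomologicalComplex.mono_of_mono_f _ inferInstance
  let S := ShortComplex.mk (stupidGEι K n) (cokernel.π (stupidGEι K n)) (cokernel.condition _)
  have hS : S.ShortExact :=
    { exact := ShortComplex.exact_cokernel _
      mono_f := inferInstanceAs (Mono (stupidGEι K n))
      epi_g := inferInstanceAs (Epi (cokernel.π (stupidGEι K n))) }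
  let ev := fun i => HomologicalComplex.eval C (ComplexShape.up ℤ) i
  refine ⟨cokernel (stupidGEι K n), _, _, DerivedCategory.triangleOfSES_distinguished hS,
    fun i hi => ?_, fun i hi => ?_⟩
  · haveI : IsIso ((ev i).map (stupidGEι K n)) := isIso_stupidι K n hi
    exact (isZero_cokernel_of_epi _).of_iso (PreservesCokernel.iso (ev i) (stupidGEι K n))
  · have h0 : (ev i).map (stupidGEι K n) = 0 := (isZero_stupidGE K n hi).eq_of_src _ _
    exact ⟨PreservesCokernel.iso (ev i) (stupidGEι K n) ≪≫ cokernelIsoOfEq h0 ≪≫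
      cokernelZeroIsoTarget⟩

lemma isZero_Q_of_isZero_X (K : CochainComplex C ℤ) (h : ∀ i, IsZero (K.X i)) :
    IsZero (DerivedCategory.Q.obj K) :=
  DerivedCategory.Q.map_isZero (by
    rw [IsZero.iff_id_eq_zero]
    ext i
    exact (h i).eq_of_src _ _)

/-- A property closed under extensions holds for a bounded complex if it holds for its terms. -/
theorem prop_of_terms (P : ObjectProperty (DerivedCategory C)) [P.IsClosedUnderIsomorphisms]
    (hP : ∀ T ∈ distTriang (DerivedCategory C), P T.obj₁ → P T.obj₃ → P T.obj₂)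
    (h0 : ∀ Y, IsZero Y → P Y) :
    ∀ (d : ℕ) (K : CochainComplex C ℤ) (a : ℤ), (∀ i, i < a ∨ a + d ≤ i → IsZero (K.X i)) →
      (∀ i, a ≤ i → i < a + d → P (DerivedCategory.Q.obj
        ((HomologicalComplex.single C (ComplexShape.up ℤ) i).obj (K.X i)))) →
      P (DerivedCategory.Q.obj K) := by
  intro d
  induction d with
  | zero =>
    intro K a hz _
    exact h0 _ (isZero_Q_of_isZero_X K fun i => hz i (by omega))
  | succ d ih =>
    intro K a hz h
    obtain ⟨K', g, δ, hT, hK', hiso⟩ := exists_triangle_stupid K (a + 1)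
    refine hP _ hT (ih _ (a + 1) (fun i hi => ?_) fun i hi hi' => ?_) ?_
    · by_cases h' : a + 1 ≤ i
      · exact (hz i (Or.inr (by omega))).of_iso (eqToIso (stupidX_eq K (a + 1) h'))
      · exact isZero_stupidX K (a + 1) h'
    · exact P.prop_of_iso (DerivedCategory.Q.mapIso
        ((HomologicalComplex.single C (ComplexShape.up ℤ) i).mapIso
          (eqToIso (stupidX_eq K (a + 1) hi).symm))) (h i (by omega) (by omega))
    · have hconc : ∀ i, i ≠ a → IsZero (K'.X i) := fun i hi => by
        by_cases h' : a + 1 ≤ i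
        · exact hK' i h'
        · obtain ⟨e⟩ := hiso i (by omega)
          exact (hz i (Or.inl (by omega))).of_iso e
      obtain ⟨e⟩ := exists_single_iso K' a hconc
      obtain ⟨e'⟩ := hiso a (by omega)
      exact P.prop_of_iso (DerivedCategory.Q.mapIso
        (e ≪≫ (HomologicalComplex.single C (ComplexShape.up ℤ) a).mapIso e').symm) (h a le_rfl (by omega))

end Groth.Agent.RelPC17
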