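import Groth.Agent.RelPC17.Push
import Groth.Agent.RelPC17.Bounded
import Groth.Agent.KFlatLib.Perfect.FiniteType
import Groth.Agent.KFlatLib.Scheme.Exact

/-!
# Pseudo-coherence along closed immersions with pseudo-coherent structure sheaf
-/

set_option autoImplicit false
set_option linter.style.haveILetI false
set_option backward.isDefEq.respectTransparency false
set_option backward.isDefEq.respectTransparency.types false

universe u

open CategoryTheory CategoryTheory.Limits AlgebraicGeometry TopologicalSpace Opposite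
open CategoryTheory.Pretriangulated

attribute [local instance] HasDerivedCategory.standard

namespace Groth.Agent.RelPC17

open KFlatLib

variable {X P Z W : Scheme.{u}}

/-- Pseudo-coherence of the target along a map which is an isomorphism above `m`. -/
lemma locPC_of_pcMap {m : ℤ} {A B : DCoh.D X} (α : A ⟶ B) (hα : IsPcMap m α) (h : LocPC m A) :
    LocPC m B := fun x => by
  obtain ⟨U, j, _, hx, S, γ, hS, hγ⟩ := h x
  exact ⟨U, j, inferInstance, hx, S, γ ≫ (rho j).map α, hS, hγ.comp (hα.map_exact _)⟩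

lemma locPC_isZero {m : ℤ} {K : DCoh.D X} (h : IsZero K) : LocPC m K :=
  locPC_of_isZero m K fun i _ => (DerivedCategory.homologyFunctor X.Modules i).map_isZero h

lemma locPC_biprod {m : ℤ} (A B : DCoh.D X) [HasBinaryBiproduct A B] (hA : LocPC m A)
    (hB : LocPC m B) : LocPC m (A ⊞ B) :=
  (locPC_two_of_three m _ (binaryBiproductTriangle_distinguished A B)).2.1 hA hB

lemma locPC_inD_biprod {m : ℤ} (A B : X.Modules) (hA : LocPC m (DCoh.inD X A))
    (hB : LocPC m (DCoh.inD X B)) : LocPC m (DCoh.inD X (A ⊞ B)) :=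
  haveI := preservesBinaryBiproducts_of_preservesBinaryCoproducts
    (DerivedCategory.singleFunctor X.Modules 0)
  (locPC_biprod _ _ hA hB).of_iso ((DerivedCategory.singleFunctor X.Modules 0).mapBiprod A B).symm

lemma locPC_single {m : ℤ} (n : ℤ) (M : X.Modules) (h : LocPC (m - n) (DCoh.inD X M)) :
    LocPC m (DerivedCategory.Q.obj ((HomologicalComplex.single X.Modules (ComplexShape.up ℤ) n).obj M)) :=
  (LocPC.of_shift n (h.of_iso
    (((DerivedCategory.singleFunctors X.Modules).shiftIso n 0 n (by omega)).app M).symm)).of_iso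
    ((DerivedCategory.singleFunctorIsoCompQ X.Modules n).app M)

/-- Restriction of an object in degree zero. -/
noncomputable def rhoInD (j : W ⟶ X) [IsOpenImmersion j] (M : X.Modules) :
    (rho j).obj (DCoh.inD X M) ≅ DCoh.inD W (M.restrict j) :=
  ((Scheme.Modules.restrictFunctor j).mapDerivedCategorySingleFunctor 0).app M

/-- Direct image of an object in one degree. -/
noncomputable def pDSingle (i : Z ⟶ P) [IsClosedImmersion i] (n : ℤ) (M : Z.Modules) :
    (pD i).obj (DerivedCategory.Q.obj ((HomologicalComplex.single Z.Modules (ComplexShape.up ℤ) n).obj M)) ≅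
      DerivedCategory.Q.obj ((HomologicalComplex.single P.Modules (ComplexShape.up ℤ) n).obj
        ((Scheme.Modules.pushforward i).obj M)) :=
  (pQ i).app _ ≪≫ DerivedCategory.Q.mapIso
    ((HomologicalComplex.singleMapHomologicalComplex (Scheme.Modules.pushforward i) (ComplexShape.up ℤ) n).app M)

/-- Direct image of an object in degree zero. -/
noncomputable def pDInD (i : Z ⟶ P) [IsClosedImmersion i] (M : Z.Modules) :
    (pD i).obj (DCoh.inD Z M) ≅ DCoh.inD P ((Scheme.Modules.pushforward i).obj M) :=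
  ((Scheme.Modules.pushforward i).mapDerivedCategorySingleFunctor 0).app M

/-- Restriction of the structure module. -/
noncomputable def restrictStructureIso (k : W ⟶ Z) [IsOpenImmersion k] :
    (Coh.structureModule Z).restrict k ≅ Coh.structureModule W :=
  let e : (Scheme.Modules.pullback k).obj (Coh.structureModule Z) ⟶ Coh.structureModule W :=
    SheafOfModules.pullbackObjUnitToUnit k.toRingCatSheafHom
  haveI : IsIso e := inferInstanceAs (IsIso (SheafOfModules.pullbackObjUnitToUnit _))
  (Scheme.Modules.restrictFunctorIsoPullback k).app _ ≪≫ asIso e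

/-- The direct image of the structure sheaf is pseudo-coherent. -/
def PCImm (i : Z ⟶ P) [IsClosedImmersion i] : Prop :=
  ∀ m : ℤ, LocPC m (DCoh.inD P ((Scheme.Modules.pushforward i).obj (Coh.structureModule Z)))

lemma PCImm.square {i : Z ⟶ P} [IsClosedImmersion i] (hi : PCImm i) (j : W ⟶ P) [IsOpenImmersion j]
    {V : Scheme.{u}} (k : V ⟶ Z) [IsOpenImmersion k] (i' : V ⟶ W) [IsClosedImmersion i']
    (hsq : k ≫ i = i' ≫ j) (hr : k.opensRange = i ⁻¹ᵁ j.opensRange) : PCImm i' := fun m =>
  ((hi m).restrict j).of_iso (rhoInD j _ ≪≫ (DerivedCategory.singleFunctor W.Modules 0).mapIso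
    ((pushResIso i j k i' hsq hr).app _ ≪≫
      (Scheme.Modules.pushforward i').mapIso (restrictStructureIso k)))

lemma PCImm.restrict {i : Z ⟶ P} [IsClosedImmersion i] (hi : PCImm i) (O : P.Opens) :
    PCImm (i ∣_ O) :=
  hi.square O.ι (i ⁻¹ᵁ O).ι (i ∣_ O) (morphismRestrict_ι i O).symm
    (by rw [Scheme.Opens.opensRange_ι, Scheme.Opens.opensRange_ι])

lemma isZero_of_isEmpty [IsEmpty X] (M : X.Modules) : IsZero M :=
  isZero_of_stalk M fun x => isEmptyElim x

lemma PCImm.free {i : Z ⟶ P} [IsClosedImmersion i] (hi : PCImm i) :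
    ∀ (n : ℕ) (m : ℤ), LocPC m (DCoh.inD P ((Scheme.Modules.pushforward i).obj (FlatMod.freeMod Z n))) := by
  intro n
  induction n with
  | zero =>
    intro m
    refine locPC_isZero (Functor.map_isZero _ (Functor.map_isZero _ ?_))
    rw [IsZero.iff_id_eq_zero]
    exact Sigma.hom_ext _ _ fun k => k.elim0
  | succ n ih =>
    intro m
    let e₁ : FlatMod.freeMod Z 1 ≅ Coh.structureModule Z :=
      { hom := Sigma.desc fun _ => 𝟙 _
        inv := Sigma.ι (fun _ : Fin 1 => Coh.structureModule Z) 0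
        hom_inv_id := Sigma.hom_ext _ _ fun k => by
          rw [Subsingleton.elim k 0]; simp
        inv_hom_id := by simp }
    haveI := preservesBinaryBiproducts_of_preservesBinaryProducts (Scheme.Modules.pushforward i)
    refine (locPC_inD_biprod _ _ (ih m) ((hi m).of_iso ((DerivedCategory.singleFunctor P.Modules 0).mapIso
      ((Scheme.Modules.pushforward i).mapIso e₁.symm)))).of_iso
      ((DerivedCategory.singleFunctor P.Modules 0).mapIso
        (((Scheme.Modules.pushforward i).mapBiprod _ _).symm ≪≫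
          (Scheme.Modules.pushforward i).mapIso (biprodFreeIso n 1)))

lemma locPC_rho_compl (i : Z ⟶ P) [IsClosedImmersion i] {p : P} (hp : p ∉ Set.range i)
    (K : DCoh.D Z) (m : ℤ) : ∃ (U : Scheme.{u}) (j : U ⟶ P) (_ : IsOpenImmersion j),
      p ∈ Set.range j.base ∧ LocPC m ((rho j).obj ((pD i).obj K)) := by
  let O : P.Opens := ⟨(Set.range i)ᶜ, i.isClosedEmbedding.isClosed_range.isOpen_compl⟩
  haveI : IsEmpty ↥(i ⁻¹ᵁ O : Z.Opens).toScheme := ⟨fun z => z.2 ⟨z.1, rfl⟩⟩
  refine ⟨_, O.ι, inferInstance, ⟨⟨p, hp⟩, rfl⟩, locPC_of_isZero m _ fun n _ => ?_⟩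
  exact ((isZero_HD_pD_iff (i ∣_ O) _ n).2 (isZero_of_isEmpty _)).of_iso
    ((DerivedCategory.homologyFunctor _ n).mapIso (rhoPDOpen i O K))

/-- An open of the source comes from an open of the target. -/
lemma exists_open_square (i : Z ⟶ P) [IsClosedImmersion i] {U : Scheme.{u}} (j : U ⟶ Z)
    [IsOpenImmersion j] : ∃ (O : P.Opens) (b : (i ⁻¹ᵁ O : Z.Opens).toScheme ⟶ U)
      (_ : IsOpenImmersion b), b ≫ j = (i ⁻¹ᵁ O).ι ∧ ∀ z, z ∈ Set.range j → i z ∈ O := by
  obtain ⟨O, hO⟩ := KZ.ClosedDev.exists_preimage_eq i j.opensRange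
  have hr : Set.range (i ⁻¹ᵁ O).ι ⊆ Set.range j := by
    rw [Scheme.Opens.range_ι, hO]
    exact subset_rfl
  haveI : IsOpenImmersion (IsOpenImmersion.lift j (i ⁻¹ᵁ O).ι hr ≫ j) := by
    rw [IsOpenImmersion.lift_fac]; infer_instance
  refine ⟨O, _, IsOpenImmersion.of_comp _ j, IsOpenImmersion.lift_fac _ _ _, fun z hz => ?_⟩
  have : z ∈ i ⁻¹ᵁ O := by rw [hO]; exact hz
  exact this

lemma PCImm.flf {i : Z ⟶ P} [IsClosedImmersion i] (hi : PCImm i) {M : Z.Modules}
    (hM : FlatMod.IsFinLocFree M) (m : ℤ) :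
    LocPC m (DCoh.inD P ((Scheme.Modules.pushforward i).obj M)) :=
  LocPC.of_local fun p => by
    by_cases hp : p ∈ Set.range i
    · obtain ⟨z, rfl⟩ := hp
      obtain ⟨U, n, hz, ⟨e⟩⟩ := hM z
      obtain ⟨O, hO⟩ := KZ.ClosedDev.exists_preimage_eq i U
      have hzO : i z ∈ O := by
        have : z ∈ i ⁻¹ᵁ O := by rw [hO]; exact hz
        exact this
      refine ⟨_, O.ι, inferInstance, ⟨⟨i z, hzO⟩, rfl⟩, ?_⟩
      refine ((hi.restrict O).free n m).of_iso (Iso.symm (rhoInD O.ι _ ≪≫
        (DerivedCategory.singleFunctor _ 0).mapIso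
          ((pushResIso i O.ι (i ⁻¹ᵁ O).ι (i ∣_ O) (morphismRestrict_ι i O).symm
            (by rw [Scheme.Opens.opensRange_ι, Scheme.Opens.opensRange_ι])).app M ≪≫
            (Scheme.Modules.pushforward (i ∣_ O)).mapIso (restrictFreeIso hO.le e))))
    · obtain ⟨U, j, _, hx, h⟩ := locPC_rho_compl i hp (DCoh.inD Z M) m
      exact ⟨U, j, inferInstance, hx, h.of_iso ((rho j).mapIso (pDInD i M))⟩

/-- The objects with pseudo-coherent direct image. -/
def PushPC (i : Z ⟶ P) [IsClosedImmersion i] (m : ℤ) : ObjectProperty (DCoh.D Z) :=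
  fun E => LocPC m ((pD i).obj E)

instance (i : Z ⟶ P) [IsClosedImmersion i] (m : ℤ) : (PushPC i m).IsClosedUnderIsomorphisms :=
  ⟨fun e h => LocPC.of_iso ((pD i).mapIso e) h⟩

lemma PCImm.strictlyPerfect {i : Z ⟶ P} [IsClosedImmersion i] (hi : PCImm i)
    {E : CochainComplex Z.Modules ℤ} (hE : DCoh.IsStrictlyPerfect E) (m : ℤ) :
    LocPC m ((pD i).obj (DerivedCategory.Q.obj E)) := by
  obtain ⟨⟨a, b, hab⟩, hf⟩ := hE
  refine prop_of_terms (PushPC i m)
    (fun T hT h₁ h₃ => (locPC_two_of_three m _ ((pD i).map_distinguished T hT)).2.1 h₁ h₃)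
    (fun Y hY => locPC_isZero ((pD i).map_isZero hY)) (b + 1 - a).toNat E a
    (fun n hn => hab n (by omega)) fun n _ _ => ?_
  exact (locPC_single n _ (hi.flf (hf n) _)).of_iso (pDSingle i n _).symm

/-- Direct image preserves pseudo-coherence. -/
theorem locPC_pD {i : Z ⟶ P} [IsClosedImmersion i] (hi : PCImm i) {m : ℤ} {F : DCoh.D Z}
    (h : LocPC m F) : LocPC m ((pD i).obj F) :=
  LocPC.of_local fun p => by
    by_cases hp : p ∈ Set.range i
    · obtain ⟨z, rfl⟩ := hp
      obtain ⟨U, j, _, hz, S, α, hS, hα⟩ := h z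
      obtain ⟨O, b, _, hb, hO⟩ := exists_open_square i j
      refine ⟨_, O.ι, inferInstance, ⟨⟨i z, hO z hz⟩, rfl⟩, ?_⟩
      let α' : DerivedCategory.Q.obj ((rCx b).obj S) ⟶ (rho (i ⁻¹ᵁ O).ι).obj F :=
        ((rhoQ b).app S).inv ≫ (rho b).map α ≫ (rhoComp b j _ hb F).hom
      have hα' : IsPcMap m α' := (hα.map_exact _).comp_iso _ _
      exact (locPC_of_pcMap _ (hα'.map_exact _)
        ((hi.restrict O).strictlyPerfect (isStrictlyPerfect_restrict b hS) m)).of_iso
        (rhoPDOpen i O F).symm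
    · exact locPC_rho_compl i hp F m

/-- A module with direct image of finite type is of finite type. -/
theorem isFT_of_isFT_push (i : Z ⟶ P) [IsClosedImmersion i] {M : Z.Modules}
    (h : CohB1.IsFT ((Scheme.Modules.pushforward i).obj M)) : CohB1.IsFT M :=
  isFT_of_epi_free fun z => by
    obtain ⟨O, n, p, hz, hp⟩ := exists_epi_free_of_isFT h (i z)
    let i' := i ∣_ O
    let N := M.restrict (i ⁻¹ᵁ O).ι
    let ε := (Scheme.Modules.pullbackPushforwardAdjunction i').counit.app N
    haveI : (Scheme.Modules.pushforward i').Faithful :=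
      ⟨fun {A B} f g hfg => KZ.ClosedDev.push_map_injective i' f g hfg⟩
    haveI : Epi ε := inferInstance
    let r := (pushResIso i O.ι (i ⁻¹ᵁ O).ι i' (morphismRestrict_ι i O).symm
      (by rw [Scheme.Opens.opensRange_ι, Scheme.Opens.opensRange_ι])).app M
    haveI := hp
    haveI := (Scheme.Modules.pullbackPushforwardAdjunction i').isLeftAdjoint
    haveI : Epi ((Scheme.Modules.pullback i').map (p ≫ r.hom)) := inferInstance
    exact ⟨i ⁻¹ᵁ O, n, (pullFreeIso i' n).inv ≫ (Scheme.Modules.pullback i').map (p ≫ r.hom) ≫ ε,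
      hz, epi_comp' inferInstance (epi_comp' inferInstance inferInstance)⟩

open ZeroObject in
/-- Near a point, finite type top cohomology is hit by a free module in one degree. -/
lemma exists_top_cover {F : DCoh.D X} {b : ℤ} (hz : ∀ i, b < i → IsZero (DCoh.HD F i))
    (hft : CohB1.IsFT (DCoh.HD F b)) (x : X) :
    ∃ (U : Scheme.{u}) (j : U ⟶ X) (_ : IsOpenImmersion j), x ∈ Set.range j.base ∧
      ∃ (S : CochainComplex U.Modules ℤ) (φ : DerivedCategory.Q.obj S ⟶ (rho j).obj F),
        DCoh.IsStrictlyPerfect S ∧ (∀ i, i ≠ b → IsZero (S.X i)) ∧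
          Epi ((DerivedCategory.homologyFunctor U.Modules b).map φ) := by
  obtain ⟨O, n, p, hx, hp⟩ := exists_epi_free_of_isFT hft x
  let FO := (rho O.ι).obj F
  let K₀ := DerivedCategory.Q.objPreimage FO
  haveI : K₀.IsLE b := (CochainComplex.isLE_iff _ b).2 fun i hi =>
    (HomologicalComplex.exactAt_iff_isZero_homology _ _).2
      ((((Scheme.Modules.restrictFunctor O.ι).map_isZero (hz i hi)).of_iso (hdRhoIso O.ι F i)).of_iso
        (((DerivedCategory.homologyFunctorFactors _ i).app K₀).symm ≪≫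
          (DerivedCategory.homologyFunctor _ i).mapIso (repIso FO)))
  let K := CochainComplex.truncLE K₀ b
  haveI := isIso_Q_map (CochainComplex.ιTruncLE K₀ b) inferInstance
  let eK : DerivedCategory.Q.obj K ≅ FO :=
    asIso (DerivedCategory.Q.map (CochainComplex.ιTruncLE K₀ b)) ≪≫ repIso FO
  haveI : IsIso (K.homologyι b) := K.isIso_homologyι b (b + 1) (by simp)
    ((K.isZero_of_isStrictlyLE b (b + 1) (by omega)).eq_of_tgt _ _)
  let A := K.opcycles b
  let eA : (DCoh.HD F b).restrict O.ι ≅ A :=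
    (hdRhoIso O.ι F b).symm ≪≫ (DerivedCategory.homologyFunctor _ b).mapIso eK.symm ≪≫
      (DerivedCategory.homologyFunctorFactors _ b).app K ≪≫ asIso (K.homologyι b)
  let sgl := HomologicalComplex.single (O : Scheme.{u}).Modules (ComplexShape.up ℤ) b
  let f : K ⟶ sgl.obj A := HomologicalComplex.mkHomToSingle (K.pOpcycles b)
    (fun i _ => K.d_pOpcycles i b)
  let a : sgl.obj (FlatMod.freeMod (O : Scheme.{u}) n) ⟶ sgl.obj A := sgl.map (p ≫ eA.hom)
  have hzs : ∀ (M : (O : Scheme.{u}).Modules) (i : ℤ), i ≠ b → IsZero ((sgl.obj M).homology i) :=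
    fun M i hi => ShortComplex.isZero_homology_of_isZero_X₂ _
      (HomologicalComplex.isZero_single_obj_X (ComplexShape.up ℤ) b M i hi)
  haveI : IsIso ((sgl.obj A).pOpcycles b) := (sgl.obj A).isIso_pOpcycles (b - 1) b (by simp)
    ((HomologicalComplex.isZero_single_obj_X (ComplexShape.up ℤ) b A (b - 1) (by omega)).eq_of_src _ _)
  haveI : IsIso ((sgl.obj A).homologyι b) := (sgl.obj A).isIso_homologyι b (b + 1) (by simp)
    ((HomologicalComplex.isZero_single_obj_X (ComplexShape.up ℤ) b A (b + 1) (by omega)).eq_of_tgt _ _)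
  haveI hfb : IsIso (HomologicalComplex.homologyMap f b) := by
    haveI : IsIso (HomologicalComplex.opcyclesMap f b) := by
      have h : HomologicalComplex.opcyclesMap f b =
          (HomologicalComplex.singleObjXSelf (ComplexShape.up ℤ) b A).inv ≫ (sgl.obj A).pOpcycles b := by
        rw [← cancel_epi (K.pOpcycles b), HomologicalComplex.p_opcyclesMap]
        simp [f, sgl, A]
      rw [h]; infer_instance
    have h := HomologicalComplex.homologyι_naturality f b
    have : IsIso (HomologicalComplex.homologyMap f b ≫ (sgl.obj A).homologyι b) := by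
      rw [h]; infer_instance
    exact IsIso.of_isIso_comp_right _ ((sgl.obj A).homologyι b)
  have hfpc : IsPcMap b (DerivedCategory.Q.map f) := isPcMap_of_homologyMap b f
    (fun i hi => isIso_of_source_target_iso_zero _
      (
        (ShortComplex.isZero_homology_of_isZero_X₂ _ (K.isZero_of_isStrictlyLE b i hi)).isoZero)
      (hzs A i (by omega)).isoZero) inferInstance
  have ha : IsPcMap b (DerivedCategory.Q.map a) := isPcMap_of_homologyMap b a
    (fun i hi => isIso_of_source_target_iso_zero _ (hzs _ i (by omega)).isoZero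
      (hzs A i (by omega)).isoZero) (by
      change Epi ((sgl ⋙ HomologicalComplex.homologyFunctor (O : Scheme.{u}).Modules _ b).map _)
      rw [← NatIso.naturality_2 (HomologicalComplex.homologyFunctorSingleIso _ _ b)]
      haveI := hp
      exact epi_comp' inferInstance (epi_comp' (inferInstanceAs (Epi (p ≫ eA.hom))) inferInstance))
  have hS₀ : DCoh.IsStrictlyPerfect (sgl.obj (FlatMod.freeMod (O : Scheme.{u}) n)) :=
    ⟨⟨b, b, fun i hi => HomologicalComplex.isZero_single_obj_X (ComplexShape.up ℤ) b _ i (by omega)⟩,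
      fun i => by
        rcases eq_or_ne i b with h | h
        · subst h
          exact H23.PullPush.isFinLocFree_of_iso
            (HomologicalComplex.singleObjXSelf (ComplexShape.up ℤ) i _).symm (isFinLocFree_freeMod n)
        · exact isFinLocFree_of_isZero
            (HomologicalComplex.isZero_single_obj_X (ComplexShape.up ℤ) b _ i h)⟩
  obtain ⟨V, β, hxV, ⟨H⟩⟩ := exists_lift_homotopy a f hS₀ b
    (fun i hi => HomologicalComplex.isZero_single_obj_X (ComplexShape.up ℤ) b _ i (by omega)) hfpc ⟨x, hx⟩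
  have key : ∀ {G G' : CochainComplex (O : Scheme.{u}).Modules ℤ} (g : G ⟶ G'),
      IsPcMap b (DerivedCategory.Q.map g) → IsPcMap b (DerivedCategory.Q.map ((rCx V.ι).map g)) :=
    fun g hg => by
      change IsPcMap b ((rCx V.ι ⋙ DerivedCategory.Q).map g)
      rw [← NatIso.naturality_1 (rhoQ V.ι) g]
      exact (hg.map_exact _).comp_iso _ _
  let Hb := DerivedCategory.homologyFunctor (V : Scheme.{u}).Modules b
  haveI hepi : Epi (Hb.map (DerivedCategory.Q.map β)) := by
    haveI : IsIso (Hb.map (DerivedCategory.Q.map ((rCx V.ι).map f))) := by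
      change IsIso (Hb.map ((rCx V.ι ⋙ DerivedCategory.Q).map f))
      rw [← NatIso.naturality_1 (rhoQ V.ι) f]
      haveI : IsIso (((rho V.ι ⋙ Hb).map (DerivedCategory.Q.map f))) := by
        rw [NatIso.isIso_map_iff (mapDCHomologyIso (Scheme.Modules.restrictFunctor V.ι) b)]
        haveI : IsIso ((DerivedCategory.homologyFunctor _ b).map (DerivedCategory.Q.map f)) :=
          (NatIso.isIso_map_iff (DerivedCategory.homologyFunctorFactors _ b) f).2 hfb
        exact Functor.map_isIso (Scheme.Modules.restrictFunctor V.ι) _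
      rw [Functor.map_comp, Functor.map_comp]
      haveI : IsIso (Hb.map ((DerivedCategory.Q ⋙ rho V.ι).map f)) := this
      infer_instance
    have h := congrArg Hb.map (Q_map_eq_of_homotopy H)
    rw [Functor.map_comp, Functor.map_comp] at h
    haveI : Epi (Hb.map (DerivedCategory.Q.map ((rCx V.ι).map a))) := (key a ha).2
    rw [← IsIso.eq_comp_inv] at h
    rw [h]
    exact epi_comp' inferInstance inferInstance
  refine ⟨_, V.ι ≫ O.ι, inferInstance, ⟨⟨⟨x, hx⟩, hxV⟩, rfl⟩,
    (rCx V.ι).obj (sgl.obj (FlatMod.freeMod (O : Scheme.{u}) n)),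
    DerivedCategory.Q.map β ≫ ((rhoQ V.ι).app K).inv ≫ (rho V.ι).map eK.hom ≫
      (rhoComp V.ι O.ι _ rfl F).hom,
    isStrictlyPerfect_restrict V.ι hS₀, fun i hi => ?_, ?_⟩
  · exact (Scheme.Modules.restrictFunctor V.ι).map_isZero
      (HomologicalComplex.isZero_single_obj_X (ComplexShape.up ℤ) b _ i hi)
  · rw [Functor.map_comp]
    exact epi_comp' hepi inferInstance

/-- Pseudo-coherence descends along direct image, by induction on the amplitude. -/
theorem locPC_of_pD_aux : ∀ (d : ℕ) (m : ℤ) {Z P : Scheme.{u}} (i : Z ⟶ P) [IsClosedImmersion i],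
    PCImm i → ∀ F : DCoh.D Z, (∀ n, m + d ≤ n → IsZero (DCoh.HD F n)) →
      LocPC m ((pD i).obj F) → LocPC m F := by
  intro d
  induction d with
  | zero => exact fun m _ _ i _ _ F hz _ => locPC_of_isZero m F fun n hn => hz n (by omega)
  | succ d ih =>
    intro m Z P i _ hi F hz hF
    let b : ℤ := m + d
    have hzb : ∀ n, b < n → IsZero (DCoh.HD F n) := fun n hn => hz n (by omega)
    have hft : CohB1.IsFT (DCoh.HD F b) := isFT_of_isFT_push i (by
      have h := isFT_top (hF.mono (by omega : m ≤ b))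
        (fun n hn => (isZero_HD_pD_iff i F n).2 (hzb n hn))
      exact isFT_of_epi_free fun p => by
        obtain ⟨W, n, q, hp, hq⟩ := exists_epi_free_of_isFT h p
        haveI := hq
        exact ⟨W, n, q ≫ (Scheme.Modules.restrictFunctor W.ι).map (hdPD i F b).hom, hp,
          epi_comp' inferInstance inferInstance⟩)
    refine LocPC.of_local fun z => ?_
    obtain ⟨U, j, _, hzj, S, φ, hS, hSb, hφ⟩ := exists_top_cover hzb hft z
    obtain ⟨O, c, _, hc, hO⟩ := exists_open_square i j
    refine ⟨_, (i ⁻¹ᵁ O).ι, inferInstance, ⟨⟨z, hO z hzj⟩, rfl⟩, ?_⟩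
    let S' := (rCx c).obj S
    let φ' : DerivedCategory.Q.obj S' ⟶ (rho (i ⁻¹ᵁ O).ι).obj F :=
      ((rhoQ c).app S).inv ≫ (rho c).map φ ≫ (rhoComp c j _ hc F).hom
    have hSb' : ∀ k, k ≠ b → IsZero (S'.X k) := fun k hk =>
      (Scheme.Modules.restrictFunctor c).map_isZero (hSb k hk)
    let H := DerivedCategory.homologyFunctor (i ⁻¹ᵁ O : Z.Opens).toScheme.Modules
    haveI : Epi ((H b).map φ') := by
      haveI : Epi ((rho c ⋙ H b).map φ) := by
        rw [← NatIso.naturality_2 (mapDCHomologyIso (Scheme.Modules.restrictFunctor c) b) φ]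
        haveI := hφ
        exact epi_comp' inferInstance (epi_comp'
          (inferInstanceAs (Epi ((Scheme.Modules.restrictFunctor c).map
            ((DerivedCategory.homologyFunctor U.Modules b).map φ)))) inferInstance)
      rw [Functor.map_comp, Functor.map_comp]
      exact epi_comp' inferInstance (epi_comp' this inferInstance)
    obtain ⟨C, u, δ, hT⟩ := distinguished_cocone_triangle φ'
    have hzS : ∀ k, k ≠ b → IsZero ((H k).obj (DerivedCategory.Q.obj S')) := fun k hk =>
      (ShortComplex.isZero_homology_of_isZero_X₂ _ (hSb' k hk)).of_iso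
        ((DerivedCategory.homologyFunctorFactors _ k).app _)
    have hzC : ∀ k, m + d ≤ k → IsZero ((H k).obj C) := fun k hk => by
      haveI : Epi ((H k).map u) :=
        (DerivedCategory.HomologySequence.exact₃ _ hT k (k + 1) rfl).epi_f
          ((hzS (k + 1) (by omega)).eq_of_tgt _ _)
      refine IsZero.of_epi_eq_zero ((H k).map u) ?_
      rcases eq_or_lt_of_le hk with h | h
      · obtain rfl : b = k := h
        refine (cancel_epi ((H b).map φ')).1 ?_
        rw [← Functor.map_comp]
        exact ((congrArg (H b).map (comp_distTriang_mor_zero₁₂ _ hT)).trans (Functor.map_zero _ _ _)).trans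
          comp_zero.symm
      · exact (((Scheme.Modules.restrictFunctor (i ⁻¹ᵁ O).ι).map_isZero (hzb k h)).of_iso
          (hdRhoIso (i ⁻¹ᵁ O).ι F k)).eq_of_src _ _
    have hiO := hi.restrict O
    have hS' := isStrictlyPerfect_restrict c hS
    have hFO : LocPC m ((pD (i ∣_ O)).obj ((rho (i ⁻¹ᵁ O).ι).obj F)) :=
      (hF.restrict O.ι).of_iso (rhoPDOpen i O F)
    have hC : LocPC m C := ih m (i ∣_ O) hiO C hzC
      ((locPC_two_of_three m _ ((pD (i ∣_ O)).map_distinguished _ hT)).1
        (hiO.strictlyPerfect hS' (m + 1)) hFO)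
    have hQS : LocPC m (DerivedCategory.Q.obj S') := LocSP.locPC (fun z' => by
      exact ⟨_, (⊤ : (i ⁻¹ᵁ O : Z.Opens).toScheme.Opens).ι, inferInstance, ⟨⟨z', trivial⟩, rfl⟩, _,
        isStrictlyPerfect_restrict _ hS', ⟨((rhoQ _).app S').symm⟩⟩) m
    exact (locPC_two_of_three m _ hT).2.1 hQS hC

/-- Pseudo-coherence can be tested after direct image. -/
theorem locPC_pD_iff {i : Z ⟶ P} [IsClosedImmersion i] (hi : PCImm i) (m : ℤ) (F : DCoh.D Z) :
    LocPC m ((pD i).obj F) ↔ LocPC m F := by
  refine ⟨fun h => LocPC.of_local fun z => ?_, locPC_pD hi⟩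
  obtain ⟨U, j, _, hp, S, α, hS, hα⟩ := h (i z)
  obtain ⟨a, b, hab⟩ := hS.1
  obtain ⟨w, hw⟩ := hp
  let O := j.opensRange
  refine ⟨_, (i ⁻¹ᵁ O).ι, inferInstance, ⟨⟨z, ⟨w, hw⟩⟩, rfl⟩, ?_⟩
  refine locPC_of_pD_aux (max b m + 1 - m).toNat m (i ∣_ O) (hi.restrict O) _ (fun n hn => ?_)
    ((h.restrict O.ι).of_iso (rhoPDOpen i O F))
  rw [← isZero_HD_pD_iff (i ∣_ O)]
  refine IsZero.of_iso ?_ ((DerivedCategory.homologyFunctor _ n).mapIso ((rhoPDOpen i O F).symm ≪≫
    (rhoComp (rangeHom j) j O.ι (rangeHom_fac j) ((pD i).obj F)).symm))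
  refine ((Scheme.Modules.restrictFunctor (rangeHom j)).map_isZero ?_).of_iso
    ((mapDCHomologyIso (Scheme.Modules.restrictFunctor (rangeHom j)) n).app _)
  haveI := hα.1 n (by omega)
  exact ((ShortComplex.isZero_homology_of_isZero_X₂ _ (hab n (Or.inr (by omega)))).of_iso
    ((DerivedCategory.homologyFunctorFactors _ n).app S)).of_iso
    (asIso ((DerivedCategory.homologyFunctor _ n).map α)).symm

end Groth.Agent.RelPC17
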