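import Groth.Agent.RelPC17.HighVanish
import Groth.Agent.QCoh.PushLin
import Groth.Agent.PnCoh.Finite.HHLin
import Groth.Agent.FlatMisc.ApproxDim
import Groth.Agent.AmpleX.CounitEpi
import Groth.Agent.SiteBase.FTColimTop
import Groth.Agent.QCoh.Support
import Groth.Agent.QCoh.RpushProper
import Groth.Agent.S0002

/-!
# The top higher direct image of a module of finite type along a proper morphism is of finite type

Over an affine base `A`, the morphism comes from a proper morphism `Z → Spec A₀` with `A₀` Noetherian and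
the same bound on fibres; `A` is a quotient of a polynomial ring `P` over `A₀`, flat over `A₀`, and the
direct image of the module to `Z_P` is a quotient of the pullback of a coherent module of `Z`.  Since
cohomology vanishes in degree `d + 1`, the cohomology in degree `d` is a quotient of a finite `P`-module.
-/

set_option autoImplicit false
set_option linter.style.haveILetI false
set_option backward.isDefEq.respectTransparency false
set_option backward.isDefEq.respectTransparency.types false

universe u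

open CategoryTheory CategoryTheory.Limits AlgebraicGeometry TopologicalSpace Opposite

noncomputable section

namespace Groth.Agent.RelPC17.TopDegree

open Groth.Agent

/-- A module of finite type on a scheme affine over a qcqs scheme is a quotient of a pullback of a module
of finite presentation. -/
theorem exists_epi_pullback {W Z : Scheme.{u}} [CompactSpace W] [CompactSpace Z] [QuasiSeparatedSpace Z]
    (q : W ⟶ Z) [IsAffineHom q] {N : W.Modules} (hN : Coh.IsQCoh N) (hft : CohB1.IsFT N) :
    ∃ (G : Z.Modules) (_ : CohB1.IsFP G) (e : (Scheme.Modules.pullback q).obj G ⟶ N), Epi e := by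
  obtain ⟨I, _, _, D, c, hc, hD, hpt⟩ :=
    S2128.result Z ((Scheme.Modules.pushforward q).obj N) (QCoh.isQCoh_pushforward q hN)
  let a : ∀ i, D.obj i ⟶ (Scheme.Modules.pushforward q).obj N := fun i => c.ι.app i ≫ eqToHom hpt
  have ha : ∀ {i j : I} (t : i ⟶ j), D.map t ≫ a j = a i := fun t => by
    simp only [a, ← Category.assoc, c.w]
  let adj := Scheme.Modules.pullbackPushforwardAdjunction q
  haveI : Epi (adj.counit.app N) := by
    refine AmpleX.epi_counit_of_isQuasiAffine q ⟨inferInstance, fun V hV => ?_⟩ hN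
    haveI : IsAffine (q ⁻¹ᵁ V : Scheme.{u}) := hV.preimage q
    infer_instance
  let D' : I ⥤ W.Modules := D ⋙ Scheme.Modules.pullback q
  let η : D' ⟶ (Functor.const I).obj N :=
    { app := fun i => (Scheme.Modules.pullback q).map (a i) ≫ adj.counit.app N
      naturality := fun i j t => by
        show (Scheme.Modules.pullback q).map (D.map t) ≫ _ ≫ _ = _ ≫ 𝟙 N
        rw [Category.comp_id, ← Category.assoc, ← Functor.map_comp, ha] }
  let J : I ⥤ W.Modules := Abelian.image η
  let ι : J ⟶ (Functor.const I).obj N := Abelian.image.ι η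
  let π : D' ⟶ J := Abelian.factorThruImage η
  have hπι : π ≫ ι = η := Abelian.image.fac η
  haveI : AB5OfSize.{u, u} AddCommGrpCat.{u} := AB5OfSize_shrink.{u, u, u, u} AddCommGrpCat.{u}
  haveI : HasExactColimitsOfShape I AddCommGrpCat.{u} := AB5OfSize.ofShape I
  haveI : HasExactColimitsOfShape I W.Modules := KFlatLib.hasExactColimitsOfShape W I
  haveI : IsConnected I := IsFiltered.isConnected I
  let cJ : Cocone J := ⟨N, ι⟩
  haveI : Mono (colimit.desc J cJ) := by
    haveI : Mono (colim.map ι) := inferInstance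
    have e : colimit.desc J cJ = colim.map ι ≫ colimit.desc ((Functor.const I).obj N) ⟨N, 𝟙 _⟩ := by
      refine colimit.hom_ext fun i => ?_
      rw [colimit.ι_desc, colimit.ι_map_assoc, colimit.ι_desc]
      exact (Category.comp_id _).symm
    haveI : IsIso (colimit.desc ((Functor.const I).obj N) ⟨N, 𝟙 _⟩) :=
      (IsColimit.coconePointUniqueUpToIso (colimit.isColimit _) (isColimitConstCocone I N)).isIso_hom
    rw [e]
    infer_instance
  haveI : Epi (colimit.desc J cJ) := ⟨fun {T} u v h => by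
    have hj : ∀ i, η.app i ≫ u = η.app i ≫ v := fun i => by
      have h' := congrArg (fun m => π.app i ≫ colimit.ι J i ≫ m) h
      simp only [colimit.ι_desc_assoc] at h'
      rw [← hπι, NatTrans.comp_app, Category.assoc, Category.assoc]
      exact h'
    have hcc := isColimitOfPreserves (Scheme.Modules.pullback q) hc
    rw [← cancel_epi (adj.counit.app N), ← cancel_epi ((Scheme.Modules.pullback q).map (eqToHom hpt))]
    refine hcc.hom_ext fun i => ?_
    have h2 := hj i
    simp only [η, a, Functor.map_comp, Category.assoc] at h2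
    exact h2⟩
  haveI : IsIso (colimit.desc J cJ) := isIso_of_mono_of_epi _
  haveI : IsIso ((colimit.isColimit J).desc cJ) := ‹IsIso (colimit.desc J cJ)›
  let hJ : IsColimit cJ := (colimit.isColimit J).ofPointIso
  haveI : SheafOfModules.IsFiniteType (R := W.ringCatSheaf) cJ.pt := hft
  obtain ⟨l, hl⟩ := FTColimTop.exists_epi (O := W.sheaf) (D := J) (c := cJ) hJ
  refine ⟨D.obj l, hD l, η.app l, ?_⟩
  rw [← hπι]
  haveI : Epi (ι.app l) := hl
  exact epi_comp (π.app l) (ι.app l)

/-- The base change of fibre bounds. -/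
theorem fibre_bound_baseChange {X Y X' Y' : Scheme.{u}} {f : X ⟶ Y} {g : Y' ⟶ Y} {f' : X' ⟶ Y'}
    {g' : X' ⟶ X} [LocallyOfFiniteType f] (hc : IsPullback g' f' f g) (d : ℕ)
    (hd : ∀ y : Y, topologicalKrullDim ↥(f.fiber y) ≤ d) (y' : Y') :
    topologicalKrullDim ↥(f'.fiber y') ≤ d := by
  rw [FlatMisc.ApproxDim.fibre_dim_baseChange hc y']
  exact hd _

variable {A : Type u} [CommRing A]

/-- The core: a model over a Noetherian ring and a polynomial ring mapping onto `A`. -/
theorem finite_HH_of_model {A₀ : Type u} [CommRing A₀] [IsNoetherianRing A₀] (φ : A₀ →+* A)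
    {X Z : Scheme.{u}} [X.Over (Spec (CommRingCat.of A))] [IsProper (X ↘ Spec (CommRingCat.of A))]
    [Z.Over (Spec (CommRingCat.of A₀))] [IsProper (Z ↘ Spec (CommRingCat.of A₀))]
    (g : X ⟶ Z) [IsAffineHom g]
    (hg : g ≫ (Z ↘ Spec (CommRingCat.of A₀)) =
      (X ↘ Spec (CommRingCat.of A)) ≫ Spec.map (CommRingCat.ofHom φ))
    (d : ℕ) (hd : ∀ s, topologicalKrullDim ↥((Z ↘ Spec (CommRingCat.of A₀)).fiber s) ≤ d)
    {M : X.Modules} (hM : Coh.IsQCoh M) (hft : CohB1.IsFT M) :
    Module.Finite A (Coh.HH X M d) := by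
  letI := φ.toAlgebra
  let P := MvPolynomial A A₀
  let ev : P →+* A := (MvPolynomial.aeval (fun a : A => a)).toRingHom
  have hev : Function.Surjective ev := fun a => ⟨MvPolynomial.X a, MvPolynomial.aeval_X _ a⟩
  have hevC : ev.comp (algebraMap A₀ P) = φ := RingHom.ext fun r =>
    MvPolynomial.aeval_C (fun a : A => a) r
  let sC := Spec.map (CommRingCat.ofHom (algebraMap A₀ P))
  let πZ := Z ↘ Spec (CommRingCat.of A₀)
  let W := pullback πZ sC
  letI : W.Over (Spec (CommRingCat.of P)) := ⟨pullback.snd πZ sC⟩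
  let q : W ⟶ Z := pullback.fst πZ sC
  haveI : IsAffineHom q := MorphismProperty.pullback_fst _ _ inferInstance
  haveI : IsProper (W ↘ Spec (CommRingCat.of P)) := MorphismProperty.pullback_snd πZ sC inferInstance
  let πX := X ↘ Spec (CommRingCat.of A)
  have hw : g ≫ πZ = (πX ≫ Spec.map (CommRingCat.ofHom ev)) ≫ sC := by
    rw [Category.assoc, ← Spec.map_comp, ← CommRingCat.ofHom_comp, hevC]
    exact hg
  let j : X ⟶ W := pullback.lift g (πX ≫ Spec.map (CommRingCat.ofHom ev)) hw
  have hjq : j ≫ q = g := pullback.lift_fst _ _ _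
  have hjπ : j ≫ (W ↘ Spec (CommRingCat.of P)) = πX ≫ Spec.map (CommRingCat.ofHom ev) :=
    pullback.lift_snd _ _ _
  haveI : IsAffineHom j := by
    haveI : IsAffineHom (j ≫ q) := by rw [hjq]; infer_instance
    exact IsAffineHom.of_comp j q
  haveI : IsClosedImmersion (Spec.map (CommRingCat.ofHom ev)) :=
    IsClosedImmersion.spec_of_surjective _ hev
  haveI : IsProper j := by
    haveI : IsProper (j ≫ (W ↘ Spec (CommRingCat.of P))) := by rw [hjπ]; infer_instance
    exact IsProper.of_comp j (W ↘ Spec (CommRingCat.of P))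
  haveI : IsFinite j := IsFinite.iff_isProper_and_isAffineHom.2 ⟨inferInstance, inferInstance⟩
  haveI : CompactSpace Z := QuasiCompact.compactSpace_of_compactSpace πZ
  haveI : Z.IsSeparated := ⟨by
    rw [← Limits.terminal.comp_from πZ]
    infer_instance⟩
  haveI : CompactSpace W := QuasiCompact.compactSpace_of_compactSpace (W ↘ Spec (CommRingCat.of P))
  let N := (Scheme.Modules.pushforward j).obj M
  have hN : Coh.IsCoh N := QCoh.isCoh_pushforward_finite j ⟨hM, hft⟩
  obtain ⟨G, hG, e, he⟩ := exists_epi_pullback q hN.1 hN.2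
  have hGq : Coh.IsQCoh G := QCoh.isQCoh_of_isFP hG
  haveI : IsLocallyNoetherian Z := LocallyOfFiniteType.isLocallyNoetherian πZ
  haveI := S0002.result A₀ Z G ⟨hGq, QCoh.isFT_of_isFP hG⟩ d
  obtain ⟨ebc⟩ := QCoh.nonempty_HH_flat_bc (A := A₀) (B := P) q (IsPullback.of_hasPullback πZ sC) hGq d
  haveI : Module.Finite P (Coh.HH W ((Scheme.Modules.pullback q).obj G) d) :=
    Module.Finite.equiv ebc.symm
  -- the kernel has no cohomology in degree `d + 1`
  let S : ShortComplex W.Modules := ShortComplex.mk (kernel.ι e) e (kernel.condition e)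
  have hS : S.ShortExact :=
    { exact := ShortComplex.exact_of_f_is_kernel _ (kernelIsKernel e) }
  have hK : Subsingleton (Coh.HH W S.X₁ (d + 1)) :=
    HighVanish.subsingleton_HH_of_fibre_dim (W ↘ Spec (CommRingCat.of P)) d
      (fibre_bound_baseChange (IsPullback.of_hasPullback πZ sC) d hd)
      (QCoh.isQCoh_kernel (QCoh.isQCoh_pullback q hGq) hN.1 e) (d + 1) (Nat.lt_succ_self d)
  haveI : Module.Finite P (Coh.HH W N d) :=
    Module.Finite.of_surjective (PnCoh.Finite.mapLin P e d) fun y =>
      PnCoh.Finite.exists_of_deltaLin_eq_zero P hS d (hK.elim _ _)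
  -- back to `X`
  have hρ : ∀ p : P, Coh.toGlobal πX (ev p) =
      j.appTop (Coh.toGlobal (W ↘ Spec (CommRingCat.of P)) p) := fun p => by
    show πX.appTop ((Scheme.ΓSpecIso (CommRingCat.of A)).inv (ev p)) =
      ((W ↘ Spec (CommRingCat.of P)).appTop ≫ j.appTop).hom
        ((Scheme.ΓSpecIso (CommRingCat.of P)).inv p)
    rw [← Scheme.Hom.comp_appTop, hjπ, Scheme.Hom.comp_appTop]
    exact congrArg πX.appTop
      (congr($(Scheme.ΓSpecIso_inv_naturality (CommRingCat.ofHom ev)) p))
  obtain ⟨E⟩ := QCoh.HH_push_linear j (Coh.toGlobal (W ↘ Spec (CommRingCat.of P)))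
    ((Coh.toGlobal πX).comp ev) hρ hM d
  letI : Algebra P A := ev.toAlgebra
  letI mP : Module P (Coh.HH X M d) := QCoh.modHH ((Coh.toGlobal πX).comp ev) M d
  haveI : IsScalarTower P A (Coh.HH X M d) := IsScalarTower.of_algebraMap_smul fun _ _ => rfl
  haveI : Module.Finite P (Coh.HH X M d) := Module.Finite.equiv E.symm
  exact Module.Finite.of_restrictScalars_finite P A (Coh.HH X M d)

/-- The affine case. -/
theorem finite_HH_top {X : Scheme.{u}} [X.Over (Spec (CommRingCat.of A))]
    [IsProper (X ↘ Spec (CommRingCat.of A))] (d : ℕ)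
    (hd : ∀ s, topologicalKrullDim ↥((X ↘ Spec (CommRingCat.of A)).fiber s) ≤ d)
    {M : X.Modules} (hM : Coh.IsQCoh M) (hft : CohB1.IsFT M) :
    Module.Finite A (Coh.HH X M d) := by
  obtain ⟨A₀, _, _, φ, Z, π, g, hπ, hgA, hg, hdZ⟩ :=
    HighVanish.exists_noetherian_model (X ↘ Spec (CommRingCat.of A)) d hd
  letI : Z.Over (Spec (CommRingCat.of A₀)) := ⟨π⟩
  haveI : IsProper (Z ↘ Spec (CommRingCat.of A₀)) := hπ
  haveI := hgA
  exact finite_HH_of_model φ g hg d hdZ hM hft

/-- The top higher direct image is coherent. -/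
theorem isCoh_Rpush_top {X Y : Scheme.{u}} (f : X ⟶ Y) [IsProper f] (d : ℕ)
    (hd : ∀ y : Y, topologicalKrullDim ↥(f.fiber y) ≤ d) [HasInjectiveResolutions X.Modules]
    {M : X.Modules} (hM : Coh.IsCoh M) : Coh.IsCoh ((Coh.Rpush f d).obj M) := by
  refine QCoh.isCoh_Rpush_of_finite f M hM.1 d fun V hV => ?_
  letI : ((f ⁻¹ᵁ V : X.Opens) : Scheme.{u}).Over (Spec (CommRingCat.of Γ(Y, V))) := ⟨QCoh.overSpec f hV⟩
  haveI : IsProper (((f ⁻¹ᵁ V : X.Opens) : Scheme.{u}) ↘ Spec (CommRingCat.of Γ(Y, V))) := by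
    show IsProper ((f ∣_ V) ≫ hV.isoSpec.hom)
    infer_instance
  have hdV : ∀ s, topologicalKrullDim
      ↥((((f ⁻¹ᵁ V : X.Opens) : Scheme.{u}) ↘ Spec (CommRingCat.of Γ(Y, V))).fiber s) ≤ d := fun s => by
    refine (HighVanish.dim_fiber_le _ f (f ⁻¹ᵁ V).ι (f ⁻¹ᵁ V).ι.isEmbedding s (hV.fromSpec s)
      fun x hx => ?_).trans (hd _)
    subst hx
    show ((f ⁻¹ᵁ V).ι ≫ f) x = (QCoh.overSpec f hV ≫ hV.fromSpec) x
    rw [QCoh.overSpec_fromSpec f hV]
  have := finite_HH_top (A := Γ(Y, V)) d hdV (QCoh.isCoh_restrict_open hM).1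
    (QCoh.isCoh_restrict_open hM).2
  rw [← QCoh.toGlobal_overSpec f hV]
  exact this

end Groth.Agent.RelPC17.TopDegree
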