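import Groth.Agent.RelPC17.Chart
import Mathlib.AlgebraicGeometry.Morphisms.FiniteType

/-!
# Relative pseudo-coherence does not depend on the covers
-/

set_option autoImplicit false
set_option linter.style.haveILetI false
set_option backward.isDefEq.respectTransparency false
set_option backward.isDefEq.respectTransparency.types false

universe u

open CategoryTheory CategoryTheory.Limits AlgebraicGeometry TopologicalSpace Opposite

attribute [local instance] HasDerivedCategory.standard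

namespace Groth.Agent.RelPC17

open KFlatLib

variable {X Y : Scheme.{u}} (f : X ⟶ Y)

/-- A pseudo-coherent chart exists on `U` over `V`. -/
def ChartOK (m : ℤ) (E : DCoh.D X) (U : X.Opens) (V : Y.Opens) (h : U ≤ f ⁻¹ᵁ V) : Prop :=
  ∃ (n : ℕ) (φ : MvPolynomial (Fin n) Γ(Y, V) →+* Γ(X, U)),
    DerSch.IsChart f U V h φ ∧ DerSch.ChartPC m E U V φ

variable {f}

lemma chartOK_congr {m : ℤ} {E : DCoh.D X} {U U' : X.Opens} {V V' : Y.Opens} {h : U ≤ f ⁻¹ᵁ V}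
    {h' : U' ≤ f ⁻¹ᵁ V'} (eU : U = U') (eV : V = V') :
    ChartOK f m E U V h ↔ ChartOK f m E U' V' h' := by
  subst eU; subst eV; rfl

/-- Any chart works. -/
theorem chartPC_of_chartOK {m : ℤ} {E : DCoh.D X} {U : X.Opens} {V : Y.Opens} {h : U ≤ f ⁻¹ᵁ V}
    (hU : IsAffineOpen U) (H : ChartOK f m E U V h) {k : ℕ}
    (ψ : MvPolynomial (Fin k) Γ(Y, V) →+* Γ(X, U)) (hψ : DerSch.IsChart f U V h ψ) :
    DerSch.ChartPC m E U V ψ := by
  obtain ⟨n, φ, hφ, hpc⟩ := H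
  rw [chartPC_iff hU hψ.1]
  exact (pcat_indep hU φ hφ.1 ψ hψ.1 (hφ.2.trans hψ.2.symm) m E).1 ((chartPC_iff hU hφ.1 m E).1 hpc)

lemma exists_isChart {U : X.Opens} {V : Y.Opens} (h : U ≤ f ⁻¹ᵁ V)
    (hft : (f.appLE V U h).hom.FiniteType) :
    ∃ (n : ℕ) (φ : MvPolynomial (Fin n) Γ(Y, V) →+* Γ(X, U)), DerSch.IsChart f U V h φ := by
  letI := (f.appLE V U h).hom.toAlgebra
  haveI : Algebra.FiniteType Γ(Y, V) Γ(X, U) := hft
  obtain ⟨n, α, hα⟩ :=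
    Algebra.FiniteType.iff_quotient_mvPolynomial''.1 (inferInstance : Algebra.FiniteType Γ(Y, V) Γ(X, U))
  exact ⟨n, α.toRingHom, hα, α.comp_algebraMap⟩

lemma res_comp_appLE {U U' : X.Opens} {V : Y.Opens} (h : U ≤ f ⁻¹ᵁ V) (hle : U' ≤ U) :
    (res hle).comp (f.appLE V U h).hom = (f.appLE V U' (hle.trans h)).hom :=
  congrArg CommRingCat.Hom.hom (Scheme.Hom.appLE_map f h (homOfLE hle).op)

lemma appLE_comp_res {U : X.Opens} {V V' : Y.Opens} (hle : V' ≤ V) (h : U ≤ f ⁻¹ᵁ V') :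
    (f.appLE V' U h).hom.comp (Y.presheaf.map (homOfLE hle).op).hom =
      (f.appLE V U (h.trans (Scheme.Hom.preimage_mono _ hle))).hom :=
  congrArg CommRingCat.Hom.hom (Scheme.Hom.map_appLE f h (homOfLE hle).op)

/-- Restriction to a principal open. -/
theorem chartOK_basicOpen {m : ℤ} {E : DCoh.D X} {U : X.Opens} {V : Y.Opens} {h : U ≤ f ⁻¹ᵁ V}
    (hU : IsAffineOpen U) (g : Γ(X, U)) (H : ChartOK f m E U V h) :
    ChartOK f m E (X.basicOpen g) V ((X.basicOpen_le g).trans h) := by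
  obtain ⟨n, φ, ⟨hφ, hφC⟩, hpc⟩ := H
  obtain ⟨k, ψ, hψ, hψC, hψpc⟩ := exists_chart_basicOpen hU φ hφ g ((chartPC_iff hU hφ m E).1 hpc)
  refine ⟨k, ψ, ⟨hψ, ?_⟩, (chartPC_iff (hU.basicOpen g) hψ m E).2 hψpc⟩
  rw [hψC, hφC, res_comp_appLE]

/-- From a principal open of the base to the base. -/
theorem chartOK_of_basicOpen_base {m : ℤ} {E : DCoh.D X} {U : X.Opens} {V : Y.Opens}
    (hU : IsAffineOpen U) (hV : IsAffineOpen V) (r : Γ(Y, V)) {h : U ≤ f ⁻¹ᵁ Y.basicOpen r}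
    (H : ChartOK f m E U (Y.basicOpen r) h) :
    ChartOK f m E U V (h.trans (Scheme.Hom.preimage_mono _ (Y.basicOpen_le r))) := by
  letI : Algebra Γ(Y, V) Γ(Y, Y.basicOpen r) := (Y.presheaf.map (homOfLE (Y.basicOpen_le r)).op).hom.toAlgebra
  haveI : IsLocalization.Away r Γ(Y, Y.basicOpen r) := hV.isLocalization_basicOpen r
  obtain ⟨n, φ, ⟨hφ, hφC⟩, hpc⟩ := H
  obtain ⟨k, ψ, hψ, hψC, hψpc⟩ := exists_chart_base r hU φ hφ ((chartPC_iff hU hφ m E).1 hpc)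
  refine ⟨k, ψ, ⟨hψ, ?_⟩, (chartPC_iff hU hψ m E).2 hψpc⟩
  rw [hψC, hφC]
  exact appLE_comp_res (Y.basicOpen_le r) h

/-- From the base to a principal open of the base. -/
theorem chartOK_basicOpen_base {m : ℤ} {E : DCoh.D X} {U : X.Opens} {V : Y.Opens}
    (hU : IsAffineOpen U) (hV : IsAffineOpen V) (r : Γ(Y, V)) (h : U ≤ f ⁻¹ᵁ Y.basicOpen r)
    (H : ChartOK f m E U V (h.trans (Scheme.Hom.preimage_mono _ (Y.basicOpen_le r)))) :
    ChartOK f m E U (Y.basicOpen r) h := by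
  letI : Algebra Γ(Y, V) Γ(Y, Y.basicOpen r) := (Y.presheaf.map (homOfLE (Y.basicOpen_le r)).op).hom.toAlgebra
  haveI : IsLocalization.Away r Γ(Y, Y.basicOpen r) := hV.isLocalization_basicOpen r
  obtain ⟨n, φ, ⟨hφ, hφC⟩, hpc⟩ := H
  obtain ⟨ψ, hψ, hψC, hψpc⟩ := exists_chart_base_away r hU φ hφ (f.appLE (Y.basicOpen r) U h).hom
    ((appLE_comp_res (Y.basicOpen_le r) h).trans hφC.symm) ((chartPC_iff hU hφ m E).1 hpc)
  exact ⟨n, ψ, ⟨hψ, hψC⟩, (chartPC_iff hU hψ m E).2 hψpc⟩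

/-- Gluing along principal opens. -/
theorem chartOK_of_cover {m : ℤ} {E : DCoh.D X} {U : X.Opens} {V : Y.Opens} {h : U ≤ f ⁻¹ᵁ V}
    (hU : IsAffineOpen U) (hft : (f.appLE V U h).hom.FiniteType) {ι : Type*} (g : ι → Γ(X, U))
    (hg : Ideal.span (Set.range g) = ⊤)
    (H : ∀ j, ChartOK f m E (X.basicOpen (g j)) V ((X.basicOpen_le _).trans h)) :
    ChartOK f m E U V h := by
  obtain ⟨n, φ, hφ, hφC⟩ := exists_isChart h hft
  choose G hG using fun j => hφ (g j)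
  refine ⟨n, φ, ⟨hφ, hφC⟩, (chartPC_iff hU hφ m E).2 ?_⟩
  refine pcat_of_cover hU φ hφ G ?_ m E fun j γ' hγ' hc => ?_
  · rw [show φ ∘ G = g from funext hG]; exact hg
  · obtain ⟨k, ψ, ⟨hψ, hψC⟩, hpc⟩ := (chartOK_congr (V' := V)
      (U' := X.basicOpen (φ (G j))) (h' := (X.basicOpen_le _).trans h) (by rw [hG]) rfl).1 (H j)
    obtain ⟨σ, hσ, hσpc, hσC⟩ := exists_away_section (L := Localization.Away (G j)) (G j)
    have hW := hU.basicOpen (φ (G j))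
    obtain ⟨χ, hχ, hχC, hiff⟩ := exists_fin_chart hW (γ'.comp σ) (hγ'.comp hσ) m E
    have hC : ψ.comp MvPolynomial.C = χ.comp MvPolynomial.C := RingHom.ext fun r => ?_
    · intro _
      exact (pcat_comp_iff hW σ hσ hσpc γ' hγ' m E).1 (hiff.1
        ((pcat_indep hW ψ hψ χ hχ hC m E).1 ((chartPC_iff hW hψ m E).1 hpc)))
    rw [RingHom.comp_apply, RingHom.comp_apply, hχC, RingHom.comp_apply, ← RingHom.comp_apply σ, hσC,
      ← RingHom.comp_apply γ', hc, ← RingHom.comp_apply ψ, hψC, RingHom.comp_apply,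
      ← RingHom.comp_apply φ, hφC, ← RingHom.comp_apply (res _), res_comp_appLE]

lemma finiteType_appLE [LocallyOfFiniteType f] {U : X.Opens} {V : Y.Opens} (hU : IsAffineOpen U)
    (hV : IsAffineOpen V) (h : U ≤ f ⁻¹ᵁ V) : (f.appLE V U h).hom.FiniteType :=
  HasRingHomProperty.appLE @LocallyOfFiniteType f inferInstance ⟨V, hV⟩ ⟨U, hU⟩ h

/-- Charts near every point are enough for all pairs of affine opens. -/
theorem chartOK_of_local [LocallyOfFiniteType f] {m : ℤ} {E : DCoh.D X}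
    (H : ∀ x : X, ∃ (U₀ : X.Opens) (V₀ : Y.Opens) (h₀ : U₀ ≤ f ⁻¹ᵁ V₀),
      IsAffineOpen U₀ ∧ IsAffineOpen V₀ ∧ x ∈ U₀ ∧ ChartOK f m E U₀ V₀ h₀)
    {U : X.Opens} {V : Y.Opens} (hU : IsAffineOpen U) (hV : IsAffineOpen V) (h : U ≤ f ⁻¹ᵁ V) :
    ChartOK f m E U V h := by
  have key : ∀ x : U, ∃ g : Γ(X, U), x.1 ∈ X.basicOpen g ∧
      ChartOK f m E (X.basicOpen g) V ((X.basicOpen_le g).trans h) := by
    intro x
    obtain ⟨U₀, V₀, h₀, hU₀, hV₀, hx₀, hc⟩ := H x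
    obtain ⟨r, r₀, hr, hfx⟩ := exists_basicOpen_le_affine_inter hV hV₀ (f x.1) ⟨h x.2, h₀ hx₀⟩
    let U₁ := X.basicOpen (f.appLE V₀ U₀ h₀ r₀)
    have hU₁ : IsAffineOpen U₁ := hU₀.basicOpen _
    have hU₁le : U₁ ≤ f ⁻¹ᵁ Y.basicOpen r₀ := by
      simp only [U₁, Scheme.basicOpen_appLE]; exact inf_le_right
    have hx₁ : x.1 ∈ U₁ := by
      simp only [U₁, Scheme.basicOpen_appLE]; exact ⟨hx₀, hr ▸ hfx⟩
    have c₁ := chartOK_basicOpen_base hU₁ hV₀ r₀ hU₁le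
      (chartOK_basicOpen hU₀ (f.appLE V₀ U₀ h₀ r₀) hc)
    obtain ⟨g, g₀, hg, hgx⟩ := exists_basicOpen_le_affine_inter hU hU₁ x.1 ⟨x.2, hx₁⟩
    have c₂ := chartOK_basicOpen hU₁ g₀ c₁
    have hgle : X.basicOpen g ≤ f ⁻¹ᵁ Y.basicOpen r := by
      rw [hg, hr]; exact (X.basicOpen_le g₀).trans hU₁le
    exact ⟨g, hgx, chartOK_of_basicOpen_base (hU.basicOpen g) hV r
      ((chartOK_congr (h' := hgle) hg.symm hr.symm).1 c₂)⟩
  choose g hgx hg using key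
  refine chartOK_of_cover hU (finiteType_appLE hU hV h) g ?_ hg
  rw [← hU.iSup_basicOpen_eq_self_iff]
  refine le_antisymm (iSup_le fun i => X.basicOpen_le _) fun x hx => ?_
  exact Opens.mem_iSup.2 ⟨⟨g ⟨x, hx⟩, ⟨x, hx⟩, rfl⟩, hgx _⟩

/-- Relative pseudo-coherence gives charts on all pairs of affine opens. -/
theorem chartOK_of_rel {m : ℤ} {E : DCoh.D X} (hE : DerSch.IsPseudoCoherentRel f m E)
    {U : X.Opens} {V : Y.Opens} (hU : IsAffineOpen U) (hV : IsAffineOpen V) (h : U ≤ f ⁻¹ᵁ V) :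
    ChartOK f m E U V h := by
  obtain ⟨hft, 𝒱, h𝒱, hc⟩ := hE
  haveI := hft
  refine chartOK_of_local (fun x => ?_) hU hV h
  have hx : f x ∈ (⊤ : Y.Opens) := trivial
  rw [← h𝒱] at hx
  obtain ⟨V₀, hV₀⟩ := Opens.mem_iSup.1 hx
  obtain ⟨hV₀mem, hxV₀⟩ := Opens.mem_iSup.1 hV₀
  obtain ⟨𝒰, h𝒰, hc'⟩ := hc V₀ hV₀mem
  have hx' : x ∈ f ⁻¹ᵁ (V₀ : Y.Opens) := hxV₀
  rw [← h𝒰] at hx'
  obtain ⟨U₀, hU₀⟩ := Opens.mem_iSup.1 hx'
  obtain ⟨hU₀mem, hxU₀⟩ := Opens.mem_iSup.1 hU₀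
  have hle : (U₀ : X.Opens) ≤ f ⁻¹ᵁ (V₀ : Y.Opens) := h𝒰 ▸ le_biSup _ hU₀mem
  exact ⟨U₀, V₀, hle, U₀.2, V₀.2, hxU₀, hc' U₀ hU₀mem hle⟩

/-- Charts near every point give relative pseudo-coherence. -/
theorem rel_of_forall [LocallyOfFiniteType f] {m : ℤ} {E : DCoh.D X}
    (H : ∀ (U : X.Opens) (V : Y.Opens), IsAffineOpen U → IsAffineOpen V →
      ∀ h : U ≤ f ⁻¹ᵁ V, ChartOK f m E U V h) :
    DerSch.IsPseudoCoherentRel f m E := by
  refine ⟨inferInstance, Set.univ, ?_, fun V _ => ⟨{U | (U : X.Opens) ≤ f ⁻¹ᵁ (V : Y.Opens)}, ?_, ?_⟩⟩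
  · simpa using iSup_affineOpens_eq_top Y
  · refine le_antisymm (iSup₂_le fun U hU => hU) fun x hx => ?_
    obtain ⟨_, ⟨W, hW, rfl⟩, hxW, hWV⟩ :=
      X.isBasis_affineOpens.exists_subset_of_mem_open hx (f ⁻¹ᵁ (V : Y.Opens)).2
    exact Opens.mem_iSup.2 ⟨⟨W, hW⟩, Opens.mem_iSup.2 ⟨hWV, hxW⟩⟩
  · exact fun U hU h => H U V U.2 V.2 h

/-- Charts near every point give relative pseudo-coherence. -/
theorem rel_of_local [LocallyOfFiniteType f] {m : ℤ} {E : DCoh.D X}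
    (H : ∀ x : X, ∃ (U₀ : X.Opens) (V₀ : Y.Opens) (h₀ : U₀ ≤ f ⁻¹ᵁ V₀),
      IsAffineOpen U₀ ∧ IsAffineOpen V₀ ∧ x ∈ U₀ ∧ ChartOK f m E U₀ V₀ h₀) :
    DerSch.IsPseudoCoherentRel f m E :=
  rel_of_forall fun _ _ hU hV h => chartOK_of_local H hU hV h

/-- Relative pseudo-coherence in terms of all charts. -/
theorem rel_iff [LocallyOfFiniteType f] {m : ℤ} {E : DCoh.D X} :
    DerSch.IsPseudoCoherentRel f m E ↔
      ∀ (U : X.Opens) (V : Y.Opens), IsAffineOpen U → IsAffineOpen V →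
        ∀ (h : U ≤ f ⁻¹ᵁ V) (n : ℕ) (φ : MvPolynomial (Fin n) Γ(Y, V) →+* Γ(X, U)),
          DerSch.IsChart f U V h φ → PCat m E U φ := by
  refine ⟨fun hE U V hU hV h n φ hφ =>
    (chartPC_iff hU hφ.1 m E).1 (chartPC_of_chartOK hU (chartOK_of_rel hE hU hV h) φ hφ),
    fun H => rel_of_forall fun U V hU hV h => ?_⟩
  obtain ⟨n, φ, hφ⟩ := exists_isChart h (finiteType_appLE hU hV h)
  exact ⟨n, φ, hφ, (chartPC_iff hU hφ.1 m E).2 (H U V hU hV h n φ hφ)⟩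

end Groth.Agent.RelPC17
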