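import Groth.Agent.RelPC17.Rel
import Groth.Agent.PerfMor.FlatPC
import Groth.Agent.H9Misc.DRingRelPC2

/-!
# Relative pseudo-coherence and composition; closed immersions
-/

set_option autoImplicit false
set_option linter.style.haveILetI false
set_option backward.isDefEq.respectTransparency false
set_option backward.isDefEq.respectTransparency.types false

universe u

open CategoryTheory CategoryTheory.Limits AlgebraicGeometry TopologicalSpace Opposite

attribute [local instance] HasDerivedCategory.standard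

namespace Groth.Agent.RelPC17

open KFlatLib H9Misc.DRingRelPC

variable {X Y S P Z : Scheme.{u}}

/-- A closed immersion of affine schemes with pseudo-coherent structure sheaf comes from a
pseudo-coherent surjection. -/
theorem pcHom_of_pcImm {A B : CommRingCat.{u}} (g : A ⟶ B) [IsClosedImmersion (Spec.map g)]
    (h : PCImm (Spec.map g)) : PCHom g.hom := by
  haveI : PreservesFiniteLimits (tilde.functor A) := QCoh.tilde_preservesFiniteLimits
  haveI : PreservesFiniteColimits (tilde.functor A) := QCoh.tilde_preservesFiniteColimits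
  haveI : (tilde.functor A).Additive := tilde_additive _
  let N := (ModuleCat.restrictScalars.{u} g.hom).obj (ModuleCat.of B B)
  let e : DCoh.inD (Spec A) ((Scheme.Modules.pushforward (Spec.map g)).obj (Coh.structureModule (Spec B))) ≅
      (DCoh.tildeD A).obj (Dual.inD A N) :=
    (DerivedCategory.singleFunctor (Spec A).Modules 0).mapIso
        ((Scheme.Modules.pushforward (Spec.map g)).mapIso tildeSelf.symm ≪≫ (pushTildeIso g).app _) ≪≫
      (((tilde.functor A).mapDerivedCategorySingleFunctor 0).app N).symm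
  exact (H9Misc.DRingPC.pc'_iff _).2 fun m =>
    (Groth.Agent.S1004.result A _ m).1 ((isPseudoCoherentD_iff _ _).2 ((h m).of_iso e))

variable {U : X.Opens} {R : Type u} [CommRing R]

/-- A pseudo-coherent presentation gives a closed immersion with pseudo-coherent structure sheaf. -/
theorem pcImm_imm (hU : IsAffineOpen U) {γ : R →+* Γ(X, U)} (hγ : Function.Surjective γ)
    (h : PCHom γ) [IsClosedImmersion (imm U γ)] : PCImm (imm U γ) := by
  haveI := isIso_toSpecΓ hU
  haveI : IsClosedImmersion (Spec.map (CommRingCat.ofHom γ)) :=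
    IsClosedImmersion.spec_of_surjective _ hγ
  refine (pcImm_specMap (CommRingCat.ofHom γ) h).square (𝟙 _) U.toSpecΓ (imm U γ)
    (by rw [Category.comp_id, imm]) ?_
  rw [Scheme.Hom.opensRange_of_isIso, Scheme.Hom.opensRange_of_isIso]; rfl

/-- The presentation of a closed immersion with pseudo-coherent structure sheaf is pseudo-coherent. -/
theorem pcHom_of_pcImm_imm (hU : IsAffineOpen U) {γ : R →+* Γ(X, U)} (hγ : Function.Surjective γ)
    [IsClosedImmersion (imm U γ)] (h : PCImm (imm U γ)) : PCHom γ := by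
  haveI := isIso_toSpecΓ hU
  haveI : IsClosedImmersion (Spec.map (CommRingCat.ofHom γ)) :=
    IsClosedImmersion.spec_of_surjective _ hγ
  refine pcHom_of_pcImm (CommRingCat.ofHom γ) (h.square (𝟙 _) (inv U.toSpecΓ)
    (Spec.map (CommRingCat.ofHom γ)) ?_ ?_)
  · rw [Category.comp_id, IsIso.inv_comp_eq]; rfl
  · rw [Scheme.Hom.opensRange_of_isIso, Scheme.Hom.opensRange_of_isIso]; rfl

/-- All charts of `g` are pseudo-coherent. -/
def ChartsPC (g : Y ⟶ S) : Prop :=
  ∀ (W : Y.Opens) (V : S.Opens), IsAffineOpen W → IsAffineOpen V → ∀ (h : W ≤ g ⁻¹ᵁ V) (n : ℕ)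
    (φ : MvPolynomial (Fin n) Γ(S, V) →+* Γ(Y, W)), DerSch.IsChart g W V h φ → PCHom φ

/-- A flat morphism locally of finite presentation has pseudo-coherent charts. -/
theorem chartsPC_of_flat (g : Y ⟶ S) [Flat g] [LocallyOfFinitePresentation g] : ChartsPC g := by
  intro W V hW hV h n φ hφ
  letI := (g.appLE V W h).hom.toAlgebra
  haveI : Algebra.FinitePresentation Γ(S, V) Γ(Y, W) := g.finitePresentation_appLE hV hW h
  haveI : Module.Flat Γ(S, V) Γ(Y, W) := HasRingHomProperty.appLE @Flat g ‹_› ⟨V, hV⟩ ⟨W, hW⟩ h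
  exact (PerfMor.q_of_flat_fp Γ(S, V) Γ(Y, W)).pcHom φ hφ.1 hφ.2

/-- A pseudo-coherent morphism has pseudo-coherent charts. -/
theorem chartsPC_of_nPC (g : Y ⟶ S) [LocallyOfFiniteType g]
    (hg : ∀ n : ℤ, DerSch.IsNPseudoCoherent g n) : ChartsPC g := by
  intro W V hW hV h n φ hφ
  haveI := isClosedImmersion_imm hW hφ.1
  exact pcHom_of_pcImm_imm hW hφ.1 fun m => LocPC.of_iso
    ((pD (imm W φ)).mapIso (rhoInD W.ι _ ≪≫
      (DerivedCategory.singleFunctor _ 0).mapIso (restrictStructureIso W.ι)) ≪≫ pDInD (imm W φ) _)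
    (rel_iff.1 (hg m) W V hW hV h n φ hφ)

/-- Composite charts. -/
theorem exists_comp_chart {f : X ⟶ Y} {g : Y ⟶ S} (hg : ChartsPC g) [LocallyOfFiniteType f]
    [LocallyOfFiniteType g] {W : Y.Opens} {V : S.Opens} (hU : IsAffineOpen U) (hW : IsAffineOpen W)
    (hV : IsAffineOpen V) (h : U ≤ f ⁻¹ᵁ W) (h' : W ≤ g ⁻¹ᵁ V) (m : ℤ) (E : DCoh.D X) :
    ∃ (n k : ℕ) (φ : MvPolynomial (Fin n) Γ(S, V) →+* Γ(X, U))
      (ψ : MvPolynomial (Fin k) Γ(Y, W) →+* Γ(X, U)),
      DerSch.IsChart (f ≫ g) U V (h.trans (f.preimage_mono h')) φ ∧ DerSch.IsChart f U W h ψ ∧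
        (PCat m E U φ ↔ PCat m E U ψ) := by
  obtain ⟨a, θ, hθ⟩ := exists_isChart h' (finiteType_appLE hW hV h')
  obtain ⟨k, ψ, hψ⟩ := exists_isChart h (finiteType_appLE hU hW h)
  let σ : MvPolynomial (Fin k) (MvPolynomial (Fin a) Γ(S, V)) →+* MvPolynomial (Fin k) Γ(Y, W) :=
    MvPolynomial.map θ
  have hσ : Function.Surjective σ := MvPolynomial.map_surjective θ hθ.1
  obtain ⟨φ, hφ, hφC, hiff⟩ := exists_fin_chart hU (ψ.comp σ) (hψ.1.comp hσ) m E
  refine ⟨k + a, k, φ, ψ, ⟨hφ, RingHom.ext fun r => ?_⟩, hψ,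
    hiff.trans (pcat_comp_iff hU σ hσ (pcHom_map θ (hg W V hW hV h' a θ hθ) k) ψ hψ.1 m E)⟩
  rw [RingHom.comp_apply, hφC]
  simp only [σ, RingHom.comp_apply, MvPolynomial.map_C]
  rw [show θ (MvPolynomial.C r) = (g.appLE V W h').hom r from RingHom.congr_fun hθ.2 r,
    show ψ (MvPolynomial.C ((g.appLE V W h').hom r)) = (f.appLE W U h).hom ((g.appLE V W h').hom r) from
      RingHom.congr_fun hψ.2 _, ← CommRingCat.comp_apply, Scheme.Hom.appLE_comp_appLE]

/-- Relative pseudo-coherence for a composite with a pseudo-coherent morphism. -/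
theorem rel_comp_iff (f : X ⟶ Y) (g : Y ⟶ S) (hg : ChartsPC g) [LocallyOfFiniteType f]
    [LocallyOfFiniteType g] (m : ℤ) (E : DCoh.D X) :
    DerSch.IsPseudoCoherentRel (f ≫ g) m E ↔ DerSch.IsPseudoCoherentRel f m E := by
  have key : ∀ x : X, ∃ (U : X.Opens) (W : Y.Opens) (V : S.Opens) (_ : U ≤ f ⁻¹ᵁ W) (_ : W ≤ g ⁻¹ᵁ V),
      IsAffineOpen U ∧ IsAffineOpen W ∧ IsAffineOpen V ∧ x ∈ U := fun x => by
    obtain ⟨_, ⟨V, hV, rfl⟩, hxV, -⟩ := S.isBasis_affineOpens.exists_subset_of_mem_open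
      (show g (f x) ∈ (⊤ : S.Opens) from trivial) (⊤ : S.Opens).2
    obtain ⟨_, ⟨W, hW, rfl⟩, hxW, hle'⟩ :=
      Y.isBasis_affineOpens.exists_subset_of_mem_open (show f x ∈ g ⁻¹ᵁ V from hxV) (g ⁻¹ᵁ V).2
    obtain ⟨_, ⟨U, hU, rfl⟩, hxU, hle⟩ :=
      X.isBasis_affineOpens.exists_subset_of_mem_open (show x ∈ f ⁻¹ᵁ W from hxW) (f ⁻¹ᵁ W).2
    exact ⟨U, W, V, hle, hle', hU, hW, hV, hxU⟩
  refine ⟨fun H => rel_of_local fun x => ?_, fun H => rel_of_local fun x => ?_⟩
  · obtain ⟨U, W, V, h, h', hU, hW, hV, hx⟩ := key x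
    obtain ⟨n, k, φ, ψ, hφ, hψ, hiff⟩ := exists_comp_chart (f := f) hg hU hW hV h h' m E
    exact ⟨U, W, h, hU, hW, hx, k, ψ, hψ, (chartPC_iff hU hψ.1 m E).2
      (hiff.1 (rel_iff.1 H U V hU hV _ n φ hφ))⟩
  · obtain ⟨U, W, V, h, h', hU, hW, hV, hx⟩ := key x
    obtain ⟨n, k, φ, ψ, hφ, hψ, hiff⟩ := exists_comp_chart (f := f) hg hU hW hV h h' m E
    exact ⟨U, V, _, hU, hV, hx, n, φ, hφ, (chartPC_iff hU hφ.1 m E).2
      (hiff.2 (rel_iff.1 H U W hU hW h k ψ hψ))⟩

/-- Relative pseudo-coherence for a closed immersion is pseudo-coherence of the direct image. -/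
theorem rel_closed_iff (i : X ⟶ P) [IsClosedImmersion i] (m : ℤ) (E : DCoh.D X) :
    DerSch.IsPseudoCoherentRel i m E ↔ LocPC m ((pD i).obj E) := by
  have key : ∀ (W : P.Opens) (hW : IsAffineOpen W),
      ∃ φ : MvPolynomial (Fin 0) Γ(P, W) →+* Γ(X, i ⁻¹ᵁ W), DerSch.IsChart i (i ⁻¹ᵁ W) W le_rfl φ ∧
        (PCat m E (i ⁻¹ᵁ W) φ ↔ LocPC m ((rho W.ι).obj ((pD i).obj E))) := fun W hW => by
    let e := (MvPolynomial.isEmptyAlgEquiv Γ(P, W) (Fin 0))
    let ε : MvPolynomial (Fin 0) Γ(P, W) →+* Γ(P, W) := e.toRingEquiv.toRingHom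
    have hε : Function.Surjective ε := e.surjective
    have hs : Function.Surjective (i.app W).hom := Scheme.Hom.app_surjective i W hW
    let φ := (i.app W).hom.comp ε
    have hφ : DerSch.IsChart i (i ⁻¹ᵁ W) W le_rfl φ := ⟨hs.comp hε, RingHom.ext fun r => by
      show i.app W (e (MvPolynomial.C r)) = _
      rw [show e (MvPolynomial.C r) = r from e.commutes r, Scheme.Hom.app_eq_appLE]⟩
    haveI := isClosedImmersion_imm hW hε
    haveI := isClosedImmersion_imm (hW.preimage i) hφ.1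
    have hh : (i ∣_ W) ≫ imm W ε = imm (i ⁻¹ᵁ W) φ := by
      rw [imm, imm, ← Category.assoc, ← Scheme.Opens.toSpecΓ_naturality, Category.assoc,
        ← Spec.map_comp]
      rfl
    have hpc := pcImm_imm hW hε (PCHom.of_bijective e.bijective)
    refine ⟨φ, hφ, ⟨fun h => ?_, fun h => ?_⟩⟩
    · exact LocPC.of_iso (rhoPDOpen i W E).symm
        ((locPC_pD_iff hpc m _).1 (LocPC.of_iso (pDComp (i ∣_ W) (imm W ε) _ hh _).symm h))
    · intro _
      exact LocPC.of_iso (pDComp (i ∣_ W) (imm W ε) _ hh _)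
        ((locPC_pD_iff hpc m _).2 (LocPC.of_iso (rhoPDOpen i W E) h))
  refine ⟨fun H => LocPC.of_local fun p => ?_, fun H => rel_of_local fun x => ?_⟩
  · obtain ⟨_, ⟨W, hW, rfl⟩, hpW, -⟩ := P.isBasis_affineOpens.exists_subset_of_mem_open
      (show p ∈ (⊤ : P.Opens) from trivial) (⊤ : P.Opens).2
    obtain ⟨φ, hφ, hiff⟩ := key W hW
    haveI := H.1
    exact ⟨_, Scheme.Opens.ι W, inferInstance, ⟨⟨p, hpW⟩, rfl⟩,
      hiff.1 (rel_iff.1 H _ W (hW.preimage i) hW le_rfl 0 φ hφ)⟩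
  · obtain ⟨_, ⟨W, hW, rfl⟩, hpW, -⟩ := P.isBasis_affineOpens.exists_subset_of_mem_open
      (show i x ∈ (⊤ : P.Opens) from trivial) (⊤ : P.Opens).2
    obtain ⟨φ, hφ, hiff⟩ := key W hW
    exact ⟨i ⁻¹ᵁ W, W, le_rfl, hW.preimage i, hW, hpW, 0, φ, hφ,
      (chartPC_iff (hW.preimage i) hφ.1 m E).2 (hiff.2 (H.restrict _))⟩

/-- Relative pseudo-coherence for a closed immersion followed by a pseudo-coherent morphism. -/
theorem rel_closed_comp_iff (i : X ⟶ P) [IsClosedImmersion i] (g : P ⟶ S) (hg : ChartsPC g)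
    [LocallyOfFiniteType g] (m : ℤ) (E : DCoh.D X) :
    DerSch.IsPseudoCoherentRel (i ≫ g) m E ↔ LocPC m ((pD i).obj E) :=
  (rel_comp_iff i g hg m E).trans (rel_closed_iff i m E)

/-- The identity has pseudo-coherent structure sheaf. -/
theorem pcImm_id (P : Scheme.{u}) : PCImm (𝟙 P) := fun m => by
  let e₁ : FlatMod.freeMod P 1 ≅ Coh.structureModule P :=
    { hom := Sigma.desc fun _ => 𝟙 _
      inv := Sigma.ι (fun _ : Fin 1 => Coh.structureModule P) 0
      hom_inv_id := Sigma.hom_ext _ _ fun k => by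
        rw [Subsingleton.elim k 0]; simp
      inv_hom_id := by simp }
  have h : LocPC m (DerivedCategory.Q.obj
      ((HomologicalComplex.single P.Modules (ComplexShape.up ℤ) 0).obj (FlatMod.freeMod P 1))) :=
    LocSP.locPC (fun x => ⟨_, (⊤ : P.Opens).ι, inferInstance, ⟨⟨x, trivial⟩, rfl⟩, _,
      isStrictlyPerfect_restrict _ (isStrictlyPerfect_single 1), ⟨((rhoQ _).app _).symm⟩⟩) m
  exact h.of_iso (((DerivedCategory.singleFunctorIsoCompQ P.Modules 0).app _).symm ≪≫
    (DerivedCategory.singleFunctor P.Modules 0).mapIso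
      (e₁ ≪≫ ((Scheme.Modules.pushforwardId P).app _).symm))

/-- Relative pseudo-coherence for a pseudo-coherent morphism is absolute pseudo-coherence. -/
theorem rel_iff_locPC (g : P ⟶ S) (hg : ChartsPC g) [LocallyOfFiniteType g] (m : ℤ) (K : DCoh.D P) :
    DerSch.IsPseudoCoherentRel g m K ↔ LocPC m K := by
  have h := rel_closed_comp_iff (𝟙 P) g hg m K
  rw [Category.id_comp] at h
  refine h.trans ?_
  exact locPC_pD_iff (pcImm_id P) m K

end Groth.Agent.RelPC17
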