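import Groth.Agent.RelPC17.Nilp
import Groth.Agent.H9Misc.DRingNilp
import Groth.Agent.H23.GysinPb
import Groth.Agent.H23.GysinSq
import Mathlib.AlgebraicGeometry.Morphisms.Flat

/-!
# Relative tor amplitude descends along a finite order thickening of the base
-/

set_option autoImplicit false
set_option linter.style.haveILetI false
set_option backward.isDefEq.respectTransparency false
set_option backward.isDefEq.respectTransparency.types false

universe u

open CategoryTheory CategoryTheory.Limits AlgebraicGeometry TopologicalSpace Opposite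
open scoped TensorProduct

attribute [local instance] HasDerivedCategory.standard

namespace Groth.Agent.RelPC17

open KFlatLib H9Misc.DRingLTensor

section Ring

variable {A B A' B' : Type u} [CommRing A] [CommRing B] [CommRing A'] [CommRing B']

/-- The kernel of `M ⟶ B ⊗ M` for surjective `A ⟶ B`. -/
lemma mem_smul_of_unit_eq_zero (φ : A →+* B) (hφ : Function.Surjective φ) (M : ModuleCat.{u} A) (x : M)
    (hx : ((ModuleCat.extendRestrictScalarsAdj φ).unit.app M).hom x = 0) :
    x ∈ RingHom.ker φ • (⊤ : Submodule A M) := by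
  let p : Submodule A M := RingHom.ker φ • ⊤
  let q : M ⟶ ModuleCat.of A (M ⧸ p) := ModuleCat.ofHom p.mkQ
  haveI := H9Misc.DRingNilp.isIso_unit φ hφ (ModuleCat.of A (M ⧸ p)) fun r hr y => by
    obtain ⟨z, rfl⟩ := Submodule.mkQ_surjective p y
    exact (Submodule.Quotient.mk_eq_zero p).2 (Submodule.smul_mem_smul hr Submodule.mem_top)
  have hinj := ((ConcreteCategory.isIso_iff_bijective
    ((ModuleCat.extendRestrictScalarsAdj φ).unit.app (ModuleCat.of A (M ⧸ p)))).1 inferInstance).1
  refine (Submodule.Quotient.mk_eq_zero p).1 (hinj ?_)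
  have hn := congrArg (fun f => f.hom x) ((ModuleCat.extendRestrictScalarsAdj φ).unit.naturality q)
  refine (show (ModuleCat.extendRestrictScalarsAdj φ).unit.app (ModuleCat.of A (M ⧸ p)) (q x) = _ from hn).trans ?_
  exact ((congrArg ((ModuleCat.extendScalars.{u, u, u} φ).map q).hom hx).trans
    (map_zero ((ModuleCat.extendScalars.{u, u, u} φ).map q).hom)).trans
    (map_zero ((ModuleCat.extendRestrictScalarsAdj φ).unit.app (ModuleCat.of A (M ⧸ p))).hom).symm

/-- `M ⟶ B ⊗ M` is surjective for surjective `A ⟶ B`. -/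
lemma unit_surjective (φ : A →+* B) (hφ : Function.Surjective φ) (M : ModuleCat.{u} A) :
    Function.Surjective ((ModuleCat.extendRestrictScalarsAdj φ).unit.app M).hom := by
  letI := φ.toAlgebra
  exact TensorProduct.mk_surjective A M B hφ

variable (φ : A' →+* B') (β : A' →+* A) (ψ : B' →+* B) (φ₀ : A →+* B) (hsq : ψ.comp φ = φ₀.comp β)

/-- The two restrictions along the sides of a square agree. -/
noncomputable def sqRes (N : ModuleCat.{u} B) :
    (ModuleCat.restrictScalars.{u} φ).obj ((ModuleCat.restrictScalars.{u} ψ).obj N) ⟶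
      (ModuleCat.restrictScalars.{u} β).obj ((ModuleCat.restrictScalars.{u} φ₀).obj N) :=
  (ModuleCat.restrictScalarsComp'App φ ψ (ψ.comp φ) rfl N).inv ≫
    (ModuleCat.restrictScalarsComp'App β φ₀ (ψ.comp φ) hsq N).hom

lemma sqRes_natural {N N' : ModuleCat.{u} B} (g : N ⟶ N') :
    (ModuleCat.restrictScalars.{u} φ).map ((ModuleCat.restrictScalars.{u} ψ).map g) ≫ sqRes φ β ψ φ₀ hsq N' =
      sqRes φ β ψ φ₀ hsq N ≫ (ModuleCat.restrictScalars.{u} β).map ((ModuleCat.restrictScalars.{u} φ₀).map g) :=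
  ModuleCat.hom_ext (LinearMap.ext fun _ => rfl)

/-- `A ⊗ M ⟶ B ⊗ M` on a square. -/
noncomputable def sqCmp (M : ModuleCat.{u} B') :
    (ModuleCat.extendScalars.{u, u, u} β).obj ((ModuleCat.restrictScalars.{u} φ).obj M) ⟶
      (ModuleCat.restrictScalars.{u} φ₀).obj ((ModuleCat.extendScalars.{u, u, u} ψ).obj M) :=
  ((ModuleCat.extendRestrictScalarsAdj β).homEquiv _ _).symm
    ((ModuleCat.restrictScalars.{u} φ).map ((ModuleCat.extendRestrictScalarsAdj ψ).unit.app M) ≫
      sqRes φ β ψ φ₀ hsq ((ModuleCat.extendScalars.{u, u, u} ψ).obj M))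

lemma sqCmp_unit (M : ModuleCat.{u} B') (m : M) :
    (sqCmp φ β ψ φ₀ hsq M).hom
        (((ModuleCat.extendRestrictScalarsAdj β).unit.app ((ModuleCat.restrictScalars.{u} φ).obj M)).hom m) =
      ((ModuleCat.extendRestrictScalarsAdj ψ).unit.app M).hom m := by
  have h := ((ModuleCat.extendRestrictScalarsAdj β).homEquiv_unit (f := sqCmp φ β ψ φ₀ hsq M)).symm.trans
    (Equiv.apply_symm_apply _ _)
  exact (congrArg (fun f => f.hom m) h).trans rfl

variable (hβ : Function.Surjective β) (hψ : Function.Surjective ψ)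
  (hker : RingHom.ker ψ ≤ (RingHom.ker β).map φ)

include hβ hψ hker in
lemma isIso_sqCmp (M : ModuleCat.{u} B') : IsIso (sqCmp φ β ψ φ₀ hsq M) := by
  rw [ConcreteCategory.isIso_iff_bijective]
  let M₀ := (ModuleCat.restrictScalars.{u} φ).obj M
  let ub := ((ModuleCat.extendRestrictScalarsAdj β).unit.app M₀).hom
  let inc : M → M₀ := fun x => x
  refine ⟨(injective_iff_map_eq_zero (sqCmp φ β ψ φ₀ hsq M).hom).2 fun z hz => ?_, fun z => ?_⟩
  · obtain ⟨m, hm⟩ := unit_surjective β hβ M₀ z
    rw [← hm] at hz ⊢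
    have hz' : ((ModuleCat.extendRestrictScalarsAdj ψ).unit.app M).hom m = 0 :=
      (sqCmp_unit φ β ψ φ₀ hsq M m).symm.trans hz
    let mM : M := m
    have hm' : mM ∈ (RingHom.ker β).map φ • (⊤ : Submodule B' M) :=
      Submodule.smul_mono hker le_rfl (mem_smul_of_unit_eq_zero ψ hψ M m hz')
    clear hz hz' hm
    have key : ∀ (x : M) (c : B') (r : A'), r ∈ RingHom.ker β →
        ub (inc ((c * φ r) • x)) = 0 := fun x c r hr => by
      have h1 : (inc ((c * φ r) • x)) = r • (inc (c • x)) := by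
        show (c * φ r) • x = φ r • (c • x)
        rw [← mul_smul, mul_comm]
      rw [h1, map_smul]
      show β r • (show (ModuleCat.extendScalars.{u, u, u} β).obj M₀ from ub (inc (c • x))) = 0
      rw [show β r = 0 from hr, zero_smul]
    refine Submodule.smul_induction_on (p := fun y : M => ub (inc (y)) = 0) hm' (fun r hr x _ => ?_)
      (fun x y hx hy => ?_)
    · refine Submodule.span_induction (p := fun r _ => ∀ x : M, ub (inc (r • x)) = 0) ?_ ?_ ?_ ?_ hr x
      · rintro _ ⟨r, hr, rfl⟩ x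
        have := key x 1 r hr
        rwa [one_mul] at this
      · intro x
        rw [zero_smul]
        exact map_zero ub
      · intro r s _ _ h₁ h₂ x
        rw [add_smul]
        exact ((map_add ub (inc (r • x)) (inc (s • x))).trans (congrArg₂ (· + ·) (h₁ x) (h₂ x))).trans (add_zero _)
      · intro c r _ h x
        rw [smul_eq_mul, mul_comm, mul_smul]
        exact h (c • x)
    · exact ((map_add ub (inc (x)) (inc (y))).trans (congrArg₂ (· + ·) hx hy)).trans (add_zero _)
  · obtain ⟨m, hm⟩ := unit_surjective ψ hψ M z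
    exact ⟨ub m, (sqCmp_unit φ β ψ φ₀ hsq M m).trans hm⟩

lemma sqCmp_natural {M N : ModuleCat.{u} B'} (f : M ⟶ N) :
    (ModuleCat.extendScalars.{u, u, u} β).map ((ModuleCat.restrictScalars.{u} φ).map f) ≫
        sqCmp φ β ψ φ₀ hsq N =
      sqCmp φ β ψ φ₀ hsq M ≫ (ModuleCat.restrictScalars.{u} φ₀).map ((ModuleCat.extendScalars.{u, u, u} ψ).map f) := by
  apply ((ModuleCat.extendRestrictScalarsAdj β).homEquiv _ _).injective
  rw [Adjunction.homEquiv_naturality_left, Adjunction.homEquiv_naturality_right, sqCmp, sqCmp,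
    Equiv.apply_symm_apply, Equiv.apply_symm_apply]
  rw [← Category.assoc, ← Functor.map_comp, Category.assoc, ← sqRes_natural φ β ψ φ₀ hsq, ← Category.assoc,
    ← Functor.map_comp]
  exact congrArg (fun g => (ModuleCat.restrictScalars.{u} φ).map g ≫ sqRes φ β ψ φ₀ hsq _)
    ((ModuleCat.extendRestrictScalarsAdj ψ).unit.naturality f)

include hsq hβ hψ hker in
/-- Base change of complexes along a square. -/
theorem nonempty_sqCx (P : CochainComplex (ModuleCat.{u} B') ℤ) :
    Nonempty ((extC' β).obj (((ModuleCat.restrictScalars.{u} φ).mapHomologicalComplex (ComplexShape.up ℤ)).obj P) ≅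
      ((ModuleCat.restrictScalars.{u} φ₀).mapHomologicalComplex (ComplexShape.up ℤ)).obj ((extC' ψ).obj P)) := by
  haveI := fun M => isIso_sqCmp φ β ψ φ₀ hsq hβ hψ hker M
  exact ⟨HomologicalComplex.Hom.isoOfComponents (fun n => asIso (sqCmp φ β ψ φ₀ hsq (P.X n)))
    fun i j _ => (sqCmp_natural φ β ψ φ₀ hsq (P.d i j)).symm⟩

include hsq hβ hψ hker in
/-- Tor amplitude over a thickened base. -/
theorem amp_of_square (hnil : IsNilpotent (RingHom.ker β)) (hφ : φ.Flat)
    {P : CochainComplex (ModuleCat.{u} B') ℤ} (hP : IsKF P) (a b : ℤ)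
    (h : DRing.HasTorAmplitudeIn A a b (DerivedCategory.Q.obj
      (((ModuleCat.restrictScalars.{u} φ₀).mapHomologicalComplex (ComplexShape.up ℤ)).obj ((extC' ψ).obj P)))) :
    DRing.HasTorAmplitudeIn A' a b (DerivedCategory.Q.obj
      (((ModuleCat.restrictScalars.{u} φ).mapHomologicalComplex (ComplexShape.up ℤ)).obj P)) := by
  let res₀ := (ModuleCat.restrictScalars.{u} φ₀).mapHomologicalComplex (ComplexShape.up ℤ)
  let res := (ModuleCat.restrictScalars.{u} φ).mapHomologicalComplex (ComplexShape.up ℤ)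
  have hnilψ : IsNilpotent (RingHom.ker ψ) := by
    obtain ⟨k, hk⟩ := hnil
    refine ⟨k, le_bot_iff.1 ((Ideal.pow_right_mono hker k).trans ?_)⟩
    rw [← Ideal.map_pow, show (RingHom.ker β) ^ k = ⊥ from hk]
    exact le_of_eq Ideal.map_bot
  obtain ⟨E, hv, hf, ⟨eE⟩⟩ := h
  have hext : ∀ n, b < n → ((extC' ψ).obj P).ExactAt n := fun n hn => by
    have h1 : (res₀.obj ((extC' ψ).obj P)).ExactAt n := (HomologicalComplex.exactAt_iff_isZero_homology _ _).2
      ((ShortComplex.isZero_homology_of_isZero_X₂ _ (hv n (Or.inr hn))).of_iso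
        (((DerivedCategory.homologyFunctorFactors _ n).app _).symm ≪≫
          (DerivedCategory.homologyFunctor _ n).mapIso eE.symm ≪≫
          (DerivedCategory.homologyFunctorFactors _ n).app E))
    exact (ShortComplex.exact_map_iff_of_faithful (((extC' ψ).obj P).sc n) (ModuleCat.restrictScalars.{u} φ₀)).1 h1
  have hPz := exactAt_of_ext ψ hψ hnilψ hP b hext
  obtain ⟨P₂, ρ, hρ, hflat, hz⟩ := (KFlatLib.ringCover B').exists_bounded_resolution P b
    fun n hn => (hPz n hn).isZero_homology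
  haveI : P₂.IsStrictlyLE b := (CochainComplex.isStrictlyLE_iff _ _).2 hz
  have hflat' : ∀ n, Module.Flat B' (P₂.X n) := hflat
  have hP₂ : IsKF P₂ := KFlatLib.kFlat_of_isStrictlyLE b fun n => KFlatLib.flatObj_ringCover _ (hflat n)
  haveI := hρ
  haveI : QuasiIso ((extC' ψ).map ρ) := quasiIso_extendScalars ψ ρ hP₂ hP
  haveI : IsIso (DerivedCategory.Q.map (res₀.map ((extC' ψ).map ρ))) :=
    (DerivedCategory.isIso_Q_map_iff_quasiIso _ _).2 inferInstance
  haveI : IsIso (DerivedCategory.Q.map (res.map ρ)) :=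
    (DerivedCategory.isIso_Q_map_iff_quasiIso _ _).2 inferInstance
  have hflatA : DRing.TermwiseFlat (res.obj P₂) := fun n => by
    letI := φ.toAlgebra
    letI : Module A' (P₂.X n) := Module.compHom _ φ
    haveI : IsScalarTower A' B' (P₂.X n) := IsScalarTower.of_algebraMap_smul fun _ _ => rfl
    haveI : Module.Flat A' B' := hφ
    haveI := hflat' n
    exact Module.Flat.trans A' B' (P₂.X n)
  haveI := H9Misc.DRingLBase.hasLBaseChange β
  obtain ⟨e₁⟩ := H9Misc.DRingLBase.nonempty_lbase_iso β (K := res.obj P₂)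
    (H9Misc.DRingTor.isKF_of_flat hflatA fun n hn => (ModuleCat.restrictScalars.{u} φ).map_isZero (hz n hn))
  obtain ⟨θ⟩ := nonempty_sqCx φ β ψ φ₀ hsq hβ hψ hker P₂
  obtain ⟨E', hv', hf', ⟨eE'⟩⟩ :=
    (H9Misc.DRingNilp.amp_lbase_iff β hβ hnil (DerivedCategory.Q.obj (res.obj P₂)) a b).1
      ⟨E, hv, hf, ⟨eE ≪≫ (asIso (DerivedCategory.Q.map (res₀.map ((extC' ψ).map ρ)))).symm ≪≫
        DerivedCategory.Q.mapIso θ.symm ≪≫ e₁.symm⟩⟩
  exact ⟨E', hv', hf', ⟨eE' ≪≫ asIso (DerivedCategory.Q.map (res.map ρ))⟩⟩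

end Ring

section Scheme

variable {X X' Y Y' : Scheme.{u}} (f : X ⟶ Y) (f' : X' ⟶ Y') (i : X ⟶ X') (j : Y ⟶ Y')

/-- Stalkwise tor amplitude at a point only depends on the object of the derived category. -/
lemma hasTorAmplitudeAt_of_iso {F G : CochainComplex X.Modules ℤ} (e : DCoh.toD X F ≅ DCoh.toD X G) {a b : ℤ}
    {x : X} (h : DerSch.HasTorAmplitudeAt f a b F x) : DerSch.HasTorAmplitudeAt f a b G x := by
  haveI := Functor.preservesFiniteLimits_of_preservesHomology (DerSch.stalkOver f x)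
  haveI := Functor.preservesFiniteColimits_of_preservesHomology (DerSch.stalkOver f x)
  obtain ⟨E, hv, hf, ⟨eE⟩⟩ := h
  exact ⟨E, hv, hf, ⟨eE ≪≫ ((DerSch.stalkOver f x).mapDerivedCategoryFactors.app F).symm ≪≫
    (DerSch.stalkOver f x).mapDerivedCategory.mapIso e ≪≫
    (DerSch.stalkOver f x).mapDerivedCategoryFactors.app G⟩⟩

/-- The map of local rings of the bases at a point of a square. -/
noncomputable def sqBase (sq : i ≫ f' = f ≫ j) (x : X) :
    Y'.presheaf.stalk (f' (i x)) ⟶ Y.presheaf.stalk (f x) :=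
  Y'.presheaf.stalkSpecializes (specializes_of_eq
    (show j (f x) = f' (i x) from (congrArg (fun q : X ⟶ Y' => q x) sq).symm)) ≫ j.stalkMap (f x)

lemma sqBase_comm (sq : i ≫ f' = f ≫ j) (x : X) :
    (i.stalkMap x).hom.comp (f'.stalkMap (i x)).hom = (f.stalkMap x).hom.comp (sqBase f f' i j sq x).hom := by
  rw [← CommRingCat.hom_comp, ← CommRingCat.hom_comp, ← Scheme.Hom.stalkMap_comp, sqBase, Category.assoc,
    ← Scheme.Hom.stalkMap_comp, Scheme.Hom.stalkMap_congr_hom _ _ sq x, TopCat.Presheaf.stalkCongr_hom]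

lemma ker_sq_le_iso {a : X ⟶ pullback f' j} [IsIso a] (hi : a ≫ pullback.fst f' j = i)
    (hf : a ≫ pullback.snd f' j = f) [IsClosedImmersion j] (sq : i ≫ f' = f ≫ j) (x : X) :
    RingHom.ker (i.stalkMap x).hom ≤
      (RingHom.ker (sqBase f f' i j sq x).hom).map (f'.stalkMap (i x)).hom := by
  subst hi hf
  rw [H23.GysinSq.ker_stalkMap_iso_comp, H23.GysinPb.ker_stalkMap_fst, Ideal.map_le_iff_le_comap]
  intro t ht
  rw [Ideal.mem_comap]
  refine Ideal.mem_map_of_mem (f'.stalkMap (pullback.fst f' j (a x))).hom ?_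
  rw [RingHom.mem_ker]
  show (sqBase (a ≫ pullback.snd f' j) f' (a ≫ pullback.fst f' j) j sq x).hom
    ((Y'.presheaf.stalkSpecializes _).hom t) = 0
  rw [sqBase, ← CommRingCat.comp_apply]
  erw [← Category.assoc, TopCat.Presheaf.stalkSpecializes_comp, TopCat.Presheaf.stalkSpecializes_refl,
    Category.id_comp]
  exact ht

/-- Relative tor amplitude descends along a finite order thickening of the base. -/
theorem hasTorAmplitudeAt_of_lpull (sq : IsPullback i f f' j) [Flat f']
    (hj : MoreMor.IsFiniteOrderThickening j) [DCoh.HasLpull i] {E' : DCoh.D X'}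
    {F : CochainComplex X.Modules ℤ} (eF : DCoh.toD X F ≅ (DCoh.Lpull i).obj E')
    {F' : CochainComplex X'.Modules ℤ} (eF' : DCoh.toD X' F' ≅ E') {a b : ℤ} {x : X}
    (h : DerSch.HasTorAmplitudeAt f a b F x) : DerSch.HasTorAmplitudeAt f' a b F' (i x) := by
  haveI := hj.1.1
  haveI : IsClosedImmersion i := (ThickFin.isFiniteOrderThickening_baseChange hj sq).1.1
  let R := (kRes X').obj F'
  have hR : DCoh.IsKFlat R := isKFlat_kRes F'
  let eR : DCoh.toD X' R ≅ DCoh.toD X' F' := (resQIso X').app F'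
  haveI := isIso_lpullComparison i hR
  let eL : DCoh.toD X F ≅ DCoh.toD X ((pullCx i).obj R) :=
    eF ≪≫ (DCoh.Lpull i).mapIso (eR ≪≫ eF').symm ≪≫ asIso ((lpullComparison i).app R)
  obtain ⟨E, hv, hf, ⟨eE⟩⟩ := hasTorAmplitudeAt_of_iso f eL h
  let res₀ := (ModuleCat.restrictScalars.{u} (f.stalkMap x).hom).mapHomologicalComplex (ComplexShape.up ℤ)
  let u : (DerSch.stalkCxOver f x).obj ((pullCx i).obj R) ≅
      res₀.obj ((extC' (i.stalkMap x).hom).obj ((stalkCx (i x)).obj R)) :=
    ((Functor.mapHomologicalComplexCompIso (F := DerSch.stalkFunctor X x)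
      (G := ModuleCat.restrictScalars (f.stalkMap x).hom)
      (Iso.refl (DerSch.stalkOver f x)) (ComplexShape.up ℤ)).app _).symm ≪≫
      res₀.mapIso (stalkPullCxIso i x R)
  have hj' : Function.Surjective (sqBase f f' i j sq.w x).hom := by
    refine (j.stalkMap_surjective (f x)).comp ?_
    have he : j (f x) = f' (i x) := (congrArg (fun q : X ⟶ Y' => q x) sq.w).symm
    rw [← TopCat.Presheaf.stalkCongr_hom _ (Inseparable.of_eq he.symm)]
    exact (ConcreteCategory.bijective_of_isIso _).2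
  have hnil : IsNilpotent (RingHom.ker (sqBase f f' i j sq.w x).hom) := by
    obtain ⟨k, hk⟩ := nilThick_of_finiteOrder hj (f x)
    refine ⟨k, le_bot_iff.1 fun t ht => ?_⟩
    have he : j (f x) = f' (i x) := (congrArg (fun q : X ⟶ Y' => q x) sq.w).symm
    let s := (Y'.presheaf.stalkSpecializes (specializes_of_eq he)).hom
    have hs : Function.Injective s := by
      show Function.Injective (Y'.presheaf.stalkSpecializes (specializes_of_eq he))
      rw [← TopCat.Presheaf.stalkCongr_hom _ (Inseparable.of_eq he.symm)]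
      exact (ConcreteCategory.bijective_of_isIso _).1
    have h1 : t ∈ (RingHom.ker (j.stalkMap (f x)).hom ^ k).comap s :=
      Ideal.le_comap_pow s k ((show RingHom.ker (sqBase f f' i j sq.w x).hom =
        (RingHom.ker (j.stalkMap (f x)).hom).comap s from (RingHom.comap_ker _ s).symm) ▸ ht)
    rw [show RingHom.ker (j.stalkMap (f x)).hom ^ k = ⊥ from hk, Ideal.mem_comap, Ideal.mem_bot] at h1
    exact hs (h1.trans (map_zero s).symm)
  have key := amp_of_square (f'.stalkMap (i x)).hom (sqBase f f' i j sq.w x).hom (i.stalkMap x).hom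
    (f.stalkMap x).hom (sqBase_comm f f' i j sq.w x) hj' (i.stalkMap_surjective x)
    (ker_sq_le_iso f f' i j (a := sq.isoPullback.hom) sq.isoPullback_hom_fst sq.isoPullback_hom_snd sq.w x) hnil
    (Flat.stalkMap f' (i x)) ((kFlat_iff_stalk R).1 hR (i x)) a b
    ⟨E, hv, hf, ⟨eE ≪≫ DerivedCategory.Q.mapIso u⟩⟩
  obtain ⟨E₂, hv₂, hf₂, ⟨eE₂⟩⟩ := key
  refine hasTorAmplitudeAt_of_iso f' eR ⟨E₂, hv₂, hf₂, ⟨eE₂ ≪≫ DerivedCategory.Q.mapIso
    ((Functor.mapHomologicalComplexCompIso (F := DerSch.stalkFunctor X' (i x))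
      (G := ModuleCat.restrictScalars (f'.stalkMap (i x)).hom)
      (Iso.refl (DerSch.stalkOver f' (i x))) (ComplexShape.up ℤ)).app R)⟩⟩

/-- Relative finite tor amplitude descends along a finite order thickening of the base. -/
theorem locFiniteTorAmplitude_of_lpull (sq : IsPullback i f f' j) [Flat f']
    (hj : MoreMor.IsFiniteOrderThickening j) [DCoh.HasLpull i] (E' : DCoh.D X')
    (F : CochainComplex X.Modules ℤ) (eF : DCoh.toD X F ≅ (DCoh.Lpull i).obj E')
    (h : DerSch.LocFiniteTorAmplitude f F) : DerSch.LocFiniteTorAmplitudeD f' E' := by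
  intro F' ⟨eF'⟩ x'
  have hi := (ThickFin.isFiniteOrderThickening_baseChange hj sq).1
  haveI := hi.1
  haveI := hi.2
  obtain ⟨x, rfl⟩ := i.surjective x'
  obtain ⟨V, a, b, hxV, hV⟩ := h x
  obtain ⟨V', hV'⟩ := KZ.ClosedDev.exists_preimage_eq i V
  refine ⟨V', a, b, (SetLike.ext_iff.1 hV' x).2 hxV, fun y hy => ?_⟩
  obtain ⟨z, rfl⟩ := i.surjective y
  exact hasTorAmplitudeAt_of_lpull f f' i j sq hj eF eF' (hV z ((SetLike.ext_iff.1 hV' z).1 hy))

end Scheme

end Groth.Agent.RelPC17
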