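import Groth.Agent.RelPC17.JacScheme
import Groth.Agent.RelPC17.NilpBase
import Groth.Agent.KFlatLib.Scheme.LpullComp

/-!
# Relative tor amplitude tested on a closed subscheme of the base
-/

set_option autoImplicit false
set_option linter.style.haveILetI false
set_option backward.isDefEq.respectTransparency false
set_option backward.isDefEq.respectTransparency.types false

universe u

open CategoryTheory CategoryTheory.Limits AlgebraicGeometry TopologicalSpace

attribute [local instance] HasDerivedCategory.standard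

namespace Groth.Agent.RelPC17.JacFibre

open Groth.Agent KFlatLib H9Misc.DRingLTensor

section Transfer

variable {X S U : Scheme.{u}}

/-- Restriction of scalars along an isomorphism undoes extension. -/
noncomputable def resExtIso {A B B' : Type u} [CommRing A] [CommRing B] [CommRing B'] (φ : A →+* B) (ψ : B →+* B')
    (φ' : A →+* B') (h : φ' = ψ.comp φ) [∀ M, IsIso ((ModuleCat.extendRestrictScalarsAdj ψ).unit.app M)] :
    ModuleCat.restrictScalars.{u} φ ≅ ModuleCat.extendScalars.{u, u, u} ψ ⋙ ModuleCat.restrictScalars.{u} φ' :=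
  NatIso.ofComponents
    (fun M => (ModuleCat.restrictScalars.{u} φ).mapIso (asIso ((ModuleCat.extendRestrictScalarsAdj ψ).unit.app M)) ≪≫
      (ModuleCat.restrictScalarsComp'App φ ψ φ' h ((ModuleCat.extendScalars.{u, u, u} ψ).obj M)).symm)
    (fun {M N} f => by
      have h1 := congrArg (fun g => (ModuleCat.restrictScalars.{u} φ).map g)
        ((ModuleCat.extendRestrictScalarsAdj ψ).unit.naturality f)
      refine ModuleCat.hom_ext (LinearMap.ext fun m => ?_)
      exact congrArg (fun g => g.hom m) h1)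

/-- The stalk over the base does not change on an open. -/
theorem nonempty_stalkCxOver_pullCx (j : U ⟶ X) [IsOpenImmersion j] (f : X ⟶ S) (F : CochainComplex X.Modules ℤ)
    (v : U) : Nonempty ((DerSch.stalkCxOver f (j.base v)).obj F ≅ (DerSch.stalkCxOver (j ≫ f) v).obj ((pullCx j).obj F)) := by
  have hbij : Function.Bijective (j.stalkMap v).hom := ConcreteCategory.bijective_of_isIso (j.stalkMap v)
  haveI : ∀ M, IsIso ((ModuleCat.extendRestrictScalarsAdj (j.stalkMap v).hom).unit.app M) := fun M =>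
    H9Misc.DRingNilp.isIso_unit (j.stalkMap v).hom hbij.2 M fun r hr x => by
      rw [show r = 0 from hbij.1 ((show (j.stalkMap v).hom r = 0 from hr).trans (map_zero _).symm), zero_smul]
  let ε : DerSch.stalkOver f (j.base v) ≅ Scheme.Modules.pullback j ⋙ DerSch.stalkOver (j ≫ f) v :=
    Functor.isoWhiskerLeft (DerSch.stalkFunctor X (j.base v))
        (resExtIso (f.stalkMap (j.base v)).hom (j.stalkMap v).hom ((j ≫ f).stalkMap v).hom
          (by rw [Scheme.Hom.stalkMap_comp]; rfl)) ≪≫
      (Functor.associator _ _ _).symm ≪≫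
      Functor.isoWhiskerRight (stalkPullbackIso j v).symm (ModuleCat.restrictScalars ((j ≫ f).stalkMap v).hom) ≪≫
      Functor.associator _ _ _
  exact ⟨HomologicalComplex.Hom.isoOfComponents (fun n => ε.app (F.X n))
    fun p q _ => (ε.hom.naturality (F.d p q)).symm⟩

/-- Amplitude at a point and on an open containing it. -/
theorem hasTorAmplitudeAt_pullCx_iff (j : U ⟶ X) [IsOpenImmersion j] (f : X ⟶ S) (F : CochainComplex X.Modules ℤ)
    (v : U) (a b : ℤ) : DerSch.HasTorAmplitudeAt f a b F (j.base v) ↔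
      DerSch.HasTorAmplitudeAt (j ≫ f) a b ((pullCx j).obj F) v := by
  obtain ⟨e⟩ := nonempty_stalkCxOver_pullCx j f F v
  constructor
  · rintro ⟨E, hv, hf, ⟨eE⟩⟩
    exact ⟨E, hv, hf, ⟨eE ≪≫ DerivedCategory.Q.mapIso e⟩⟩
  · rintro ⟨E, hv, hf, ⟨eE⟩⟩
    exact ⟨E, hv, hf, ⟨eE ≪≫ DerivedCategory.Q.mapIso e.symm⟩⟩

end Transfer

variable {X X' Y Y' : Scheme.{u}} (f : X ⟶ Y) (f' : X' ⟶ Y') (i : X ⟶ X') (s : Y ⟶ Y')

/-- The closed fibre condition from amplitude over a closed subscheme of the base. -/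
theorem flat_exact_of_amp (sq : IsPullback i f f' s) [IsClosedImmersion s] [Flat f']
    [LocallyOfFinitePresentation f'] {T : CochainComplex X'.Modules ℤ}
    (hT : ∀ n, FlatMod.IsFinLocFree (T.X n)) {b₀ : ℤ} [T.IsStrictlyLE b₀] {F : CochainComplex X.Modules ℤ}
    (eF : DCoh.toD X F ≅ DCoh.toD X ((pullCx i).obj T)) {a b : ℤ} (x : X)
    (h : DerSch.HasTorAmplitudeAt f a b F x) :
    FlatMod.IsFlatOverAt f' (cokernel (T.d (a - 1) a)) (i x) ∧
      ∀ n, n < a → Subsingleton ((T.homology n).presheaf.stalk (i x)) := by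
  haveI : IsClosedImmersion i := MorphismProperty.of_isPullback (P := @IsClosedImmersion) sq.flip ‹_›
  obtain ⟨E, hv, hf, ⟨eE⟩⟩ := hasTorAmplitudeAt_of_iso f eF h
  let res₀ := (ModuleCat.restrictScalars.{u} (f.stalkMap x).hom).mapHomologicalComplex (ComplexShape.up ℤ)
  let u : (DerSch.stalkCxOver f x).obj ((pullCx i).obj T) ≅
      res₀.obj ((extC' (i.stalkMap x).hom).obj ((stalkCx (i x)).obj T)) :=
    ((Functor.mapHomologicalComplexCompIso (F := DerSch.stalkFunctor X x)
      (G := ModuleCat.restrictScalars (f.stalkMap x).hom)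
      (Iso.refl (DerSch.stalkOver f x)) (ComplexShape.up ℤ)).app _).symm ≪≫
      res₀.mapIso (stalkPullCxIso i x T)
  have he : s (f x) = f' (i x) := (congrArg (fun q : X ⟶ Y' => q x) sq.w).symm
  have hsurj : Function.Surjective (sqBase f f' i s sq.w x).hom := by
    refine (s.stalkMap_surjective (f x)).comp ?_
    rw [← TopCat.Presheaf.stalkCongr_hom _ (Inseparable.of_eq he.symm)]
    exact (ConcreteCategory.bijective_of_isIso _).2
  obtain ⟨θ⟩ := nonempty_sqCx (f'.stalkMap (i x)).hom (sqBase f f' i s sq.w x).hom (i.stalkMap x).hom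
    (f.stalkMap x).hom (sqBase_comm f f' i s sq.w x) hsurj (i.stalkMap_surjective x)
    (ker_sq_le_iso f f' i s (a := sq.isoPullback.hom) sq.isoPullback_hom_fst sq.isoPullback_hom_snd sq.w x)
    ((stalkCx (i x)).obj T)
  let Q := ((ModuleCat.restrictScalars.{u} (f'.stalkMap (i x)).hom).mapHomologicalComplex
    (ComplexShape.up ℤ)).obj ((stalkCx (i x)).obj T)
  have hflat : DRing.TermwiseFlat Q := fun n => JacScheme.flat_stalkOver_X f' hT (i x) n
  have hvan : DRing.VanishesAbove Q b₀ := fun n hn =>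
    (ModuleCat.restrictScalars.{u} (f'.stalkMap (i x)).hom).map_isZero
      ((DerSch.stalkFunctor X' (i x)).map_isZero (T.isZero_of_isStrictlyLE b₀ n hn))
  have hkf : IsKF ((extC' (sqBase f f' i s sq.w x).hom).obj Q) := by
    refine H9Misc.DRingTor.isKF_of_flat (b := b₀) (fun n => ?_) fun n hn =>
      (ModuleCat.extendScalars.{u, u, u} (sqBase f f' i s sq.w x).hom).map_isZero (hvan n hn)
    haveI : Module.Flat (Y'.presheaf.stalk (f' (i x))) (Q.X n) := hflat n
    exact H9Misc.DRingLBase.flat_extendScalars (sqBase f f' i s sq.w x).hom (Q.X n)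
  have hamp : DRing.HasTorAmplitudeIn (Y.presheaf.stalk (f x)) a b
      (DerivedCategory.Q.obj ((extC' (sqBase f f' i s sq.w x).hom).obj Q)) :=
    ⟨E, hv, hf, ⟨eE ≪≫ DerivedCategory.Q.mapIso (u ≪≫ θ.symm)⟩⟩
  have hV := (H9Misc.DRingTor.iff_van hkf (Iso.refl _)).1 hamp
  refine JacScheme.flat_exact_of_fibre f' hT a (i x) fun p q r hpq hqr hq z hz => ?_
  have hmem : ∀ (n : ℤ) (y : ((stalkCx (i x)).obj T).X n),
      y ∈ (IsLocalRing.maximalIdeal (Y'.presheaf.stalk (f' (i x)))).map (f'.stalkMap (i x)).hom •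
          (⊤ : Submodule (X'.presheaf.stalk (i x)) (((stalkCx (i x)).obj T).X n)) ↔
        (show Q.X n from y) ∈ IsLocalRing.maximalIdeal (Y'.presheaf.stalk (f' (i x))) •
          (⊤ : Submodule (Y'.presheaf.stalk (f' (i x))) (Q.X n)) := fun n y => by
    letI := (f'.stalkMap (i x)).hom.toAlgebra
    letI : Module (Y'.presheaf.stalk (f' (i x))) (((stalkCx (i x)).obj T).X n) :=
      Module.compHom _ (f'.stalkMap (i x)).hom
    haveI : IsScalarTower (Y'.presheaf.stalk (f' (i x))) (X'.presheaf.stalk (i x)) (((stalkCx (i x)).obj T).X n) :=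
      IsScalarTower.of_algebraMap_smul fun _ _ => rfl
    rw [show (f'.stalkMap (i x)).hom = algebraMap (Y'.presheaf.stalk (f' (i x))) (X'.presheaf.stalk (i x)) from rfl,
      ← Submodule.restrictScalars_mem (Y'.presheaf.stalk (f' (i x))), Submodule.restrictScalars_map_smul_eq,
      Submodule.restrictScalars_top]
  obtain ⟨w, hw⟩ := JacRing.exists_sub_mem_of_exact_fibre (sqBase f f' i s sq.w x).hom hsurj Q p q r hpq hqr
    (hV (JacRing.resMod (Y.presheaf.stalk (f x))) q (Or.inl hq)) z ((hmem r _).1 hz)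
  exact ⟨w, (hmem q _).2 hw⟩

end Groth.Agent.RelPC17.JacFibre
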