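import Groth.Agent.H9Misc.DRingTor
import Groth.Agent.WEtLib.Basic
import Groth.Agent.S0736
import Groth.Agent.S12236
import Groth.Agent.S12237
import Groth.Prelude.Def_DDual2

/-!
# Tor amplitude along weakly etale ring maps
-/

set_option autoImplicit false
set_option linter.style.haveILetI false
set_option backward.isDefEq.respectTransparency false
set_option backward.isDefEq.respectTransparency.types false

universe u

open CategoryTheory CategoryTheory.Limits MonoidalCategory

attribute [local instance] HasDerivedCategory.standard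

namespace Groth.Agent.RelPC17

open Groth.Agent.KFlatLib H9Misc H9Misc.DRingTor

variable {A B : Type u} [CommRing A] [CommRing B] [Algebra A B]

/-- Restriction of a flat module along a flat map. -/
lemma flat_restrictScalars [Module.Flat A B] (M : ModuleCat.{u} B) (h : Module.Flat B M) :
    Module.Flat A ((ModuleCat.restrictScalars.{u} (algebraMap A B)).obj M) := by
  letI : Module A M := Module.compHom M (algebraMap A B)
  haveI : IsScalarTower A B M := IsScalarTower.of_algebraMap_smul fun _ _ => rfl
  haveI := h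
  exact Module.Flat.trans A B M

/-- Tor amplitude restricts along flat maps. -/
theorem amp_restrict_of_flat [Module.Flat A B] {a b : ℤ} (K : Dual.D B)
    (h : DRing.HasTorAmplitudeIn B a b K) :
    DRing.HasTorAmplitudeIn A a b ((DRing.restrictD (algebraMap A B)).obj K) := by
  obtain ⟨E, hv, hf, ⟨e⟩⟩ := h
  exact ⟨((ModuleCat.restrictScalars.{u} (algebraMap A B)).mapHomologicalComplex (ComplexShape.up ℤ)).obj E,
    fun i hi => (ModuleCat.restrictScalars.{u} (algebraMap A B)).map_isZero (hv i hi),
    fun i => flat_restrictScalars _ (hf i),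
    ⟨((ModuleCat.restrictScalars.{u} (algebraMap A B)).mapDerivedCategoryFactors.app E).symm ≪≫
      (DRing.restrictD (algebraMap A B)).mapIso e⟩⟩

/-- Tor amplitude over the base gives tor amplitude over a weakly etale algebra. -/
theorem amp_of_weaklyEtale [Algebra.WeaklyEtale A B] {a b : ℤ} (K : Dual.D B)
    (h : DRing.HasTorAmplitudeIn A a b ((DRing.restrictD (algebraMap A B)).obj K)) :
    DRing.HasTorAmplitudeIn B a b K := by
  let G := ModuleCat.restrictScalars.{u} (algebraMap A B)
  let P := DerivedCategory.Q.objPreimage K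
  let eP : DerivedCategory.Q.obj P ≅ K := DerivedCategory.Q.objObjPreimageIso K
  let res := G.mapHomologicalComplex (ComplexShape.up ℤ)
  obtain ⟨E, hv, hf, ⟨e⟩⟩ := h
  let eE : DerivedCategory.Q.obj E ≅ DerivedCategory.Q.obj (res.obj P) :=
    e ≪≫ (DRing.restrictD (algebraMap A B)).mapIso eP.symm ≪≫ G.mapDerivedCategoryFactors.app P
  have hex : ∀ i, i < a ∨ b < i → P.ExactAt i := fun i hi =>
    (ShortComplex.exact_map_iff_of_faithful (P.sc i) G).1
      (show (res.obj P).ExactAt i from (HomologicalComplex.exactAt_iff_isZero_homology _ _).2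
        ((ShortComplex.isZero_homology_of_isZero_X₂ _ (hv i hi)).of_iso
          (((DerivedCategory.homologyFunctorFactors _ i).app _).symm ≪≫
            (DerivedCategory.homologyFunctor _ i).mapIso eE.symm ≪≫
            (DerivedCategory.homologyFunctorFactors _ i).app E)))
  obtain ⟨R, ψ, hψ, hflat, hRb⟩ := (ringCover B).exists_bounded_resolution P b
    fun m hm => (hex m (Or.inr hm)).isZero_homology
  haveI := hψ
  haveI : IsIso (DerivedCategory.Q.map ψ) := (DerivedCategory.isIso_Q_map_iff_quasiIso _ _).2 inferInstance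
  haveI : IsIso (DerivedCategory.Q.map (res.map ψ)) :=
    (DerivedCategory.isIso_Q_map_iff_quasiIso _ _).2 inferInstance
  have hflatA : ∀ n, Module.Flat A ((res.obj R).X n) := fun n => flat_restrictScalars _ (hflat n)
  have hRK : DRingLTensor.IsKF (res.obj R) := isKF_of_flat hflatA fun n hn => G.map_isZero (hRb n hn)
  have hVan : Van a b (res.obj R) :=
    (iff_van hRK (asIso (DerivedCategory.Q.map (res.map ψ)))).1 ⟨E, hv, hf, ⟨eE⟩⟩
  have hop : Module.Flat A ((res.obj R).opcycles a) :=
    flat_opcycles hflatA a fun M => hVan M (a - 1) (Or.inl (by omega))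
  haveI hopB : Module.Flat B (R.opcycles a) := by
    letI : Module A (R.opcycles a) := Module.compHom _ (algebraMap A B)
    haveI : IsScalarTower A B (R.opcycles a) := IsScalarTower.of_algebraMap_smul fun _ _ => rfl
    haveI : Module.Flat A (R.opcycles a) := by
      let e₁ : G.obj (R.opcycles a) ≅ (res.obj R).opcycles a :=
        ((CokernelCofork.mapIsColimit _ (R.opcyclesIsCokernel (a - 1) a (by simp)) G).coconePointUniqueUpToIso
          ((res.obj R).opcyclesIsCokernel (a - 1) a (by simp)))
      exact (Module.Flat.equiv_iff e₁.toLinearEquiv).2 hop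
    exact WEtLib.flat_of_flat (A := A) (B := B) (R.opcycles a)
  let emb := ComplexShape.embeddingUpIntGE a
  haveI : R.IsGE a := (CochainComplex.isGE_iff R a).2 fun i hi =>
    (ShortComplex.exact_map_iff_of_faithful (R.sc i) G).1 (hVan.exactAt (Or.inl hi))
  refine ⟨R.truncGE a, fun i hi => ?_, fun i => ?_,
    ⟨(asIso (DerivedCategory.Q.map (R.πTruncGE a))).symm ≪≫ asIso (DerivedCategory.Q.map ψ) ≪≫ eP⟩⟩
  · rcases hi with hi | hi
    · exact CochainComplex.isZero_of_isStrictlyGE _ a i hi
    · rcases lt_or_ge i a with hia | hia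
      · exact CochainComplex.isZero_of_isStrictlyGE _ a i hia
      obtain ⟨n, rfl⟩ : ∃ n : ℕ, a + n = i := ⟨(i - a).toNat, by omega⟩
      rcases Nat.eq_zero_or_pos n with rfl | hn
      · refine IsZero.of_iso ?_ (HomologicalComplex.truncGEXIsoOpcycles R emb (i := 0) rfl
          ((ComplexShape.boundaryGE_embeddingUpIntGE_iff a 0).2 rfl))
        exact IsZero.of_epi (R.pOpcycles (a + (0 : ℕ))) (hRb _ hi)
      · exact (hRb _ hi).of_iso (HomologicalComplex.truncGEXIso R emb (i := n) rfl
          (fun hb => by have := (ComplexShape.boundaryGE_embeddingUpIntGE_iff a n).1 hb; omega))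
  · rcases lt_or_ge i a with hia | hia
    · haveI := ModuleCat.subsingleton_of_isZero (CochainComplex.isZero_of_isStrictlyGE (R.truncGE a) a i hia)
      infer_instance
    obtain ⟨n, rfl⟩ : ∃ n : ℕ, a + n = i := ⟨(i - a).toNat, by omega⟩
    rcases Nat.eq_zero_or_pos n with rfl | hn
    · have hf : Module.Flat B (R.opcycles (a + (0 : ℕ))) := by
        rw [Nat.cast_zero, add_zero]; assumption
      exact (Module.Flat.equiv_iff (HomologicalComplex.truncGEXIsoOpcycles R emb (i := 0) rfl
        ((ComplexShape.boundaryGE_embeddingUpIntGE_iff a 0).2 rfl)).toLinearEquiv).2 hf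
    · exact (Module.Flat.equiv_iff (HomologicalComplex.truncGEXIso R emb (i := n) rfl
        (fun hb => by have := (ComplexShape.boundaryGE_embeddingUpIntGE_iff a n).1 hb; omega)).toLinearEquiv).2
          (hflat _)

/-- Restriction of a composite. -/
theorem amp_restrict_comp {C : Type u} [CommRing C] [Algebra B C] [Algebra A C] [IsScalarTower A B C] {a b : ℤ}
    (K : Dual.D C) :
    DRing.HasTorAmplitudeIn A a b ((DRing.restrictD (algebraMap A B)).obj ((DRing.restrictD (algebraMap B C)).obj K)) ↔
      DRing.HasTorAmplitudeIn A a b ((DRing.restrictD (algebraMap A C)).obj K) := by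
  obtain ⟨P, ⟨eP⟩⟩ : ∃ P, Nonempty (DerivedCategory.Q.obj P ≅ K) :=
    ⟨_, ⟨DerivedCategory.Q.objObjPreimageIso K⟩⟩
  let φ := algebraMap A B
  let ψ := algebraMap B C
  let c : ((ModuleCat.restrictScalars.{u} φ).mapHomologicalComplex (ComplexShape.up ℤ)).obj
      (((ModuleCat.restrictScalars.{u} ψ).mapHomologicalComplex (ComplexShape.up ℤ)).obj P) ≅
      ((ModuleCat.restrictScalars.{u} (algebraMap A C)).mapHomologicalComplex (ComplexShape.up ℤ)).obj P :=
    HomologicalComplex.Hom.isoOfComponents
      (fun n => (ModuleCat.restrictScalarsComp'App φ ψ (algebraMap A C) (IsScalarTower.algebraMap_eq A B C) (P.X n)).symm)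
      (fun i j _ => ModuleCat.hom_ext (LinearMap.ext fun _ => rfl))
  let e : (DRing.restrictD φ).obj ((DRing.restrictD ψ).obj K) ≅ (DRing.restrictD (algebraMap A C)).obj K :=
    (DRing.restrictD φ).mapIso ((DRing.restrictD ψ).mapIso eP.symm ≪≫
      (ModuleCat.restrictScalars.{u} ψ).mapDerivedCategoryFactors.app P) ≪≫
    (ModuleCat.restrictScalars.{u} φ).mapDerivedCategoryFactors.app _ ≪≫
    DerivedCategory.Q.mapIso c ≪≫
    ((ModuleCat.restrictScalars.{u} (algebraMap A C)).mapDerivedCategoryFactors.app P).symm ≪≫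
    (DRing.restrictD (algebraMap A C)).mapIso eP
  exact ⟨fun ⟨E, hv, hf, ⟨e'⟩⟩ => ⟨E, hv, hf, ⟨e' ≪≫ e⟩⟩,
    fun ⟨E, hv, hf, ⟨e'⟩⟩ => ⟨E, hv, hf, ⟨e' ≪≫ e.symm⟩⟩⟩

end Groth.Agent.RelPC17
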