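import Groth.Agent.RelPC17.Rel
import Groth.Agent.KFlatLib.Scheme.TildePC

/-!
# Boundedness of relatively pseudo-coherent objects
-/

set_option autoImplicit false
set_option linter.style.haveILetI false
set_option backward.isDefEq.respectTransparency false
set_option backward.isDefEq.respectTransparency.types false

universe u

open CategoryTheory CategoryTheory.Limits AlgebraicGeometry TopologicalSpace Opposite

attribute [local instance] HasDerivedCategory.standard

namespace Groth.Agent.RelPC17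

open KFlatLib

variable {X Y : Scheme.{u}}

/-- Being zero is local. -/
lemma isZero_of_cover {M : X.Modules} (h : ∀ x : X, ∃ (U : Scheme.{u}) (j : U ⟶ X) (_ : IsOpenImmersion j),
    x ∈ Set.range j.base ∧ IsZero (M.restrict j)) : IsZero M :=
  isZero_of_stalk _ fun y => by
    obtain ⟨U, j, _, ⟨v, rfl⟩, hz⟩ := h y
    have h1 : Subsingleton ((M.restrict j).presheaf.stalk v) :=
      ModuleCat.subsingleton_of_isZero ((DerSch.stalkFunctor U v).map_isZero hz)
    have h2 : Subsingleton (M.presheaf.stalk (j.base v)) :=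
      @Equiv.subsingleton _ _
        ((Scheme.Modules.restrictStalkNatIso j v).app _).addCommGroupIsoToAddEquiv.symm.toEquiv h1
    exact @ModuleCat.isZero_of_subsingleton _ _ _ h2

/-- Vanishing above a bound can be tested on a cover. -/
lemma exists_bound_of_cover [CompactSpace X] (K : DCoh.D X)
    (h : ∀ x : X, ∃ (U : Scheme.{u}) (j : U ⟶ X) (_ : IsOpenImmersion j) (b : ℤ), x ∈ Set.range j.base ∧
      ∀ i, b < i → IsZero (DCoh.HD ((rho j).obj K) i)) :
    ∃ b, ∀ i, b < i → IsZero (DCoh.HD K i) := by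
  choose U j hj b hx hb using h
  obtain ⟨t, ht⟩ := isCompact_univ.elim_finite_subcover (fun x : X => Set.range (j x).base)
    (fun x => haveI := hj x; (j x).isOpenEmbedding.isOpen_range) (fun x _ => Set.mem_iUnion.2 ⟨x, hx x⟩)
  refine ⟨((∑ x ∈ t, (b x).natAbs : ℕ) : ℤ), fun i hi => isZero_of_cover fun y => ?_⟩
  obtain ⟨x, hxt, hy⟩ := Set.mem_iUnion₂.1 (ht (Set.mem_univ y))
  haveI := hj x
  have hle : (b x).natAbs ≤ ∑ x ∈ t, (b x).natAbs :=
    Finset.single_le_sum (f := fun x => (b x).natAbs) (fun _ _ => Nat.zero_le _) hxt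
  exact ⟨U x, j x, inferInstance, hy, (hb x i (by omega)).of_iso (hdRhoIso (j x) K i).symm⟩

/-- Pseudo-coherent objects on quasi-compact schemes are bounded above. -/
lemma exists_bound_of_locPC [CompactSpace X] {m : ℤ} {K : DCoh.D X} (h : LocPC m K) :
    ∃ b, ∀ i, b < i → IsZero (DCoh.HD K i) :=
  exists_bound_of_cover K fun x => by
    obtain ⟨U, j, _, hx, S, α, hS, hα⟩ := h x
    obtain ⟨a, b, hab⟩ := hS.1
    refine ⟨U, j, inferInstance, max b m, hx, fun i hi => ?_⟩
    haveI := hα.1 i (by omega)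
    exact ((ShortComplex.isZero_homology_of_isZero_X₂ _ (hab i (Or.inr (by omega)))).of_iso
      ((DerivedCategory.homologyFunctorFactors _ i).app S)).of_iso
      (asIso ((DerivedCategory.homologyFunctor _ i).map α)).symm

/-- Relatively pseudo-coherent objects on quasi-compact schemes are bounded above. -/
theorem exists_bound_of_rel [CompactSpace X] {f : X ⟶ Y} {m : ℤ} {E : DCoh.D X}
    (hE : DerSch.IsPseudoCoherentRel f m E) : ∃ b, ∀ i, b < i → IsZero (DCoh.HD E i) :=
  exists_bound_of_cover E fun x => by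
    haveI := hE.1
    obtain ⟨_, ⟨V, hV, rfl⟩, hxV, -⟩ :=
      Y.isBasis_affineOpens.exists_subset_of_mem_open (show f x ∈ (⊤ : Y.Opens) from trivial) (⊤ : Y.Opens).2
    obtain ⟨_, ⟨U, hU, rfl⟩, hxU, hle⟩ :=
      X.isBasis_affineOpens.exists_subset_of_mem_open (show x ∈ f ⁻¹ᵁ V from hxV) (f ⁻¹ᵁ V).2
    obtain ⟨n, φ, hφ⟩ := exists_isChart hle (finiteType_appLE hU hV hle)
    haveI := isClosedImmersion_imm hU hφ.1
    obtain ⟨b, hb⟩ := exists_bound_of_locPC (X := Spec (CommRingCat.of (MvPolynomial (Fin n) Γ(Y, V))))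
      (rel_iff.1 hE U V hU hV hle n φ hφ)
    exact ⟨_, Scheme.Opens.ι U, inferInstance, b, ⟨⟨x, hxU⟩, rfl⟩,
      fun i hi => (isZero_HD_pD_iff (imm U φ) _ i).1 (hb i hi)⟩

end Groth.Agent.RelPC17
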