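import Groth.Agent.RelPC17.Rel
import Groth.Agent.KFlatLib.Scheme.TildeD
import Groth.Agent.QCoh.Qcqs

/-!
# Charts on affine opens in terms of complexes of modules
-/

set_option autoImplicit false
set_option linter.style.haveILetI false
set_option backward.isDefEq.respectTransparency false
set_option backward.isDefEq.respectTransparency.types false

universe u

open CategoryTheory CategoryTheory.Limits AlgebraicGeometry TopologicalSpace Opposite

attribute [local instance] HasDerivedCategory.standard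

namespace Groth.Agent.RelPC17

open KFlatLib H9Misc.DRingRelPC

section
variable {A B : CommRingCat.{u}} (g : A ⟶ B) [IsClosedImmersion (Spec.map g)]
  [PreservesFiniteLimits (tilde.functor A)] [PreservesFiniteLimits (tilde.functor B)]

/-- Direct image of `M^~` along a closed immersion of affine schemes. -/
theorem nonempty_pDTilde (M : Dual.D B) :
    Nonempty ((pD (Spec.map g)).obj ((DCoh.tildeD B).obj M) ≅
      (DCoh.tildeD A).obj ((DRing.restrictD g.hom).obj M)) := by
  let r := (ModuleCat.restrictScalars.{u} g.hom).mapHomologicalComplex (ComplexShape.up ℤ)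
  let M₀ := DerivedCategory.Q.objPreimage M
  let eM : DerivedCategory.Q.obj M₀ ≅ M := DerivedCategory.Q.objObjPreimageIso M
  let tB := (tilde.functor B).mapHomologicalComplex (ComplexShape.up ℤ)
  let tA := (tilde.functor A).mapHomologicalComplex (ComplexShape.up ℤ)
  let e₁ : (pD (Spec.map g)).obj ((DCoh.tildeD B).obj M) ≅
      DerivedCategory.Q.obj ((DerSch.pushCx (Spec.map g)).obj (tB.obj M₀)) :=
    (pD (Spec.map g)).mapIso ((DCoh.tildeD B).mapIso eM.symm ≪≫
      (tilde.functor B).mapDerivedCategoryFactors.app M₀) ≪≫ (pQ (Spec.map g)).app _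
  let e₂ : (DerSch.pushCx (Spec.map g)).obj (tB.obj M₀) ≅ tA.obj (r.obj M₀) :=
    HomologicalComplex.Hom.isoOfComponents (fun n => (pushTildeIso g).app (M₀.X n))
      (fun i j _ => ((pushTildeIso g).hom.naturality (M₀.d i j)).symm)
  exact ⟨e₁ ≪≫ DerivedCategory.Q.mapIso e₂ ≪≫
    ((tilde.functor A).mapDerivedCategoryFactors.app (r.obj M₀)).symm ≪≫
    (DCoh.tildeD A).mapIso ((ModuleCat.restrictScalars.{u} g.hom).mapDerivedCategoryFactors.symm.app M₀ ≪≫
      (ModuleCat.restrictScalars.{u} g.hom).mapDerivedCategory.mapIso eM)⟩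

end

variable {X : Scheme.{u}} {U : X.Opens} {P : Type u} [CommRing P]

/-- The complex of modules of an object on an affine open exists. -/
theorem exists_tilde_model (hU : IsAffineOpen U) [PreservesFiniteLimits (tilde.functor Γ(X, U))]
    (G : CochainComplex X.Modules ℤ) {E : DCoh.D X} (eG : DCoh.toD X G ≅ E) (hE : DCoh.IsQCohD E) :
    ∃ M : Dual.D Γ(X, U), Nonempty ((DCoh.tildeD Γ(X, U)).obj M ≅
      DCoh.toD _ ((DerSch.pushCx hU.isoSpec.hom).obj ((DCoh.restrictCx U).obj G))) := by
  refine exists_tildeD_iso fun i => ?_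
  let K := (rho U.ι).obj E
  have hK : Coh.IsQCoh (DCoh.HD K i) :=
    isQCoh_of_iso (hdRhoIso U.ι E i).symm (QCoh.isQCoh_restrict U.ι (hE i))
  exact isQCoh_of_iso ((hdPD hU.isoSpec.hom K i).symm ≪≫ (DerivedCategory.homologyFunctor _ i).mapIso
      ((pD hU.isoSpec.hom).mapIso ((rho U.ι).mapIso eG.symm ≪≫ (rhoQ U.ι).app G) ≪≫
        (pQ hU.isoSpec.hom).app _))
    (QCoh.isQCoh_pushforward hU.isoSpec.hom hK)

/-- The test along a presentation, on the complex of modules. -/
theorem pcat_iff_tilde (hU : IsAffineOpen U) [PreservesFiniteLimits (tilde.functor Γ(X, U))]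
    (γ : P →+* Γ(X, U)) (hγ : Function.Surjective γ)
    (G : CochainComplex X.Modules ℤ) {E : DCoh.D X} (eG : DCoh.toD X G ≅ E) (M : Dual.D Γ(X, U))
    (eM : (DCoh.tildeD Γ(X, U)).obj M ≅
      DCoh.toD _ ((DerSch.pushCx hU.isoSpec.hom).obj ((DCoh.restrictCx U).obj G))) (m : ℤ) :
    PCat m E U γ ↔ DRing.IsPseudoCoherent P m ((DRing.restrictD γ).obj M) := by
  haveI := isClosedImmersion_imm hU hγ
  haveI : IsClosedImmersion (Spec.map (CommRingCat.ofHom γ)) :=
    IsClosedImmersion.spec_of_surjective _ hγ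
  haveI : PreservesFiniteLimits (tilde.functor (CommRingCat.of P)) := QCoh.tilde_preservesFiniteLimits
  have h : hU.isoSpec.hom ≫ Spec.map (CommRingCat.ofHom γ) = imm U γ := by
    rw [IsAffineOpen.isoSpec_hom]; rfl
  obtain ⟨e⟩ := nonempty_pDTilde (CommRingCat.ofHom γ) M
  let e' : (pD (imm U γ)).obj ((rho U.ι).obj E) ≅
      (DCoh.tildeD (CommRingCat.of P)).obj ((DRing.restrictD γ).obj M) :=
    (pDComp hU.isoSpec.hom (Spec.map (CommRingCat.ofHom γ)) (imm U γ) h _).symm ≪≫
      (pD (Spec.map (CommRingCat.ofHom γ))).mapIso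
        ((pD hU.isoSpec.hom).mapIso ((rho U.ι).mapIso eG.symm ≪≫ (rhoQ U.ι).app G) ≪≫
          (pQ hU.isoSpec.hom).app _ ≪≫ eM.symm) ≪≫ e
  refine Iff.trans ⟨fun h => (isPseudoCoherentD_iff _ _).2 (LocPC.of_iso e' h),
    fun h {_} => LocPC.of_iso e'.symm ((isPseudoCoherentD_iff _ _).1 h)⟩ (Groth.Agent.S1004.result P _ m)

end Groth.Agent.RelPC17
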