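import Groth.Agent.RelPC17.Image
import Groth.Agent.RelPC17.AffineTilde

/-!
# Charts given by open immersions of affine schemes
-/

set_option autoImplicit false
set_option linter.style.haveILetI false
set_option backward.isDefEq.respectTransparency false
set_option backward.isDefEq.respectTransparency.types false

universe u

open CategoryTheory CategoryTheory.Limits AlgebraicGeometry TopologicalSpace Opposite

attribute [local instance] HasDerivedCategory.standard

namespace Groth.Agent.RelPC17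

open KFlatLib H9Misc.DRingRelPC

variable {X S : Scheme.{u}} {f : X ⟶ S} {R A : Type u} [CommRing R] [CommRing A] [Algebra R A]
  [Algebra.FiniteType R A]

lemma le_preimage_chart (j : Spec (CommRingCat.of A) ⟶ X) [IsOpenImmersion j]
    (k : Spec (CommRingCat.of R) ⟶ S) [IsOpenImmersion k]
    (h : Spec.map (CommRingCat.ofHom (algebraMap R A)) ≫ k = j ≫ f) :
    j.opensRange ≤ f ⁻¹ᵁ k.opensRange := by
  rintro _ ⟨a, rfl⟩
  exact ⟨Spec.map (CommRingCat.ofHom (algebraMap R A)) a, congrArg (fun q => q.base a) h⟩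

/-- A chart of open immersions, on the complex of modules. -/
theorem chartOK_spec_iff [LocallyOfFiniteType f] (j : Spec (CommRingCat.of A) ⟶ X) [IsOpenImmersion j]
    (k : Spec (CommRingCat.of R) ⟶ S) [IsOpenImmersion k]
    (h : Spec.map (CommRingCat.ofHom (algebraMap R A)) ≫ k = j ≫ f)
    [PreservesFiniteLimits (tilde.functor (CommRingCat.of A))] {E : DCoh.D X} (M : Dual.D A)
    (e : (rho j).obj E ≅ (DCoh.tildeD (CommRingCat.of A)).obj M) (m : ℤ) :
    ChartOK f m E j.opensRange k.opensRange (le_preimage_chart j k h) ↔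
      DerCA.IsRelPseudoCoherent R A m M := by
  let As := Spec (CommRingCat.of A)
  let V : S.Opens := k ''ᵁ ⊤
  have hV : IsAffineOpen V := (isAffineOpen_top _).image_of_isOpenImmersion k
  have hVr : V = k.opensRange := Scheme.Hom.image_top_eq_opensRange k
  have h' : j ''ᵁ ⊤ ≤ f ⁻¹ᵁ V := by
    rw [hVr, Scheme.Hom.image_top_eq_opensRange]
    exact le_preimage_chart j k h
  have h'' : (⊤ : As.Opens) ≤ (j ≫ f) ⁻¹ᵁ V := fun a _ => h' ⟨a, trivial, rfl⟩
  rw [← chartOK_congr (h := h') (h' := le_preimage_chart j k h)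
    (Scheme.Hom.image_top_eq_opensRange j) hVr,
    ← chartOK_image_iff j (isAffineOpen_top As) hV h'' h']
  obtain ⟨n, α, hα⟩ := exists_presentation R A
  let β := k.appIso ⊤ ≪≫ Scheme.ΓSpecIso (CommRingCat.of R)
  let ι := (Scheme.ΓSpecIso (CommRingCat.of A)).inv
  have hβ : Function.Bijective β.hom.hom := ConcreteCategory.bijective_of_isIso β.hom
  let γ : MvPolynomial (Fin n) R →+* Γ(As, ⊤) := ι.hom.comp α.toRingHom
  have hγ : Function.Surjective γ := (ConcreteCategory.bijective_of_isIso ι).2.comp hα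
  let σ : MvPolynomial (Fin n) Γ(S, V) →+* MvPolynomial (Fin n) R := MvPolynomial.map β.hom.hom
  have hσ : Function.Bijective σ :=
    ⟨MvPolynomial.map_injective _ hβ.1, MvPolynomial.map_surjective _ hβ.2⟩
  have happ : (j ≫ f).appLE V ⊤ h'' = β.hom ≫ CommRingCat.ofHom (algebraMap R A) ≫ ι := by
    have key : ∀ (q : As ⟶ S) (hq : ⊤ ≤ q ⁻¹ᵁ V),
        q = Spec.map (CommRingCat.ofHom (algebraMap R A)) ≫ k →
        q.appLE V ⊤ hq = β.hom ≫ CommRingCat.ofHom (algebraMap R A) ≫ ι := by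
      rintro q hq rfl
      rw [← Scheme.Hom.appLE_comp_appLE (Spec.map (CommRingCat.ofHom (algebraMap R A))) k V ⊤ ⊤
        (Scheme.Hom.preimage_image_eq k ⊤).ge le_top, ← Scheme.Hom.appIso_hom']
      simp only [β, ι, Iso.trans_hom, Category.assoc]
      congr 1
      rw [← Iso.inv_comp_eq]
      refine Eq.trans ?_ (Scheme.ΓSpecIso_inv_naturality _).symm
      congr 1
    exact key _ _ h.symm
  have hφ : DerSch.IsChart (j ≫ f) ⊤ V h'' (γ.comp σ) := ⟨hγ.comp hσ.2, RingHom.ext fun v => by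
    rw [happ]
    show γ (σ (MvPolynomial.C v)) = ι (algebraMap R A (β.hom v))
    rw [MvPolynomial.map_C]
    exact congrArg ι (α.commutes _)⟩
  haveI := isClosedImmersion_imm (isAffineOpen_top As) hγ
  haveI : IsClosedImmersion (Spec.map (CommRingCat.ofHom α.toRingHom)) :=
    IsClosedImmersion.spec_of_surjective _ hα
  haveI : PreservesFiniteLimits (tilde.functor (CommRingCat.of (MvPolynomial (Fin n) R))) :=
    QCoh.tilde_preservesFiniteLimits
  have himm : (⊤ : As.Opens).ι ≫ Spec.map (CommRingCat.ofHom α.toRingHom) = imm ⊤ γ := by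
    have : CommRingCat.ofHom γ = CommRingCat.ofHom α.toRingHom ≫ ι := rfl
    rw [imm, this, Spec.map_comp, Scheme.Opens.toSpecΓ_top, Category.assoc,
      toSpecΓ_SpecMap_ΓSpecIso_inv_assoc]
  obtain ⟨t⟩ := nonempty_pDTilde (CommRingCat.ofHom α.toRingHom) M
  let e' : (rho (𝟙 _)).obj ((DCoh.tildeD (CommRingCat.of (MvPolynomial (Fin n) R))).obj
      ((DRing.restrictD α.toRingHom).obj M)) ≅
      (pD (imm ⊤ γ)).obj ((rho (⊤ : As.Opens).ι).obj ((rho j).obj E)) :=
    (rho (𝟙 _)).mapIso (t.symm ≪≫ (pD (Spec.map (CommRingCat.ofHom α.toRingHom))).mapIso e.symm) ≪≫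
      rhoPD (Spec.map (CommRingCat.ofHom α.toRingHom)) (𝟙 _) (⊤ : As.Opens).ι (imm ⊤ γ)
        (by rw [Category.comp_id]; exact himm)
        (by rw [Scheme.Opens.opensRange_ι, Scheme.Hom.opensRange_of_isIso]; rfl) _
  have key : PCat m ((rho j).obj E) ⊤ (γ.comp σ) ↔ DerCA.IsRelPseudoCoherent R A m M := by
    rw [pcat_comp_iff (isAffineOpen_top As) σ hσ.2 (PCHom.of_bijective hσ) γ hγ, iff_via α hα]
    refine Iff.trans ⟨fun hh => (isPseudoCoherentD_iff _ _).2 (LocPC.of_local fun x => ?_),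
      fun hh {_} => ?_⟩ (Groth.Agent.S1004.result (MvPolynomial (Fin n) R) _ m)
    · exact ⟨_, 𝟙 _, inferInstance, ⟨x, rfl⟩, LocPC.of_iso e'.symm hh⟩
    · exact LocPC.of_iso e' (LocPC.restrict ((isPseudoCoherentD_iff _ _).1 hh) _)
  rw [← key]
  constructor
  · intro H
    exact (chartPC_iff (isAffineOpen_top As) hφ.1 m _).1
      (chartPC_of_chartOK (isAffineOpen_top As) H _ hφ)
  · intro H
    exact ⟨n, _, hφ, (chartPC_iff (isAffineOpen_top As) hφ.1 m _).2 H⟩

end Groth.Agent.RelPC17
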