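import Groth.Agent.RelPC17.Rel
import Groth.Agent.SiteBase.RpushD.Devissage

/-!
# Relative pseudo-coherence from terms and from cohomology
-/

set_option autoImplicit false
set_option linter.style.haveILetI false
set_option backward.isDefEq.respectTransparency false
set_option backward.isDefEq.respectTransparency.types false

universe u

open CategoryTheory CategoryTheory.Limits AlgebraicGeometry CategoryTheory.Pretriangulated

attribute [local instance] HasDerivedCategory.standard

namespace Groth.Agent.RelPC17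

open KFlatLib

variable {X Y P Z : Scheme.{u}} (i : Z ⟶ P) [IsClosedImmersion i]

lemma locPC_pD_single {m : ℤ} (n : ℤ) (M : Z.Modules)
    (h : LocPC (m - n) ((pD i).obj (DCoh.inD Z M))) :
    LocPC m ((pD i).obj (DerivedCategory.Q.obj
      ((HomologicalComplex.single Z.Modules (ComplexShape.up ℤ) n).obj M))) :=
  (locPC_single n _ (h.of_iso (pDInD i M))).of_iso (pDSingle i n M).symm

lemma locPC_pD_of_isZero_HD (m : ℤ) (K : DCoh.D Z) (h : ∀ n, m ≤ n → IsZero (DCoh.HD K n)) :
    LocPC m ((pD i).obj K) :=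
  locPC_of_isZero m _ fun n hn => (isZero_HD_pD_iff i K n).2 (h n hn)

/-- Pseudo-coherence of a direct image from the terms. -/
theorem locPC_pD_of_terms (K : CochainComplex Z.Modules ℤ) (b m : ℤ)
    (hb : ∀ n, b < n → IsZero (K.X n))
    (h : ∀ n, LocPC (m - n) ((pD i).obj (DCoh.inD Z (K.X n)))) :
    LocPC m ((pD i).obj (DerivedCategory.Q.obj K)) := by
  obtain ⟨K', g, δ, hT, hK', -⟩ := exists_triangle_stupid K m
  refine (locPC_two_of_three m _ ((pD i).map_distinguished _ hT)).2.1 ?_
    (locPC_pD_of_isZero_HD i m _ fun n hn =>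
      (ShortComplex.isZero_homology_of_isZero_X₂ _ (hK' n hn)).of_iso
        ((DerivedCategory.homologyFunctorFactors _ n).app K'))
  refine prop_of_terms (PushPC i m)
    (fun T hT h₁ h₃ => (locPC_two_of_three m _ ((pD i).map_distinguished T hT)).2.1 h₁ h₃)
    (fun Y hY => locPC_isZero ((pD i).map_isZero hY)) (b + 1 - m).toNat _ m (fun n hn => ?_)
    fun n hn _ => ?_
  · rcases hn with hn | hn
    · exact isZero_stupidGE K m hn
    · by_cases h' : m ≤ n
      · exact (hb n (by omega)).of_iso (eqToIso (stupidX_eq K m h'))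
      · exact isZero_stupidX K m h'
  · exact locPC_pD_single i n _ ((h n).of_iso ((pD i).mapIso
      ((DerivedCategory.singleFunctor Z.Modules 0).mapIso (eqToIso (stupidX_eq K m hn).symm))))

/-- Pseudo-coherence of a direct image from the cohomology. -/
theorem locPC_pD_of_homology (K : DCoh.D Z) (b m : ℤ) (hb : ∀ n, b < n → IsZero (DCoh.HD K n))
    (h : ∀ n, LocPC (m - n) ((pD i).obj (DCoh.inD Z (DCoh.HD K n)))) :
    LocPC m ((pD i).obj K) := by
  let t := DerivedCategory.TStructure.t (C := Z.Modules)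
  let T := (t.triangleLTGE m).obj K
  have hT : T ∈ distTriang (DCoh.D Z) := t.triangleLTGE_distinguished m K
  have h₁ : T.obj₁.IsLE (m - 1) := t.isLE_truncLT_obj ..
  refine (locPC_two_of_three m _ ((pD i).map_distinguished _ hT)).2.1
    (locPC_pD_of_isZero_HD i m _ fun n hn =>
      @DerivedCategory.isZero_of_isLE _ _ _ _ T.obj₁ (m - 1) n (by omega) h₁) ?_
  have : T.obj₃.IsGE m := t.isGE_truncGE_obj ..
  haveI : K.IsLE (m + (b - m).toNat) := (DerivedCategory.isLE_iff K _).2 fun n hn => hb n (by omega)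
  haveI : T.obj₃.IsLE (m + (b - m).toNat) := SiteBase.RpushD.isLE_truncGE K _ _
  refine SiteBase.RpushD.prop_of_bounded (PushPC i m)
    (fun T hT h₁ h₃ => (locPC_two_of_three m _ ((pD i).map_distinguished T hT)).2.1 h₁ h₃)
    (b - m).toNat T.obj₃ m fun q hq _ => ?_
  let e : (DerivedCategory.homologyFunctor Z.Modules q).obj K ≅
      (DerivedCategory.homologyFunctor Z.Modules q).obj T.obj₃ :=
    @asIso _ _ _ _ _ (H9Misc.isIso_map_truncGEπ m q hq K)
  exact LocPC.of_iso ((pD i).mapIso ((DerivedCategory.singleFunctorIsoCompQ Z.Modules q).app _).symm)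
    (locPC_pD_single i q _ ((h q).of_iso ((pD i).mapIso
      ((DerivedCategory.singleFunctor Z.Modules 0).mapIso e))))

variable {f : X ⟶ Y}

/-- Relative pseudo-coherence passes to summands. -/
theorem rel_summand {m : ℤ} (E K : DCoh.D X) [HasBinaryBiproduct E K]
    (h : DerSch.IsPseudoCoherentRel f m (E ⊞ K)) :
    DerSch.IsPseudoCoherentRel f m E ∧ DerSch.IsPseudoCoherentRel f m K := by
  haveI := h.1
  have key : ∀ (U : X.Opens) (V : Y.Opens), IsAffineOpen U → IsAffineOpen V →
      ∀ (hle : U ≤ f ⁻¹ᵁ V) (n : ℕ) (φ : MvPolynomial (Fin n) Γ(Y, V) →+* Γ(X, U)),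
        DerSch.IsChart f U V hle φ → PCat m E U φ ∧ PCat m K U φ := by
    intro U V hU hV hle n φ hφ
    haveI := isClosedImmersion_imm hU hφ.1
    let G := rho U.ι ⋙ pD (imm U φ)
    haveI := preservesBinaryBiproduct_of_preservesBinaryCoproduct G (X := E) (Y := K)
    have h' := rel_iff.1 h U V hU hV hle n φ hφ
    obtain ⟨h₁, h₂⟩ := locPC_summand m (G.obj E) (G.obj K) ((LocPC.of_iso (G.mapBiprod E K) h'))
    exact ⟨fun {_} => h₁, fun {_} => h₂⟩
  exact ⟨rel_iff.2 fun U V hU hV hle n φ hφ => (key U V hU hV hle n φ hφ).1,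
    rel_iff.2 fun U V hU hV hle n φ hφ => (key U V hU hV hle n φ hφ).2⟩

/-- Relative pseudo-coherence from the terms. -/
theorem rel_of_terms [LocallyOfFiniteType f] (F : CochainComplex X.Modules ℤ) (b m : ℤ)
    (hb : ∀ n, b < n → IsZero (F.X n))
    (h : ∀ n, DerSch.IsPseudoCoherentRel f (m - n) (DCoh.inD X (F.X n))) :
    DerSch.IsPseudoCoherentRel f m (DCoh.toD X F) :=
  rel_iff.2 fun U V hU hV hle k φ hφ => by
    intro _
    refine LocPC.of_iso ((pD (imm U φ)).mapIso ((rhoQ U.ι).app F).symm)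
      (locPC_pD_of_terms (imm U φ) ((rCx U.ι).obj F) b m
        (fun n hn => (Scheme.Modules.restrictFunctor U.ι).map_isZero (hb n hn)) fun n => ?_)
    exact LocPC.of_iso ((pD (imm U φ)).mapIso (rhoInD U.ι (F.X n)))
      (rel_iff.1 (h n) U V hU hV hle k φ hφ)

/-- Relative pseudo-coherence from the cohomology. -/
theorem rel_of_homology [LocallyOfFiniteType f] (E : DCoh.D X) (b m : ℤ)
    (hb : ∀ n, b < n → IsZero (DCoh.HD E n))
    (h : ∀ n, DerSch.IsPseudoCoherentRel f (m - n) (DCoh.inD X (DCoh.HD E n))) :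
    DerSch.IsPseudoCoherentRel f m E :=
  rel_iff.2 fun U V hU hV hle k φ hφ => by
    intro _
    refine locPC_pD_of_homology (imm U φ) ((rho U.ι).obj E) b m
      (fun n hn => ((Scheme.Modules.restrictFunctor U.ι).map_isZero (hb n hn)).of_iso (hdRhoIso U.ι E n))
      fun n => ?_
    exact LocPC.of_iso ((pD (imm U φ)).mapIso (rhoInD U.ι _ ≪≫
      (DerivedCategory.singleFunctor _ 0).mapIso (hdRhoIso U.ι E n).symm))
      (rel_iff.1 (h n) U V hU hV hle k φ hφ)

end Groth.Agent.RelPC17
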