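import Groth.Agent.H9Misc.DRingRelPC5
import Groth.Agent.H9Misc.DRingPCDescent
import Groth.Agent.H9Misc.DRingRelPC6

/-!
# Faithfully flat descent of relative pseudo-coherence
-/

set_option autoImplicit false
set_option linter.style.haveILetI false

universe u

open CategoryTheory CategoryTheory.Limits
open scoped TensorProduct

attribute [local instance] HasDerivedCategory.standard

namespace Groth.Agent.RelPC17

open H9Misc H9Misc.DRingTor H9Misc.DRingRestrict H9Misc.DRingLTensor H9Misc.DRingRelPC KFlatLib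

variable {R A R' : Type u} [CommRing R] [CommRing A] [CommRing R'] [Algebra R A] [Algebra R R']

/-- Relative pseudo-coherence is preserved by flat base change. -/
theorem relPC_baseChange [Algebra.FiniteType R A] [Module.Flat R R']
    [DRing.HasLBaseChange (Algebra.TensorProduct.includeRight : A →ₐ[R] R' ⊗[R] A).toRingHom]
    (K : Dual.D A) (m : ℤ) (hK : DerCA.IsRelPseudoCoherent R A m K) :
    DerCA.IsRelPseudoCoherent R' (R' ⊗[R] A) m
      ((DRing.LBaseChange (Algebra.TensorProduct.includeRight : A →ₐ[R] R' ⊗[R] A).toRingHom).obj K) := by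
  obtain ⟨n, ψ, hψ⟩ := exists_presentation R A
  let ψ' : MvPolynomial (Fin n) R →+* A := ψ
  let α := (Algebra.TensorProduct.includeRight : A →ₐ[R] R' ⊗[R] A).toRingHom
  haveI := hasLBase (algebraMap R R')
  haveI := hasLBase (MvPolynomial.map (σ := Fin n) (algebraMap R R'))
  haveI : DTen.HasLBase (incRight R R' A) := hasLBase _
  have hR : ψ'.comp MvPolynomial.C = algebraMap R A := RingHom.ext fun r => ψ.commutes r
  haveI := isIso_cmpBC_presentation (R' := R') ψ' hR
    (fun _ => isIso_baseCmp_of_flat (algebraMap R R') (RingHom.flat_algebraMap_iff.2 inferInstance) _) K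
  have h₁ := pc_square (presBC_comp (R' := R') ψ' hR) K ((iff_via ψ hψ K m).1 hK)
  haveI : DRing.HasLBaseChange (incRight R R' A) := inferInstanceAs (DRing.HasLBaseChange α)
  obtain ⟨e⟩ := nonempty_LBaseChange_iso (incRight R R' A)
  let p : MvPolynomial (Fin n) R' →ₐ[R'] R' ⊗[R] A :=
    { toRingHom := presBC R' ψ', commutes' := fun r => RingHom.congr_fun (presBC_C (R' := R') ψ') r }
  refine (iff_via p (surjective_presBC (R' := R') ψ' hψ hR) _ m).2 ?_
  exact DRingPC.of_iso ((DRing.restrictD _).mapIso (e.app K).symm) h₁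

attribute [local instance] MvPolynomial.algebraMvPolynomial in
/-- Relative pseudo-coherence descends along faithfully flat maps of the base. -/
theorem relPC_descent [Algebra.FiniteType R A] [Module.FaithfullyFlat R R']
    [DRing.HasLBaseChange (Algebra.TensorProduct.includeRight : A →ₐ[R] R' ⊗[R] A).toRingHom]
    (K : Dual.D A) (m : ℤ)
    (h : DerCA.IsRelPseudoCoherent R' (R' ⊗[R] A) m
      ((DRing.LBaseChange (Algebra.TensorProduct.includeRight : A →ₐ[R] R' ⊗[R] A).toRingHom).obj K)) :
    DerCA.IsRelPseudoCoherent R A m K := by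
  obtain ⟨n, ψ, hψ⟩ := exists_presentation R A
  let ψ' : MvPolynomial (Fin n) R →+* A := ψ
  let α := (Algebra.TensorProduct.includeRight : A →ₐ[R] R' ⊗[R] A).toRingHom
  let ρ : MvPolynomial (Fin n) R →+* MvPolynomial (Fin n) R' := MvPolynomial.map (algebraMap R R')
  haveI := hasLBase (algebraMap R R')
  haveI := hasLBase ρ
  haveI : DTen.HasLBase (incRight R R' A) := hasLBase _
  have hR : ψ'.comp MvPolynomial.C = algebraMap R A := RingHom.ext fun r => ψ.commutes r
  haveI := isIso_cmpBC_presentation (R' := R') ψ' hR 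
    (fun _ => isIso_baseCmp_of_flat (algebraMap R R') (RingHom.flat_algebraMap_iff.2 inferInstance) _) K
  haveI : DRing.HasLBaseChange (incRight R R' A) := inferInstanceAs (DRing.HasLBaseChange α)
  obtain ⟨e⟩ := nonempty_LBaseChange_iso (incRight R R' A)
  let p : MvPolynomial (Fin n) R' →ₐ[R'] R' ⊗[R] A :=
    { toRingHom := presBC R' ψ', commutes' := fun r => RingHom.congr_fun (presBC_C (R' := R') ψ') r }
  have h₁ := DRingPC.of_iso ((DRing.restrictD _).mapIso (e.app K))
    ((iff_via p (surjective_presBC (R' := R') ψ' hψ hR) _ m).1 h)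
  have h₂ : DRing.IsPseudoCoherent (MvPolynomial (Fin n) R') m
      ((DTen.LBase ρ).obj ((DRing.restrictD ψ').obj K)) :=
    DRingPC.of_iso (asIso (cmpBC (presBC_comp (R' := R') ψ' hR) K)).symm h₁
  haveI hff : Module.FaithfullyFlat (MvPolynomial (Fin n) R) (MvPolynomial (Fin n) R') := by
    haveI : Algebra.IsPushout R R' (MvPolynomial (Fin n) R) (MvPolynomial (Fin n) R') :=
      Algebra.IsPushout.symm inferInstance
    exact (RingHom.faithfullyFlat_algebraMap_iff).1 (RingHom.FaithfullyFlat.isStableUnderBaseChange R R'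
      (MvPolynomial (Fin n) R) (MvPolynomial (Fin n) R')
      ((RingHom.faithfullyFlat_algebraMap_iff).2 inferInstance))
  let L := (DRing.restrictD ψ').obj K
  let L₀ := DerivedCategory.Q.objPreimage L
  let eL : DerivedCategory.Q.obj L₀ ≅ L := DerivedCategory.Q.objObjPreimageIso L
  have hflat : ρ.Flat := by
    rw [show ρ = algebraMap (MvPolynomial (Fin n) R) (MvPolynomial (Fin n) R') from
      MvPolynomial.algebraMap_def.symm]
    exact RingHom.flat_algebraMap_iff.2 inferInstance
  haveI := isIso_baseCmp_of_flat ρ hflat L₀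
  have h₃ : DRing.IsPseudoCoherent (MvPolynomial (Fin n) R') m
      (DRing.toD ((extC' ρ).obj L₀)) :=
    DRingPC.of_iso ((DTen.LBase ρ).mapIso eL.symm ≪≫ asIso ((DTen.baseCmp ρ).app L₀)) h₂
  have h₄ := DRingPCDescent.pc_descent (R := MvPolynomial (Fin n) R) (R' := MvPolynomial (Fin n) R') L₀ m
    (by rw [MvPolynomial.algebraMap_def]; exact h₃)
  exact (iff_via ψ hψ K m).2 (DRingPC.of_iso eL h₄)

end Groth.Agent.RelPC17
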