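import Groth.Agent.RelPC17.SpecChart
import Groth.Agent.RelPC17.RingDescent
import Groth.Agent.KFlatLib.Scheme.RelPerfectBC
import Groth.Agent.KFlatLib.Scheme.FlatDescent
import Groth.Agent.KFlatLib.Scheme.PullTensorCx
import Mathlib.AlgebraicGeometry.Limits
import Mathlib.RingTheory.Flat.FaithfullyFlat.Algebra

/-!
# Relative pseudo-coherence and flat base change
-/

set_option autoImplicit false
set_option linter.style.haveILetI false
set_option backward.isDefEq.respectTransparency false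
set_option backward.isDefEq.respectTransparency.types false

universe u

open CategoryTheory CategoryTheory.Limits AlgebraicGeometry TopologicalSpace Opposite
open scoped TensorProduct

attribute [local instance] HasDerivedCategory.standard

namespace Groth.Agent.RelPC17

open KFlatLib

variable {X S S' : Scheme.{u}} (f : X ⟶ S) (g : S' ⟶ S) [LocallyOfFiniteType f]
  {R A R' : Type u} [CommRing R] [CommRing A] [Algebra R A] [CommRing R'] [Algebra R R']
  [Algebra.FiniteType R A]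

/-- The chart of a base change. -/
theorem exists_lpull_chart (j : Spec (CommRingCat.of A) ⟶ X) [IsOpenImmersion j]
    (k : Spec (CommRingCat.of R) ⟶ S) [IsOpenImmersion k]
    (h : Spec.map (CommRingCat.ofHom (algebraMap R A)) ≫ k = j ≫ f)
    (l : Spec (CommRingCat.of R') ⟶ S') [IsOpenImmersion l]
    (h' : Spec.map (CommRingCat.ofHom (algebraMap R R')) ≫ k = l ≫ g)
    [DCoh.HasLpull (pullback.fst f g)]
    [DRing.HasLBaseChange (Algebra.TensorProduct.includeRight.toRingHom : A →+* R' ⊗[R] A)]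
    [PreservesFiniteLimits (tilde.functor (CommRingCat.of A))]
    {E : DCoh.D X} (M : Dual.D A) (e : (rho j).obj E ≅ (DCoh.tildeD (CommRingCat.of A)).obj M) (m : ℤ) :
    ∃ (j' : Spec (CommRingCat.of (R' ⊗[R] A)) ⟶ pullback f g) (_ : IsOpenImmersion j')
      (hle : j'.opensRange ≤ pullback.snd f g ⁻¹ᵁ l.opensRange),
      (j'.opensRange : Set (pullback f g : Scheme.{u})) =
        (pullback.fst f g).base ⁻¹' Set.range j.base ∩ (pullback.snd f g).base ⁻¹' Set.range l.base ∧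
      (ChartOK (pullback.snd f g) m ((DCoh.Lpull (pullback.fst f g)).obj E) j'.opensRange l.opensRange hle ↔
        DerCA.IsRelPseudoCoherent R' (R' ⊗[R] A) m
          ((DRing.LBaseChange (Algebra.TensorProduct.includeRight.toRingHom : A →+* R' ⊗[R] A)).obj M)) := by
  obtain ⟨j', hj', h₁, h₂, hr⟩ := RelPerfectBC.exists_pullback_chart f g j k h l h'
  haveI : PreservesFiniteLimits (tilde.functor (CommRingCat.of (R' ⊗[R] A))) :=
    QCoh.tilde_preservesFiniteLimits
  obtain ⟨e'⟩ := RelPerfectBC.nonempty_rho_lpull_iso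
    (Algebra.TensorProduct.includeRight.toRingHom : A →+* R' ⊗[R] A) (pullback.fst f g) j j' h₁ M e
  exact ⟨j', hj', le_preimage_chart j' l h₂, hr, chartOK_spec_iff j' l h₂ _ e' m⟩

/-- Flat base change. -/
theorem rel_lpull_of_qcoh [Flat g] [DCoh.HasLpull (pullback.fst f g)] {m : ℤ} {E : DCoh.D X}
    (hq : DCoh.IsQCohD E) (hE : DerSch.IsPseudoCoherentRel f m E) :
    DerSch.IsPseudoCoherentRel (pullback.snd f g) m ((DCoh.Lpull (pullback.fst f g)).obj E) := by
  refine rel_of_local fun z => ?_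
  obtain ⟨V, hV, hsV, -⟩ := exists_isAffineOpen_mem_and_subset (U := ⊤)
    (x := g ((pullback.snd f g) z)) trivial
  obtain ⟨W, hW, hsW, hWle⟩ := exists_isAffineOpen_mem_and_subset (U := g ⁻¹ᵁ V)
    (x := (pullback.snd f g) z) hsV
  have hzV : f ((pullback.fst f g) z) ∈ V := by
    rw [← Scheme.Hom.comp_apply, pullback.condition, Scheme.Hom.comp_apply]; exact hsV
  obtain ⟨U, hU, hxU, hUle⟩ := exists_isAffineOpen_mem_and_subset (U := f ⁻¹ᵁ V)
    (x := (pullback.fst f g) z) hzV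
  letI : Algebra Γ(S, V) Γ(X, U) := (f.appLE V U hUle).hom.toAlgebra
  letI : Algebra Γ(S, V) Γ(S', W) := (g.appLE V W hWle).hom.toAlgebra
  haveI : Algebra.FiniteType Γ(S, V) Γ(X, U) := finiteType_appLE hU hV hUle
  haveI : Module.Flat Γ(S, V) Γ(S', W) := HasRingHomProperty.appLE @Flat g ‹_› ⟨V, hV⟩ ⟨W, hW⟩ hWle
  haveI : PreservesFiniteLimits (tilde.functor (CommRingCat.of Γ(X, U))) := QCoh.tilde_preservesFiniteLimits
  haveI := H9Misc.DRingLBase.hasLBaseChange
    (Algebra.TensorProduct.includeRight.toRingHom : Γ(X, U) →+* Γ(S', W) ⊗[Γ(S, V)] Γ(X, U))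
  obtain ⟨M, ⟨eM⟩⟩ := exists_tildeD_iso (R := CommRingCat.of Γ(X, U)) (isQCohD_rho hU.fromSpec hq)
  have hk := IsAffineOpen.SpecMap_appLE_fromSpec f hV hU hUle
  have hM := (chartOK_spec_iff (f := f) (R := Γ(S, V)) (A := Γ(X, U)) hU.fromSpec hV.fromSpec hk M eM.symm m).1
    (chartOK_of_rel hE (isAffineOpen_opensRange hU.fromSpec) (isAffineOpen_opensRange hV.fromSpec) _)
  obtain ⟨j', hj', hle, hr, hiff⟩ := exists_lpull_chart f g hU.fromSpec hV.fromSpec hk hW.fromSpec
    (IsAffineOpen.SpecMap_appLE_fromSpec g hV hW hWle) M eM.symm m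
  refine ⟨_, _, hle, isAffineOpen_opensRange j', isAffineOpen_opensRange hW.fromSpec, ?_,
    hiff.2 (relPC_baseChange M m hM)⟩
  show z ∈ (j'.opensRange : Set (pullback f g : Scheme.{u}))
  rw [hr, hU.range_fromSpec, hW.range_fromSpec]
  exact ⟨hxU, hsW⟩

/-- Descent along a family of flat maps of the base with quasi-compact lifts. -/
theorem rel_of_lpull_family {ι : Type u} (Si : ι → Scheme.{u}) (h : ∀ i, Si i ⟶ S) [∀ i, Flat (h i)]
    [∀ i, DCoh.HasLpull (pullback.fst f (h i))]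
    (hqc : ∀ (V : S.Opens), IsAffineOpen V → ∃ (L : Type u) (_ : Finite L) (i : L → ι)
      (W : ∀ l, (Si (i l)).Opens), (∀ l, IsAffineOpen (W l)) ∧ (∀ l, W l ≤ h (i l) ⁻¹ᵁ V) ∧
        ∀ s ∈ V, ∃ (l : L) (t : Si (i l)), t ∈ W l ∧ h (i l) t = s)
    {m : ℤ} {E : DCoh.D X} (hq : DCoh.IsQCohD E)
    (H : ∀ i, DerSch.IsPseudoCoherentRel (pullback.snd f (h i)) m ((DCoh.Lpull (pullback.fst f (h i))).obj E)) :
    DerSch.IsPseudoCoherentRel f m E := by
  refine rel_of_local fun x => ?_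
  obtain ⟨V, hV, hsV, -⟩ := exists_isAffineOpen_mem_and_subset (U := ⊤) (x := f x) trivial
  obtain ⟨U, hU, hxU, hUle⟩ := exists_isAffineOpen_mem_and_subset (U := f ⁻¹ᵁ V) (x := x) hsV
  letI : Algebra Γ(S, V) Γ(X, U) := (f.appLE V U hUle).hom.toAlgebra
  haveI : Algebra.FiniteType Γ(S, V) Γ(X, U) := finiteType_appLE hU hV hUle
  haveI : PreservesFiniteLimits (tilde.functor (CommRingCat.of Γ(X, U))) := QCoh.tilde_preservesFiniteLimits
  obtain ⟨M, ⟨eM⟩⟩ := exists_tildeD_iso (R := CommRingCat.of Γ(X, U)) (isQCohD_rho hU.fromSpec hq)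
  have hk := IsAffineOpen.SpecMap_appLE_fromSpec f hV hU hUle
  obtain ⟨L, _, i, W, hW, hWle, hcov⟩ := hqc V hV
  let R := Γ(S, V)
  let A := Γ(X, U)
  letI (l : L) : Algebra R Γ(Si (i l), W l) := ((h (i l)).appLE V (W l) (hWle l)).hom.toAlgebra
  haveI (l : L) : Module.Flat R Γ(Si (i l), W l) :=
    HasRingHomProperty.appLE @Flat (h (i l)) inferInstance ⟨V, hV⟩ ⟨W l, hW l⟩ (hWle l)
  let R' := (l : L) → Γ(Si (i l), W l)
  letI : Fintype L := Fintype.ofFinite L
  haveI : Module.Flat R R' := by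
    classical
    exact Module.Flat.of_linearEquiv (DFinsupp.linearEquivFunOnFintype
      (R := R) (M := fun l : L => Γ(Si (i l), W l))).symm
  haveI : Module.FaithfullyFlat R R' := .of_comap_surjective fun p => by
    obtain ⟨l, t, ht, hts⟩ := hcov (hV.fromSpec p) (hV.range_fromSpec.le ⟨p, rfl⟩)
    obtain ⟨q, rfl⟩ := (hW l).range_fromSpec.ge ht
    refine ⟨PrimeSpectrum.comap (Pi.evalRingHom (fun l : L => (Γ(Si (i l), W l) : Type u)) l) q, ?_⟩
    apply hV.fromSpec.isOpenEmbedding.injective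
    rw [← hts, ← Scheme.Hom.comp_apply, ← IsAffineOpen.SpecMap_appLE_fromSpec (h (i l)) hV (hW l) (hWle l)]
    rfl
  haveI := H9Misc.DRingLBase.hasLBaseChange (Algebra.TensorProduct.includeRight.toRingHom : A →+* R' ⊗[R] A)
  refine ⟨_, _, le_preimage_chart hU.fromSpec hV.fromSpec hk, isAffineOpen_opensRange hU.fromSpec,
    isAffineOpen_opensRange hV.fromSpec, ?_,
    (chartOK_spec_iff (f := f) (R := R) (A := A) hU.fromSpec hV.fromSpec hk M eM.symm m).2
      (relPC_descent (R' := R') M m ?_)⟩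
  · show x ∈ Set.range hU.fromSpec
    rw [hU.range_fromSpec]; exact hxU
  let f₀ : Spec (CommRingCat.of A) ⟶ Spec (CommRingCat.of R) := Spec.map (CommRingCat.ofHom (algebraMap R A))
  let g₀ : Spec (CommRingCat.of R') ⟶ Spec (CommRingCat.of R) := Spec.map (CommRingCat.ofHom (algebraMap R R'))
  haveI : LocallyOfFiniteType f₀ := (HasRingHomProperty.Spec_iff (P := @LocallyOfFiniteType)).2
    (RingHom.finiteType_algebraMap.2 inferInstance)
  haveI := hasLpull (pullback.fst f₀ g₀)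
  let T := (DCoh.Lpull (pullback.fst f₀ g₀)).obj ((DCoh.tildeD (CommRingCat.of A)).obj M)
  let e₀ : (rho (𝟙 (Spec (CommRingCat.of A)))).obj ((DCoh.tildeD (CommRingCat.of A)).obj M) ≅
      (DCoh.tildeD (CommRingCat.of A)).obj M :=
    (rho (𝟙 _)).mapIso eM ≪≫ rhoComp (𝟙 _) hU.fromSpec hU.fromSpec (Category.id_comp _) E ≪≫ eM.symm
  have hT : DerSch.IsPseudoCoherentRel (pullback.snd f₀ g₀) m T := by
    refine rel_of_local fun z => ?_
    haveI : Finite L := inferInstance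
    let σ := sigmaSpec (fun l : L => Γ(Si (i l), W l))
    obtain ⟨y, hy⟩ := (Scheme.homeoOfIso (asIso σ)).surjective ((pullback.snd f₀ g₀) z)
    obtain ⟨l, q, rfl⟩ := (sigmaOpenCover fun l : L => Spec Γ(Si (i l), W l)).exists_eq y
    let π : Spec (Γ(Si (i l), W l)) ⟶ Spec (CommRingCat.of R') :=
      Spec.map (CommRingCat.ofHom (Pi.evalRingHom (fun l : L => (Γ(Si (i l), W l) : Type u)) l))
    haveI : IsOpenImmersion π := by
      rw [show π = Sigma.ι (fun l : L => Spec Γ(Si (i l), W l)) l ≫ σ from (ι_sigmaSpec _ l).symm]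
      infer_instance
    have hπ : Spec.map (CommRingCat.ofHom (algebraMap R Γ(Si (i l), W l))) ≫ 𝟙 _ = π ≫ g₀ := by
      rw [Category.comp_id, ← Spec.map_comp]; rfl
    haveI := H9Misc.DRingLBase.hasLBaseChange
      (Algebra.TensorProduct.includeRight.toRingHom : A →+* Γ(Si (i l), W l) ⊗[R] A)
    obtain ⟨j₁, hj₁, hle₁, hr₁, hiff₁⟩ := exists_lpull_chart f₀ g₀ (R := R) (A := A)
      (R' := Γ(Si (i l), W l)) (𝟙 _) (𝟙 _) (by rw [Category.comp_id, Category.id_comp]) π hπ M e₀ m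
    obtain ⟨j₂, hj₂, hle₂, -, hiff₂⟩ := exists_lpull_chart f (h (i l)) (R := R) (A := A)
      (R' := Γ(Si (i l), W l)) hU.fromSpec hV.fromSpec hk (hW l).fromSpec
      (IsAffineOpen.SpecMap_appLE_fromSpec (h (i l)) hV (hW l) (hWle l)) M eM.symm m
    refine ⟨_, _, hle₁, isAffineOpen_opensRange j₁, isAffineOpen_opensRange π, ?_, hiff₁.2 (hiff₂.1
      (chartOK_of_rel (H (i l)) (isAffineOpen_opensRange j₂) (isAffineOpen_opensRange _) hle₂))⟩
    show z ∈ (j₁.opensRange : Set (pullback f₀ g₀ : Scheme.{u}))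
    rw [hr₁]
    refine ⟨⟨(pullback.fst f₀ g₀) z, rfl⟩, q, ?_⟩
    rw [← hy, show π = Sigma.ι (fun l : L => Spec Γ(Si (i l), W l)) l ≫ σ from (ι_sigmaSpec _ l).symm]
    rfl
  obtain ⟨j₃, hj₃, hle₃, -, hiff₃⟩ := exists_lpull_chart f₀ g₀ (R := R) (A := A) (R' := R')
    (𝟙 _) (𝟙 _) (by rw [Category.comp_id, Category.id_comp]) (𝟙 _) (by rw [Category.comp_id, Category.id_comp])
    M e₀ m
  exact hiff₃.1 (chartOK_of_rel hT (isAffineOpen_opensRange j₃) (isAffineOpen_opensRange _) hle₃)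

/-- Quasi-compact lifts of affine opens along an fppf family. -/
theorem exists_lifts_fppf {ι : Type u} (Si : ι → Scheme.{u}) (h : ∀ i, Si i ⟶ S) [∀ i, Flat (h i)]
    [∀ i, LocallyOfFinitePresentation (h i)] (hcov : ∀ s : S, ∃ (i : ι) (t : Si i), (h i).base t = s)
    (V : S.Opens) (hV : IsAffineOpen V) :
    ∃ (L : Type u) (_ : Finite L) (i : L → ι) (W : ∀ l, (Si (i l)).Opens),
      (∀ l, IsAffineOpen (W l)) ∧ (∀ l, W l ≤ h (i l) ⁻¹ᵁ V) ∧
        ∀ s ∈ V, ∃ (l : L) (t : Si (i l)), t ∈ W l ∧ h (i l) t = s := by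
  have key : ∀ v : V, ∃ (i : ι) (W : (Si i).Opens), IsAffineOpen W ∧ W ≤ h i ⁻¹ᵁ V ∧
      (v : S) ∈ (h i).base '' (W : Set (Si i)) := fun v => by
    obtain ⟨i, t, ht⟩ := hcov v
    obtain ⟨W, hW, htW, hle⟩ := exists_isAffineOpen_mem_and_subset (U := h i ⁻¹ᵁ V) (x := t)
      (show h i t ∈ V by rw [ht]; exact v.2)
    exact ⟨i, W, hW, hle, t, htW, ht⟩
  choose i W hW hle hv using key
  obtain ⟨T, hT⟩ := hV.isCompact.elim_finite_subcover (fun v : V => (h (i v)).base '' (W v : Set (Si (i v))))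
    (fun v => (h (i v)).isOpenMap _ (W v).2) (fun s hs => Set.mem_iUnion.2 ⟨⟨s, hs⟩, hv ⟨s, hs⟩⟩)
  refine ⟨↥T, inferInstance, fun v => i v.1, fun v => W v.1, fun v => hW v.1, fun v => hle v.1,
    fun s hs => ?_⟩
  obtain ⟨v, hvT, t, ht, hts⟩ := Set.mem_iUnion₂.1 (hT hs)
  exact ⟨⟨v, hvT⟩, t, ht, hts⟩

/-- Quasi-compact lifts of affine opens along a quasi-compact surjection. -/
theorem exists_lifts_qc {T : Scheme.{u}} (h : T ⟶ S) [QuasiCompact h] [Surjective h]
    (V : S.Opens) (hV : IsAffineOpen V) :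
    ∃ (L : Type u) (_ : Finite L) (_ : L → PUnit.{u + 1}) (W : L → T.Opens),
      (∀ l, IsAffineOpen (W l)) ∧ (∀ l, W l ≤ h ⁻¹ᵁ V) ∧
        ∀ s ∈ V, ∃ (l : L) (t : T), t ∈ W l ∧ h t = s := by
  have key : ∀ v : (h ⁻¹ᵁ V : T.Opens), ∃ W : T.Opens, IsAffineOpen W ∧ (v : T) ∈ W ∧ W ≤ h ⁻¹ᵁ V :=
    fun v => exists_isAffineOpen_mem_and_subset (U := h ⁻¹ᵁ V) v.2
  choose W hW hv hle using key
  obtain ⟨F, hF⟩ := (h.isCompact_preimage hV.isCompact).elim_finite_subcover
    (fun v : (h ⁻¹ᵁ V : T.Opens) => (W v : Set T)) (fun v => (W v).2)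
    (fun t ht => Set.mem_iUnion.2 ⟨⟨t, ht⟩, hv ⟨t, ht⟩⟩)
  refine ⟨↥F, inferInstance, fun _ => ⟨⟩, fun v => W v.1, fun v => hW v.1,
    fun v => hle v.1, fun s hs => ?_⟩
  obtain ⟨t, rfl⟩ := h.surjective s
  obtain ⟨v, hvF, ht⟩ := Set.mem_iUnion₂.1 (hF (show t ∈ h ⁻¹ᵁ V from hs))
  exact ⟨⟨v, hvF⟩, t, ht, rfl⟩

/-- Relative pseudo-coherence of isomorphic objects. -/
theorem rel_of_iso' {m : ℤ} {E E' : DCoh.D X} (e : E ≅ E') (hE : DerSch.IsPseudoCoherentRel f m E) :
    DerSch.IsPseudoCoherentRel f m E' :=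
  rel_iff.2 fun U V hU hV hle n φ hφ => pcat_of_iso e (rel_iff.1 hE U V hU hV hle n φ hφ)

/-- The structure module in degree zero has quasi-coherent cohomology. -/
theorem isQCohD_structure : DCoh.IsQCohD (DCoh.inD S (Coh.structureModule S)) := fun i => by
  by_cases h : i = 0
  · subst h
    exact isQCoh_of_iso (hdSingleIso _).symm QCoh.isQCoh_structureModule
  · exact isQCoh_of_isZero (hd_single_isZero _ i h)

/-- The pullback of the structure module in degree zero. -/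
theorem nonempty_lpull_structure (p : S' ⟶ S) [Flat p] [DCoh.HasLpull p] :
    Nonempty ((DCoh.Lpull p).obj (DCoh.inD S (Coh.structureModule S)) ≅
      DCoh.inD S' (Coh.structureModule S')) := by
  let C := (HomologicalComplex.single S.Modules (ComplexShape.up ℤ) 0).obj (Coh.structureModule S)
  haveI : QuasiIso ((flatCover S).ψ.app C) := (flatCover S).quasiIso_ψ C
  haveI := isIso_Q_map ((flatCover S).ψ.app C) inferInstance
  haveI := preservesHomology_pullback p
  haveI : QuasiIso ((pullCx p).map ((flatCover S).ψ.app C)) :=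
    inferInstanceAs (QuasiIso (((Scheme.Modules.pullback p).mapHomologicalComplex (ComplexShape.up ℤ)).map _))
  haveI := isIso_Q_map ((pullCx p).map ((flatCover S).ψ.app C)) inferInstance
  let e : (DCoh.Lpull p).obj (DCoh.inD S (Coh.structureModule S)) ≅
      DCoh.inD S' ((Scheme.Modules.pullback p).obj (Coh.structureModule S)) :=
    (DCoh.Lpull p).mapIso ((DerivedCategory.singleFunctorIsoCompQ S.Modules 0).app _ ≪≫
      (asIso (DerivedCategory.Q.map ((flatCover S).ψ.app C))).symm) ≪≫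
    lpullIso p (isKFlat_kRes C) ≪≫
    asIso (DerivedCategory.Q.map ((pullCx p).map ((flatCover S).ψ.app C))) ≪≫
    DerivedCategory.Q.mapIso ((HomologicalComplex.singleMapHomologicalComplex (Scheme.Modules.pullback p) _ 0).app _) ≪≫
    ((DerivedCategory.singleFunctorIsoCompQ S'.Modules 0).app _).symm
  let u : (Scheme.Modules.pullback p).obj (Coh.structureModule S) ⟶ Coh.structureModule S' :=
    SheafOfModules.pullbackObjUnitToUnit p.toRingCatSheafHom
  haveI : IsIso u := inferInstanceAs (IsIso (SheafOfModules.pullbackObjUnitToUnit _))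
  exact ⟨e ≪≫ (DerivedCategory.singleFunctor S'.Modules 0).mapIso (asIso u)⟩

end Groth.Agent.RelPC17
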