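import Groth.Agent.RelPC17.Rel

/-!
# Relative pseudo-coherence and open immersions of the source
-/

set_option autoImplicit false
set_option linter.style.haveILetI false
set_option backward.isDefEq.respectTransparency false
set_option backward.isDefEq.respectTransparency.types false

universe u

open CategoryTheory CategoryTheory.Limits AlgebraicGeometry TopologicalSpace Opposite

attribute [local instance] HasDerivedCategory.standard

namespace Groth.Agent.RelPC17

open KFlatLib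

variable {X X' Y : Scheme.{u}} (j : X' ⟶ X) [IsOpenImmersion j]

/-- An open of the source as an open of the target. -/
noncomputable def imageHom (W : X'.Opens) : (W : Scheme.{u}) ⟶ (j ''ᵁ W : X.Opens).toScheme :=
  X'.homOfLE (Scheme.Hom.preimage_image_eq j W).ge ≫ j ∣_ (j ''ᵁ W)

lemma imageHom_ι (W : X'.Opens) : imageHom j W ≫ (j ''ᵁ W).ι = W.ι ≫ j := by
  rw [imageHom, Category.assoc, morphismRestrict_ι, Scheme.homOfLE_ι_assoc]

instance (W : X'.Opens) : IsOpenImmersion (imageHom j W) := by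
  unfold imageHom; infer_instance

instance (W : X'.Opens) : IsIso (imageHom j W) := by
  have : Epi (imageHom j W).base := by
    rw [TopCat.epi_iff_surjective]
    rintro ⟨_, w, hw, rfl⟩
    exact ⟨⟨w, hw⟩, Subtype.ext (congrArg (fun g => g.base ⟨w, hw⟩) (imageHom_ι j W))⟩
  exact IsOpenImmersion.isIso _

lemma imageHom_imm (W : X'.Opens) {P : Type u} [CommRing P] (γ : P →+* Γ(X', W)) :
    imageHom j W ≫ imm (j ''ᵁ W) ((j.appIso W).inv.hom.comp γ) = imm W γ := by
  have h : imageHom j W ≫ (j ''ᵁ W).toSpecΓ = W.toSpecΓ ≫ Spec.map (j.appIso W).hom := by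
    rw [Scheme.Hom.appIso_hom', Scheme.Hom.appLE, Spec.map_comp, ← Category.assoc,
      Scheme.Opens.toSpecΓ_SpecMap_presheaf_map, Category.assoc, Scheme.Opens.toSpecΓ_naturality,
      imageHom, Category.assoc]
  rw [imm, imm, ← Category.assoc, h, Category.assoc, ← Spec.map_comp]
  congr 2
  ext x
  simp

/-- The test on an open subscheme is the test on its image. -/
theorem pcat_image_iff {W : X'.Opens} (hW : IsAffineOpen W) {P : Type u} [CommRing P]
    (γ : P →+* Γ(X', W)) (hγ : Function.Surjective γ) (m : ℤ) (E : DCoh.D X) :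
    PCat m ((rho j).obj E) W γ ↔ PCat m E (j ''ᵁ W) ((j.appIso W).inv.hom.comp γ) := by
  let γ' : P →+* Γ(X, j ''ᵁ W) := (j.appIso W).inv.hom.comp γ
  have hγ' : Function.Surjective γ' :=
    (ConcreteCategory.bijective_of_isIso (j.appIso W).inv).2.comp hγ
  haveI := isClosedImmersion_imm hW hγ
  haveI := isClosedImmersion_imm (hW.image_of_isOpenImmersion j) hγ'
  let e := imageHom j W
  have hid : ∀ {A B : Scheme.{u}} (g : A ⟶ B) (q : B ⟶ Spec (CommRingCat.of P)) [IsIso g],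
      g.opensRange = q ⁻¹ᵁ (𝟙 (Spec (CommRingCat.of P)) : _ ⟶ _).opensRange := fun g q _ => by
      rw [Scheme.Hom.opensRange_of_isIso, Scheme.Hom.opensRange_of_isIso]; rfl
  let e₁ : (rho e).obj ((rho (j ''ᵁ W).ι).obj E) ≅ (rho W.ι).obj ((rho j).obj E) :=
    rhoComp e (j ''ᵁ W).ι (W.ι ≫ j) (imageHom_ι j W) E ≪≫ (rhoComp W.ι j _ rfl E).symm
  constructor
  · intro h _
    have h₁ : LocPC m ((rho (𝟙 _)).obj ((pD (imm W γ)).obj ((rho W.ι).obj ((rho j).obj E)))) :=
      LocPC.restrict h _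
    refine h₁.of_iso (rhoPD (imm W γ) (𝟙 _) (inv e) (imm (j ''ᵁ W) γ')
      (by rw [Category.comp_id, IsIso.inv_comp_eq]; exact (imageHom_imm j W γ).symm) (hid _ _) _ ≪≫
      (pD (imm (j ''ᵁ W) γ')).mapIso ((rho (inv e)).mapIso e₁.symm ≪≫
        rhoComp (inv e) e (𝟙 _) (IsIso.inv_hom_id e) _ ≪≫
        rhoComp (𝟙 _) (j ''ᵁ W).ι (j ''ᵁ W).ι (Category.id_comp _) E))
  · intro h _
    have h₁ : LocPC m ((rho (𝟙 _)).obj ((pD (imm (j ''ᵁ W) γ')).obj ((rho (j ''ᵁ W).ι).obj E))) :=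
      LocPC.restrict h _
    exact h₁.of_iso (rhoPD (imm (j ''ᵁ W) γ') (𝟙 _) e (imm W γ)
      (by rw [Category.comp_id]; exact imageHom_imm j W γ) (hid _ _) _ ≪≫ (pD (imm W γ)).mapIso e₁)

/-- Charts on an open subscheme are charts on the image. -/
theorem isChart_image_iff {f : X ⟶ Y} {W : X'.Opens} {V : Y.Opens} (h : W ≤ (j ≫ f) ⁻¹ᵁ V)
    (h' : j ''ᵁ W ≤ f ⁻¹ᵁ V) {n : ℕ} (φ : MvPolynomial (Fin n) Γ(Y, V) →+* Γ(X', W)) :
    DerSch.IsChart (j ≫ f) W V h φ ↔
      DerSch.IsChart f (j ''ᵁ W) V h' ((j.appIso W).inv.hom.comp φ) := by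
  have hc : ((j ≫ f).appLE V W h).hom = (j.appIso W).hom.hom.comp (f.appLE V (j ''ᵁ W) h').hom := by
    rw [← CommRingCat.hom_comp, Scheme.Hom.appIso_hom', Scheme.Hom.appLE_comp_appLE]
  refine and_congr ⟨fun hs => (ConcreteCategory.bijective_of_isIso (j.appIso W).inv).2.comp hs,
    fun hs z => ?_⟩ ?_
  · obtain ⟨a, ha⟩ := hs ((j.appIso W).inv z)
    exact ⟨a, (ConcreteCategory.bijective_of_isIso (j.appIso W).inv).1 ha⟩
  · rw [hc]
    constructor
    · intro e
      rw [RingHom.comp_assoc, e, ← RingHom.comp_assoc, ← CommRingCat.hom_comp, Iso.hom_inv_id,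
        CommRingCat.hom_id, RingHom.id_comp]
    · intro e
      rw [← e, RingHom.comp_assoc, ← RingHom.comp_assoc, ← CommRingCat.hom_comp,
        Iso.inv_hom_id, CommRingCat.hom_id, RingHom.id_comp]

/-- Charts on an open subscheme come from the image. -/
theorem chartOK_image_iff {f : X ⟶ Y} {W : X'.Opens} {V : Y.Opens} (hW : IsAffineOpen W)
    (hV : IsAffineOpen V) [LocallyOfFiniteType (j ≫ f)]
    (h : W ≤ (j ≫ f) ⁻¹ᵁ V) (h' : j ''ᵁ W ≤ f ⁻¹ᵁ V) (m : ℤ) (E : DCoh.D X) :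
    ChartOK (j ≫ f) m ((rho j).obj E) W V h ↔ ChartOK f m E (j ''ᵁ W) V h' := by
  have hW' := hW.image_of_isOpenImmersion j
  constructor
  · rintro ⟨n, φ, hφ, hpc⟩
    have hφ' := (isChart_image_iff j h h' φ).1 hφ
    exact ⟨n, _, hφ', (chartPC_iff hW' hφ'.1 m E).2
      ((pcat_image_iff j hW φ hφ.1 m E).1 ((chartPC_iff hW hφ.1 m _).1 hpc))⟩
  · intro H
    obtain ⟨n, φ, hφ⟩ := exists_isChart h (finiteType_appLE hW hV h)
    have hφ' := (isChart_image_iff j h h' φ).1 hφ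
    exact ⟨n, φ, hφ, (chartPC_iff hW hφ.1 m _).2 ((pcat_image_iff j hW φ hφ.1 m E).2
      ((chartPC_iff hW' hφ'.1 m E).1 (chartPC_of_chartOK hW' H _ hφ')))⟩

end Groth.Agent.RelPC17
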