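import Groth.Agent.RelPC17.AffineTilde
import Groth.Agent.KFlatLib.Scheme.AffineRpush
import Groth.Agent.H9Misc.DRingRelPC2
import Mathlib.AlgebraicGeometry.Morphisms.Finite

/-!
# Relative pseudo-coherence and finite morphisms
-/

set_option autoImplicit false
set_option linter.style.haveILetI false
set_option backward.isDefEq.respectTransparency false
set_option backward.isDefEq.respectTransparency.types false

universe u

open CategoryTheory CategoryTheory.Limits AlgebraicGeometry TopologicalSpace Opposite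

attribute [local instance] HasDerivedCategory.standard

namespace Groth.Agent.RelPC17

open KFlatLib H9Misc.DRingRelPC

variable {X Y S Z P : Scheme.{u}}

/-- `Ri_* = i_*` for a closed immersion. -/
theorem nonempty_rpush_pD (i : Z ⟶ P) [IsClosedImmersion i] [DCoh.HasRpush i] (F : DCoh.D Z) :
    Nonempty ((DCoh.Rpush i).obj F ≅ (pD i).obj F) := by
  obtain ⟨I, s, hI, hs⟩ := exists_kInjective_res (DerivedCategory.Q.objPreimage F)
  let eI : DerivedCategory.Q.obj I ≅ F :=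
    (asIso (DerivedCategory.Q.map s)).symm ≪≫ DerivedCategory.Q.objObjPreimageIso F
  obtain ⟨a⟩ := nonempty_rpush_iso_of_kInjective i eI
  exact ⟨a ≪≫ ((pQ i).app I).symm ≪≫ (pD i).mapIso eI⟩

variable {R : Type u} [CommRing R]

/-- A chart of a direct image by an affine morphism, on the complex of modules upstairs. -/
theorem pcat_rpush_iff (π : X ⟶ Y) [IsAffineHom π] [DCoh.HasRpush π] {W : Y.Opens} (hW : IsAffineOpen W)
    (γ : R →+* Γ(Y, W)) (hγ : Function.Surjective γ)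
    [PreservesFiniteLimits (tilde.functor Γ(X, π ⁻¹ᵁ W))]
    (G : CochainComplex X.Modules ℤ) {E : DCoh.D X} (eG : DCoh.toD X G ≅ E) (M : Dual.D Γ(X, π ⁻¹ᵁ W))
    (eM : (DCoh.tildeD Γ(X, π ⁻¹ᵁ W)).obj M ≅
      DCoh.toD _ ((DerSch.pushCx (hW.preimage π).isoSpec.hom).obj ((DCoh.restrictCx (π ⁻¹ᵁ W)).obj G)))
    (m : ℤ) :
    PCat m ((DCoh.Rpush π).obj E) W γ ↔
      DRing.IsPseudoCoherent R m ((DRing.restrictD ((π.app W).hom.comp γ)).obj M) := by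
  haveI := isClosedImmersion_imm hW hγ
  haveI : PreservesFiniteLimits (tilde.functor (CommRingCat.of R)) := QCoh.tilde_preservesFiniteLimits
  let s := (hW.preimage π).isoSpec
  let g : CommRingCat.of R ⟶ Γ(X, π ⁻¹ᵁ W) := CommRingCat.ofHom ((π.app W).hom.comp γ)
  haveI := hasRpush_scheme (π ∣_ W)
  haveI := hasRpush_scheme (imm W γ)
  haveI := hasRpush_scheme ((π ∣_ W) ≫ imm W γ)
  haveI := hasRpush_scheme s.hom
  haveI := hasRpush_scheme (Spec.map g)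
  haveI := hasRpush_scheme (s.hom ≫ Spec.map g)
  have heq : (π ∣_ W) ≫ imm W γ = s.hom ≫ Spec.map g := by
    rw [imm, ← Category.assoc, ← Scheme.Opens.toSpecΓ_naturality, Category.assoc, ← Spec.map_comp,
      show s.hom = (π ⁻¹ᵁ W).toSpecΓ from IsAffineOpen.isoSpec_hom _]
    rfl
  let EU := (rho (π ⁻¹ᵁ W).ι).obj E
  obtain ⟨r⟩ := nonempty_rpush_restrictD_iso π W
  obtain ⟨p₁⟩ := nonempty_rpush_pD (imm W γ) ((DCoh.Rpush (π ∣_ W)).obj EU)
  obtain ⟨c₁⟩ := nonempty_rpush_comp (π ∣_ W) (imm W γ)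
  obtain ⟨c₂⟩ := nonempty_rpush_comp s.hom (Spec.map g)
  obtain ⟨p₂⟩ := nonempty_rpush_pD s.hom EU
  obtain ⟨t⟩ := nonempty_tildeD_rpush_iso g
  have e₀ : Nonempty ((DCoh.Rpush ((π ∣_ W) ≫ imm W γ)).obj EU ≅
      (DCoh.Rpush (s.hom ≫ Spec.map g)).obj EU) := by
    revert heq
    generalize (π ∣_ W) ≫ imm W γ = a at *
    rintro rfl
    exact ⟨Iso.refl _⟩
  obtain ⟨e₀⟩ := e₀
  let e : (pD (imm W γ)).obj ((rho W.ι).obj ((DCoh.Rpush π).obj E)) ≅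
      (DCoh.tildeD (CommRingCat.of R)).obj ((DRing.restrictD g.hom).obj M) :=
    (pD (imm W γ)).mapIso (r.app E) ≪≫ p₁.symm ≪≫ c₁.app EU ≪≫ e₀ ≪≫ (c₂.app EU).symm ≪≫
      (DCoh.Rpush (Spec.map g)).mapIso (p₂ ≪≫
        (pD s.hom).mapIso ((rho (π ⁻¹ᵁ W).ι).mapIso eG.symm ≪≫ (rhoQ _).app G) ≪≫
        (pQ s.hom).app _ ≪≫ eM.symm) ≪≫ t.app M
  exact Iff.trans ⟨fun h => (isPseudoCoherentD_iff _ _).2 (LocPC.of_iso e h),
    fun h {_} => LocPC.of_iso e.symm ((isPseudoCoherentD_iff _ _).1 h)⟩ (Groth.Agent.S1004.result R _ m)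

/-- Relative pseudo-coherence of a direct image by a finite morphism. -/
theorem rel_rpush_finite_iff (p : X ⟶ S) (q : Y ⟶ S) [LocallyOfFiniteType p] [LocallyOfFiniteType q]
    (π : X ⟶ Y) [IsFinite π] (w : π ≫ q = p) [DCoh.HasRpush π] (m : ℤ) (E : DCoh.D X)
    (hE : DCoh.IsQCohD E) :
    DerSch.IsPseudoCoherentRel p m E ↔ DerSch.IsPseudoCoherentRel q m ((DCoh.Rpush π).obj E) := by
  subst w
  have key : ∀ (W : Y.Opens) (V : S.Opens), IsAffineOpen W → IsAffineOpen V → ∀ h : W ≤ q ⁻¹ᵁ V,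
      ∃ (k : ℕ) (φ : MvPolynomial (Fin k) Γ(S, V) →+* Γ(Y, W)) (l : ℕ)
        (ψ : MvPolynomial (Fin l) Γ(S, V) →+* Γ(X, π ⁻¹ᵁ W)),
        DerSch.IsChart q W V h φ ∧ DerSch.IsChart (π ≫ q) (π ⁻¹ᵁ W) V (π.preimage_mono h) ψ ∧
          (PCat m ((DCoh.Rpush π).obj E) W φ ↔ PCat m E (π ⁻¹ᵁ W) ψ) := by
    intro W V hW hV h
    have hU := hW.preimage π
    obtain ⟨k, φ, hφ⟩ := exists_isChart h (finiteType_appLE hW hV h)
    obtain ⟨l, ψ, hψ⟩ := exists_isChart (f := π ≫ q) (π.preimage_mono h) (finiteType_appLE hU hV _)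
    haveI : PreservesFiniteLimits (tilde.functor Γ(X, π ⁻¹ᵁ W)) := QCoh.tilde_preservesFiniteLimits
    let G := DerivedCategory.Q.objPreimage E
    obtain ⟨M, ⟨eM⟩⟩ := exists_tilde_model hU G (repIso E) hE
    refine ⟨k, φ, l, ψ, hφ, hψ, (pcat_rpush_iff π hW φ hφ.1 G (repIso E) M eM m).trans
      (Iff.trans ?_ (pcat_iff_tilde hU ψ hψ.1 G (repIso E) M eM m).symm)⟩
    letI := (q.appLE V W h).hom.toAlgebra
    letI := (π.app W).hom.toAlgebra
    letI := ((π ≫ q).appLE V (π ⁻¹ᵁ W) (π.preimage_mono h)).hom.toAlgebra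
    haveI : IsScalarTower Γ(S, V) Γ(Y, W) Γ(X, π ⁻¹ᵁ W) := IsScalarTower.of_algebraMap_eq fun r => by
      show _ = (q.appLE V W h ≫ π.app W) r
      rw [Scheme.Hom.app_eq_appLE, Scheme.Hom.appLE_comp_appLE]; rfl
    haveI : Module.Finite Γ(Y, W) Γ(X, π ⁻¹ᵁ W) := π.finite_app W hW
    haveI : Algebra.FiniteType Γ(S, V) Γ(Y, W) := finiteType_appLE hW hV h
    let α : MvPolynomial (Fin k) Γ(S, V) →ₐ[Γ(S, V)] Γ(Y, W) :=
      { φ with commutes' := RingHom.congr_fun hφ.2 }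
    let β : MvPolynomial (Fin l) Γ(S, V) →ₐ[Γ(S, V)] Γ(X, π ⁻¹ᵁ W) :=
      { ψ with commutes' := RingHom.congr_fun hψ.2 }
    refine Iff.trans ?_ (((iff_via α hφ.1 ((DRing.restrictD (algebraMap Γ(Y, W) Γ(X, π ⁻¹ᵁ W))).obj M) m).symm.trans
      (finite_iff (R := Γ(S, V)) M m).symm).trans (iff_via β hψ.1 M m))
    exact (pc_iff_twice φ (π.app W).hom M m).symm
  refine ⟨fun H => rel_of_local fun y => ?_, fun H => rel_of_local fun x => ?_⟩
  · obtain ⟨_, ⟨V, hV, rfl⟩, hyV, -⟩ := S.isBasis_affineOpens.exists_subset_of_mem_open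
      (show q y ∈ (⊤ : S.Opens) from trivial) (⊤ : S.Opens).2
    obtain ⟨_, ⟨W, hW, rfl⟩, hyW, hle⟩ :=
      Y.isBasis_affineOpens.exists_subset_of_mem_open (show y ∈ q ⁻¹ᵁ V from hyV) (q ⁻¹ᵁ V).2
    obtain ⟨k, φ, l, ψ, hφ, hψ, hiff⟩ := key W V hW hV hle
    exact ⟨W, V, hle, hW, hV, hyW, k, φ, hφ, (chartPC_iff hW hφ.1 m _).2
      (hiff.2 (rel_iff.1 H _ V (hW.preimage π) hV _ l ψ hψ))⟩
  · obtain ⟨_, ⟨V, hV, rfl⟩, hxV, -⟩ := S.isBasis_affineOpens.exists_subset_of_mem_open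
      (show q (π x) ∈ (⊤ : S.Opens) from trivial) (⊤ : S.Opens).2
    obtain ⟨_, ⟨W, hW, rfl⟩, hxW, hle⟩ :=
      Y.isBasis_affineOpens.exists_subset_of_mem_open (show π x ∈ q ⁻¹ᵁ V from hxV) (q ⁻¹ᵁ V).2
    obtain ⟨k, φ, l, ψ, hφ, hψ, hiff⟩ := key W V hW hV hle
    exact ⟨π ⁻¹ᵁ W, V, π.preimage_mono hle, hW.preimage π, hV, hxW, l, ψ, hψ,
      (chartPC_iff (hW.preimage π) hψ.1 m E).2 (hiff.1 (rel_iff.1 H W V hW hV hle k φ hφ))⟩

end Groth.Agent.RelPC17
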