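import Groth.Agent.RelPC17.NilpBase
import Groth.Agent.FlatModel.EssFPModel
import Mathlib.LinearAlgebra.TensorProduct.Quotient

/-!
# Tor amplitude of complexes of finitely presented modules, tested on the closed fibre
-/

set_option autoImplicit false
set_option linter.style.haveILetI false
set_option backward.isDefEq.respectTransparency false
set_option backward.isDefEq.respectTransparency.types false

universe u

open CategoryTheory CategoryTheory.Limits MonoidalCategory
open scoped TensorProduct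

attribute [local instance] HasDerivedCategory.standard

namespace Groth.Agent.RelPC17.JacRing

open Groth.Agent H9Misc.DRingLTensor

variable {A B : Type u} [CommRing A] [CommRing B]

/-- A complex of finitely presented modules, flat over the base, whose closed fibre is exact below `a`,
is exact below `a` and has flat cokernel there. -/
theorem exact_flat_of_fibre [IsLocalRing A] [IsLocalRing B] (φ : A →+* B) [IsLocalHom φ]
    (hB : letI := φ.toAlgebra; CAlgX.IsEssFinitePresentation A B)
    (P : CochainComplex (ModuleCat.{u} B) ℤ) (hfp : ∀ n, Module.FinitePresentation B (P.X n))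
    (hflat : ∀ n, Module.Flat A ((ModuleCat.restrictScalars.{u} φ).obj (P.X n))) (a : ℤ)
    (h : ∀ p q r : ℤ, p + 1 = q → q + 1 = r → q < a → ∀ z : P.X q,
      (P.d q r).hom z ∈ (IsLocalRing.maximalIdeal A).map φ • (⊤ : Submodule B (P.X r)) →
        ∃ w : P.X p, z - (P.d p q).hom w ∈ (IsLocalRing.maximalIdeal A).map φ • (⊤ : Submodule B (P.X q))) :
    (∀ i, i < a → P.ExactAt i) ∧
      Module.Flat A ((ModuleCat.restrictScalars.{u} φ).obj (P.opcycles a)) := by
  letI := φ.toAlgebra
  haveI : IsLocalHom (algebraMap A B) := ‹IsLocalHom φ›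
  have key : ∀ p q r : ℤ, p + 1 = q → q + 1 = r → q < a →
      P.ExactAt q ∧ Module.Flat A
        ((ModuleCat.restrictScalars.{u} φ).obj (ModuleCat.of B (P.X r ⧸ LinearMap.range (P.d q r).hom))) := by
    intro p q r hpq hqr hq
    let K := LinearMap.range (P.d p q).hom
    haveI := hfp p
    haveI := hfp q
    haveI := hfp r
    haveI : Module.FinitePresentation B (P.X q ⧸ K) :=
      Module.finitePresentation_of_surjective K.mkQ (Submodule.mkQ_surjective K) (by
        rw [Submodule.ker_mkQ]
        exact (Module.Finite.iff_fg).1 inferInstance)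
    letI : Module A (P.X r) := Module.compHom _ φ
    haveI : IsScalarTower A B (P.X r) := IsScalarTower.of_algebraMap_smul fun _ _ => rfl
    haveI : Module.Flat A (P.X r) := hflat r
    letI : Module A (P.X q ⧸ K) := Module.compHom _ φ
    haveI : IsScalarTower A B (P.X q ⧸ K) := IsScalarTower.of_algebraMap_smul fun _ _ => rfl
    have hK : K ≤ LinearMap.ker (P.d q r).hom := by
      rintro _ ⟨w, rfl⟩
      rw [LinearMap.mem_ker, ← LinearMap.comp_apply, ← ModuleCat.hom_comp, P.d_comp_d]
      simp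
    obtain ⟨hinj, hC⟩ := FlatModel.injective_flat_of_injective_mod_max_essFP (R := A) hB
      (K.liftQ (P.d q r).hom hK) (fun x hx => by
        obtain ⟨z, rfl⟩ := Submodule.mkQ_surjective K x
        obtain ⟨w, hw⟩ := h p q r hpq hqr hq z hx
        have h1 := Submodule.mem_map_of_mem (f := K.mkQ) hw
        rw [Submodule.map_smul'', Submodule.map_top, Submodule.range_mkQ, map_sub,
          show K.mkQ ((P.d p q).hom w) = 0 from (Submodule.Quotient.mk_eq_zero K).2 ⟨w, rfl⟩, sub_zero] at h1
        exact h1)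
    refine ⟨?_, ?_⟩
    · rw [HomologicalComplex.exactAt_iff' _ p q r (by simp; omega) (by simp; omega),
        ShortComplex.moduleCat_exact_iff]
      intro z hz
      have hz0 : K.mkQ z = 0 := hinj (by rw [map_zero]; exact hz)
      exact (Submodule.Quotient.mk_eq_zero K).1 hz0
    · let e : (P.X r ⧸ LinearMap.range (P.d q r).hom) ≃ₗ[B]
          (P.X r ⧸ LinearMap.range (K.liftQ (P.d q r).hom hK)) :=
        Submodule.quotEquivOfEq _ _ (Submodule.range_liftQ K (P.d q r).hom hK).symm
      letI : Module A (P.X r ⧸ LinearMap.range (P.d q r).hom) := Module.compHom _ φ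
      haveI : IsScalarTower A B (P.X r ⧸ LinearMap.range (P.d q r).hom) :=
        IsScalarTower.of_algebraMap_smul fun _ _ => rfl
      exact Module.Flat.of_linearEquiv (e.restrictScalars A)
  refine ⟨fun i hi => (key (i - 1) i (i + 1) (by omega) rfl hi).1, ?_⟩
  have h2 := (key (a - 1 - 1) (a - 1) a (by omega) (by omega) (by omega)).2
  exact (Module.Flat.equiv_iff ((ModuleCat.restrictScalars.{u} φ).mapIso
    (((cokernelIsCokernel (P.d (a - 1) a)).coconePointUniqueUpToIso
      (P.opcyclesIsCokernel (a - 1) a (by simp))).symm ≪≫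
      ModuleCat.cokernelIsoRangeQuotient (P.d (a - 1) a))).toLinearEquiv).2 h2

/-- Amplitude from exactness and a flat cokernel. -/
theorem amp_of_flat_opcycles {Q : CochainComplex (ModuleCat.{u} A) ℤ} (hflat : ∀ n, Module.Flat A (Q.X n))
    {b : ℤ} (hb : ∀ n, b < n → IsZero (Q.X n)) (a : ℤ) (hex : ∀ i, i < a → Q.ExactAt i)
    (hC : Module.Flat A (Q.opcycles a)) :
    DRing.HasTorAmplitudeIn A a (max b a) (DerivedCategory.Q.obj Q) := by
  let emb := ComplexShape.embeddingUpIntGE a
  haveI : Q.IsGE a := (CochainComplex.isGE_iff Q a).2 hex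
  refine ⟨Q.truncGE a, fun i hi => ?_, fun i => ?_, ⟨(asIso (DerivedCategory.Q.map (Q.πTruncGE a))).symm⟩⟩
  · rcases lt_or_ge i a with hia | hia
    · exact CochainComplex.isZero_of_isStrictlyGE _ a i hia
    obtain ⟨n, rfl⟩ : ∃ n : ℕ, a + n = i := ⟨(i - a).toNat, by omega⟩
    have hn : 0 < n := by rcases hi with hi | hi <;> omega
    exact (hb _ (by omega)).of_iso (HomologicalComplex.truncGEXIso Q emb (i := n) rfl
      (fun hb => by have := (ComplexShape.boundaryGE_embeddingUpIntGE_iff a n).1 hb; omega))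
  · rcases lt_or_ge i a with hia | hia
    · haveI := ModuleCat.subsingleton_of_isZero (CochainComplex.isZero_of_isStrictlyGE (Q.truncGE a) a i hia)
      infer_instance
    obtain ⟨n, rfl⟩ : ∃ n : ℕ, a + n = i := ⟨(i - a).toNat, by omega⟩
    rcases Nat.eq_zero_or_pos n with rfl | hn
    · have hf : Module.Flat A (Q.opcycles (a + (0 : ℕ))) := by rw [Nat.cast_zero, add_zero]; exact hC
      exact (Module.Flat.equiv_iff (HomologicalComplex.truncGEXIsoOpcycles Q emb (i := 0) rfl
        ((ComplexShape.boundaryGE_embeddingUpIntGE_iff a 0).2 rfl)).toLinearEquiv).2 hf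
    · exact (Module.Flat.equiv_iff (HomologicalComplex.truncGEXIso Q emb (i := n) rfl
        (fun hb => by have := (ComplexShape.boundaryGE_embeddingUpIntGE_iff a n).1 hb; omega)).toLinearEquiv).2
          (hflat _)

section Fibre

variable {A₁ : Type u} [CommRing A₁] [IsLocalRing A] [IsLocalRing A₁] (β : A →+* A₁)

/-- The residue field of the quotient, as a module. -/
abbrev resMod (A₁ : Type u) [CommRing A₁] [IsLocalRing A₁] : ModuleCat.{u} A₁ :=
  ModuleCat.of A₁ (A₁ ⧸ IsLocalRing.maximalIdeal A₁)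

/-- `M ⟶ A₁ ⊗ M`, typed over `A₁`. -/
noncomputable def η (M : ModuleCat.{u} A) (x : M) : ((ModuleCat.extendScalars.{u, u, u} β).obj M : Type u) :=
  ((ModuleCat.extendRestrictScalarsAdj β).unit.app M).hom x

omit [IsLocalRing A] [IsLocalRing A₁] in
lemma η_add (M : ModuleCat.{u} A) (x y : M) : η β M (x + y) = η β M x + η β M y :=
  map_add ((ModuleCat.extendRestrictScalarsAdj β).unit.app M).hom x y

omit [IsLocalRing A] [IsLocalRing A₁] in
lemma η_smul (M : ModuleCat.{u} A) (r : A) (x : M) : η β M (r • x) = β r • η β M x :=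
  map_smul ((ModuleCat.extendRestrictScalarsAdj β).unit.app M).hom r x

omit [IsLocalRing A] [IsLocalRing A₁] in
lemma η_zero (M : ModuleCat.{u} A) : η β M 0 = 0 :=
  map_zero ((ModuleCat.extendRestrictScalarsAdj β).unit.app M).hom

omit [IsLocalRing A] [IsLocalRing A₁] in
lemma η_natural {M N : ModuleCat.{u} A} (f : M ⟶ N) (x : M) :
    η β N (f.hom x) = ((ModuleCat.extendScalars.{u, u, u} β).map f).hom (η β M x) :=
  congrArg (fun g => g.hom x) ((ModuleCat.extendRestrictScalarsAdj β).unit.naturality f)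

omit [IsLocalRing A] [IsLocalRing A₁] in
lemma η_surjective (hβ : Function.Surjective β) (M : ModuleCat.{u} A) : Function.Surjective (η β M) :=
  unit_surjective β hβ M

/-- The kernel of `M ⟶ (A₁ ⊗ M) ⊗ k` for surjective `A ⟶ A₁`. -/
lemma mem_max_smul_of_red_eq_zero (hβ : Function.Surjective β) (M : ModuleCat.{u} A) (t : M)
    (h : η β M t ⊗ₜ[A₁] (Ideal.Quotient.mk (IsLocalRing.maximalIdeal A₁) 1) = 0) :
    t ∈ IsLocalRing.maximalIdeal A • (⊤ : Submodule A M) := by
  haveI : IsLocalHom β := hβ.isLocalHom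
  let N := (ModuleCat.extendScalars.{u, u, u} β).obj M
  have h1 : η β M t ∈ IsLocalRing.maximalIdeal A₁ • (⊤ : Submodule A₁ N) := by
    have h2 := congrArg (TensorProduct.tensorQuotEquivQuotSMul (M := N) (IsLocalRing.maximalIdeal A₁)) h
    rw [map_zero, TensorProduct.tensorQuotEquivQuotSMul_tmul_mk, one_smul] at h2
    exact (Submodule.Quotient.mk_eq_zero _).1 h2
  obtain ⟨s, hs, hst⟩ : ∃ s ∈ IsLocalRing.maximalIdeal A • (⊤ : Submodule A M), η β M s = η β M t := by
    refine Submodule.smul_induction_on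
      (p := fun q : N => ∃ s ∈ IsLocalRing.maximalIdeal A • (⊤ : Submodule A M), η β M s = q) h1
      (fun c hc q _ => ?_) ?_
    · obtain ⟨r, rfl⟩ := hβ c
      obtain ⟨x, rfl⟩ := η_surjective β hβ M q
      exact ⟨r • x, Submodule.smul_mem_smul
        (IsLocalRing.mem_maximalIdeal _ |>.2 fun hr => (IsLocalRing.mem_maximalIdeal _).1 hc (hr.map β))
        Submodule.mem_top, η_smul β M r x⟩
    · rintro _ _ ⟨x, hx, rfl⟩ ⟨y, hy, rfl⟩
      exact ⟨x + y, add_mem hx hy, η_add β M x y⟩
  have h3 := mem_smul_of_unit_eq_zero β hβ M (t - s)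
    ((map_sub ((ModuleCat.extendRestrictScalarsAdj β).unit.app M).hom t s).trans (sub_eq_zero.2 hst.symm))
  have h4 : RingHom.ker β ≤ IsLocalRing.maximalIdeal A :=
    IsLocalRing.le_maximalIdeal (RingHom.ker_ne_top β)
  have h5 := add_mem (Submodule.smul_mono_left h4 h3) hs
  rwa [sub_add_cancel] at h5

/-- Exactness of the closed fibre in elements. -/
theorem exists_sub_mem_of_exact_fibre (hβ : Function.Surjective β) (Q : CochainComplex (ModuleCat.{u} A) ℤ)
    (p q r : ℤ) (hpq : p + 1 = q) (hqr : q + 1 = r)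
    (h : ((tensC (resMod A₁)).obj ((extC' β).obj Q)).ExactAt q) (z : Q.X q)
    (hz : (Q.d q r).hom z ∈ IsLocalRing.maximalIdeal A • (⊤ : Submodule A (Q.X r))) :
    ∃ w : Q.X p, z - (Q.d p q).hom w ∈ IsLocalRing.maximalIdeal A • (⊤ : Submodule A (Q.X q)) := by
  haveI : IsLocalHom β := hβ.isLocalHom
  let π : ∀ n, Q.X n →+ (((ModuleCat.extendScalars.{u, u, u} β).obj (Q.X n) : Type u) ⊗[A₁]
      (A₁ ⧸ IsLocalRing.maximalIdeal A₁)) := fun n =>
    { toFun := fun x => η β (Q.X n) x ⊗ₜ[A₁] Ideal.Quotient.mk _ 1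
      map_zero' := by rw [η_zero]; exact TensorProduct.zero_tmul _ _
      map_add' := fun x y => by rw [η_add]; exact TensorProduct.add_tmul _ _ _ }
  have hπsmul : ∀ n (c : A) (x : Q.X n), π n (c • x) = β c • π n x := fun n c x => by
    show η β (Q.X n) (c • x) ⊗ₜ[A₁] _ = β c • (η β (Q.X n) x ⊗ₜ[A₁] _)
    rw [η_smul, TensorProduct.smul_tmul']
  have hπ0 : π r ((Q.d q r).hom z) = 0 := by
    refine Submodule.smul_induction_on (p := fun y : Q.X r => π r y = 0) hz (fun c hc x _ => ?_)
      (fun x y hx hy => by rw [map_add, hx, hy, add_zero])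
    have hc' : β c ∈ IsLocalRing.maximalIdeal A₁ := fun hu => hc ((isUnit_map_iff β c).1 hu)
    rw [hπsmul]
    show β c • (η β (Q.X r) x ⊗ₜ[A₁] _) = 0
    rw [← TensorProduct.tmul_smul, show β c • (Ideal.Quotient.mk (IsLocalRing.maximalIdeal A₁) (1 : A₁)) =
      Ideal.Quotient.mk (IsLocalRing.maximalIdeal A₁) (β c * 1) from rfl, mul_one,
      Ideal.Quotient.eq_zero_iff_mem.2 hc', TensorProduct.tmul_zero]
  have hπd : ∀ m n (x : Q.X m), π n ((Q.d m n).hom x) =
      ((((tensC (resMod A₁)).obj ((extC' β).obj Q)).d m n).hom) (π m x) := fun m n x => by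
    exact congrArg (fun y : ((ModuleCat.extendScalars.{u, u, u} β).obj (Q.X n) : Type u) =>
      y ⊗ₜ[A₁] (Ideal.Quotient.mk (IsLocalRing.maximalIdeal A₁) (1 : A₁))) (η_natural β (Q.d m n) x)
  have hπsurj : ∀ n, Function.Surjective (π n) := fun n y => by
    induction y using TensorProduct.induction_on with
    | zero => exact ⟨0, map_zero _⟩
    | tmul v c =>
      obtain ⟨c, rfl⟩ := Ideal.Quotient.mk_surjective c
      obtain ⟨c, rfl⟩ := hβ c
      obtain ⟨x, rfl⟩ := η_surjective β hβ (Q.X n) v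
      refine ⟨c • x, ?_⟩
      rw [hπsmul]
      show β c • (η β (Q.X n) x ⊗ₜ[A₁] _) = _
      rw [← TensorProduct.tmul_smul]
      congr 1
      show Ideal.Quotient.mk _ (β c * 1) = _
      rw [mul_one]
    | add x y hx hy =>
      obtain ⟨x, rfl⟩ := hx
      obtain ⟨y, rfl⟩ := hy
      exact ⟨x + y, map_add _ _ _⟩
  rw [HomologicalComplex.exactAt_iff' _ p q r (by simp; omega) (by simp; omega),
    ShortComplex.moduleCat_exact_iff] at h
  obtain ⟨y, hy⟩ := h (π q z) ((hπd q r z).symm.trans hπ0)
  obtain ⟨w, rfl⟩ := hπsurj p y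
  refine ⟨w, mem_max_smul_of_red_eq_zero β hβ (Q.X q) _ ?_⟩
  show π q (z - (Q.d p q).hom w) = 0
  rw [map_sub, hπd]
  exact sub_eq_zero.2 hy.symm

end Fibre

end Groth.Agent.RelPC17.JacRing
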