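import Groth.Agent.RelPC17.Closed
import Groth.Agent.H9Misc.DRingRelPC3
import Groth.Agent.KFlatLib.Scheme.TildePush
import Groth.Agent.KFlatLib.Scheme.TildePC
import Groth.Agent.QCoh.Tilde
import Groth.Agent.S1004

/-!
# Closed immersions of affine schemes with pseudo-coherent structure sheaf
-/

set_option autoImplicit false
set_option linter.style.haveILetI false
set_option backward.isDefEq.respectTransparency false
set_option backward.isDefEq.respectTransparency.types false

universe u

open CategoryTheory CategoryTheory.Limits AlgebraicGeometry

attribute [local instance] HasDerivedCategory.standard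

namespace Groth.Agent.RelPC17

open KFlatLib H9Misc.DRingRelPC

/-- A surjection of rings with pseudo-coherent target gives a closed immersion with pseudo-coherent
structure sheaf. -/
theorem pcImm_specMap {A B : CommRingCat.{u}} (g : A ⟶ B) [IsClosedImmersion (Spec.map g)]
    (hg : PCHom g.hom) : PCImm (Spec.map g) := fun m => by
  haveI : PreservesFiniteLimits (tilde.functor A) := QCoh.tilde_preservesFiniteLimits
  haveI : PreservesFiniteColimits (tilde.functor A) := QCoh.tilde_preservesFiniteColimits
  haveI : (tilde.functor A).Additive := tilde_additive _
  let N := (ModuleCat.restrictScalars.{u} g.hom).obj (ModuleCat.of B B)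
  let e : DCoh.inD (Spec A) ((Scheme.Modules.pushforward (Spec.map g)).obj (Coh.structureModule (Spec B))) ≅
      (DCoh.tildeD A).obj (Dual.inD A N) :=
    (DerivedCategory.singleFunctor (Spec A).Modules 0).mapIso
        ((Scheme.Modules.pushforward (Spec.map g)).mapIso tildeSelf.symm ≪≫ (pushTildeIso g).app _) ≪≫
      (((tilde.functor A).mapDerivedCategorySingleFunctor 0).app N).symm
  refine ((isPseudoCoherentD_iff _ _).1 ((Groth.Agent.S1004.result A _ m).2 ?_)).of_iso e.symm
  exact (H9Misc.DRingPC.pc'_iff _).1 hg m

end Groth.Agent.RelPC17
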