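import Groth.Agent.S0002
import Groth.Agent.H23.SecRep
import Groth.Agent.QCoh.CechMap
import Mathlib.RingTheory.Noetherian.Basic

/-!
# Almost compatible families of functions on a proper scheme

If the differences of a family of functions on the members of an affine cover are divisible by a high
power of a scalar, the family agrees with a global function up to a slightly lower power.
-/

set_option autoImplicit false
set_option linter.style.haveILetI false
set_option backward.isDefEq.respectTransparency false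
set_option backward.isDefEq.respectTransparency.types false

universe u

open CategoryTheory CategoryTheory.Limits AlgebraicGeometry TopologicalSpace Opposite

namespace Groth.Agent.RelPC17.CechBound

/-- Torsion in a Noetherian module has bounded exponent. -/
theorem exists_torsion_bound {R M : Type*} [CommRing R] [AddCommGroup M] [Module R M] [IsNoetherian R M]
    (x : R) : ∃ t : ℕ, ∀ (k : ℕ) (m : M), x ^ k • m = 0 → x ^ t • m = 0 := by
  let K : ℕ →o Submodule R M := ⟨fun k => LinearMap.ker (x ^ k • (LinearMap.id : M →ₗ[R] M)), by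
    intro a b hab m hm
    simp only [LinearMap.mem_ker, LinearMap.smul_apply, LinearMap.id_apply] at hm ⊢
    obtain ⟨d, rfl⟩ := Nat.exists_eq_add_of_le hab
    rw [pow_add, mul_comm, mul_smul, hm, smul_zero]⟩
  obtain ⟨t, ht⟩ := monotone_stabilizes_iff_noetherian.mpr ‹_› K
  refine ⟨t, fun k m hm => ?_⟩
  have h1 : m ∈ K (max t k) := K.monotone (le_max_right t k) (show m ∈ K k by
    show (x ^ k • (LinearMap.id : M →ₗ[R] M)) m = 0
    simpa using hm)
  rw [← ht (max t k) (le_max_left t k)] at h1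
  have h2 : (x ^ t • (LinearMap.id : M →ₗ[R] M)) m = 0 := h1
  simpa using h2

/-- The algebra behind the bound. -/
theorem exists_cobound {R K₀ K₁ K₂ : Type*} [CommRing R] [IsNoetherianRing R] [AddCommGroup K₀]
    [AddCommGroup K₁] [AddCommGroup K₂] [Module R K₀] [Module R K₁] [Module R K₂] (x : R)
    (f : K₀ →ₗ[R] K₁) (g : K₁ →ₗ[R] K₂) (hfg : ∀ a, f a ∈ LinearMap.ker g)
    [Module.Finite R (LinearMap.ker g ⧸ LinearMap.range (f.codRestrict (LinearMap.ker g) hfg))]
    (t : ℕ) (ht : ∀ (k : ℕ) (z : K₂), x ^ k • z = 0 → x ^ t • z = 0) :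
    ∃ c : ℕ, ∀ (N : ℕ) (a : K₀) (b : K₁), c ≤ N → f a = x ^ N • b →
      ∃ u : K₀, f (a - x ^ (N - c) • u) = 0 := by
  obtain ⟨c₀, hc₀⟩ := exists_torsion_bound
    (M := LinearMap.ker g ⧸ LinearMap.range (f.codRestrict (LinearMap.ker g) hfg)) x
  refine ⟨t + c₀, fun N a b hN hab => ?_⟩
  have hgb : x ^ t • g b = 0 := ht N _ (by
    rw [← map_smul, ← hab]
    exact hfg a)
  let z : LinearMap.ker g := ⟨x ^ t • b, by rw [LinearMap.mem_ker, map_smul, hgb]⟩
  have hz : x ^ (N - t) • (Submodule.Quotient.mk z :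
      LinearMap.ker g ⧸ LinearMap.range (f.codRestrict (LinearMap.ker g) hfg)) = 0 := by
    rw [← Submodule.Quotient.mk_smul, Submodule.Quotient.mk_eq_zero]
    refine ⟨a, Subtype.ext ?_⟩
    show f a = x ^ (N - t) • x ^ t • b
    rw [smul_smul, ← pow_add, Nat.sub_add_cancel (by omega), hab]
  have hz' := hc₀ _ _ hz
  rw [← Submodule.Quotient.mk_smul, Submodule.Quotient.mk_eq_zero] at hz'
  obtain ⟨u, hu⟩ := hz'
  have hu' : f u = x ^ c₀ • x ^ t • b := congrArg Subtype.val hu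
  refine ⟨u, ?_⟩
  rw [map_sub, map_smul, hu', hab, smul_smul, smul_smul, ← pow_add, ← pow_add, sub_eq_zero]
  congr 2
  omega

variable {X : Scheme.{u}}

/-- Restriction of a global function. -/
noncomputable abbrev cr (c : Γ(X, ⊤)) (U : X.Opens) : Γ(X, U) :=
  X.presheaf.map (homOfLE (le_top : U ≤ ⊤)).op c

/-- Torsion with respect to `c` is killed by `c ^ t`, on all opens. -/
def TorBound (c : Γ(X, ⊤)) (t : ℕ) : Prop :=
  ∀ (V : X.Opens) (a : Γ(X, V)) (k : ℕ), cr c V ^ k * a = 0 → cr c V ^ t * a = 0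

theorem res_cr (c : Γ(X, ⊤)) {V W : X.Opens} (h : W ≤ V) :
    X.presheaf.map (homOfLE h).op (cr c V) = cr c W :=
  (QCoh.ringMap_map _ _ _).trans rfl

theorem res_cr_pow_mul (c : Γ(X, ⊤)) {V W : X.Opens} (h : W ≤ V) (k : ℕ) (a : Γ(X, V)) :
    X.presheaf.map (homOfLE h).op (cr c V ^ k * a) = cr c W ^ k * X.presheaf.map (homOfLE h).op a := by
  rw [map_mul, map_pow, res_cr]

theorem exists_torBound [IsLocallyNoetherian X] [CompactSpace X] (c : Γ(X, ⊤)) : ∃ t, TorBound c t := by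
  obtain ⟨S, hS, hcov⟩ := isCompact_iff_finite_and_eq_biUnion_affineOpens.mp
    (show IsCompact ((⊤ : X.Opens) : Set X) by rw [Opens.coe_top]; exact isCompact_univ)
  haveI := hS.to_subtype
  have key : ∀ U : S, ∃ t, ∀ (k : ℕ) (a : Γ(X, U.1.1)), cr c U.1.1 ^ k * a = 0 → cr c U.1.1 ^ t * a = 0 := by
    intro U
    haveI : IsNoetherianRing Γ(X, U.1.1) := IsLocallyNoetherian.component_noetherian U.1
    exact exists_torsion_bound (M := Γ(X, U.1.1)) (cr c U.1.1)
  choose t ht using key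
  haveI := Fintype.ofFinite S
  obtain ⟨t', ht'⟩ : ∃ t', t' = Finset.univ.sup t := ⟨_, rfl⟩
  refine ⟨t', fun V a k hk => ?_⟩
  refine QCoh.eq_zero_of_locally (M := Coh.structureModule X) V (cr c V ^ t' * a) fun p hp => ?_
  obtain ⟨U, hpU⟩ : ∃ U : S, p ∈ U.1.1 := by
    have hp' : p ∈ ((⊤ : X.Opens) : Set X) := trivial
    rw [hcov, Opens.coe_iSup, Set.mem_iUnion] at hp'
    obtain ⟨i, hi⟩ := hp'
    rw [Opens.coe_iSup, Set.mem_iUnion] at hi
    exact ⟨⟨i, hi.1⟩, hi.2⟩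
  obtain ⟨h, hle, hph⟩ := U.1.2.exists_basicOpen_le (V := V) ⟨p, hp⟩ hpU
  refine ⟨X.basicOpen h, homOfLE hle, hph, ?_⟩
  haveI := U.1.2.isLocalization_basicOpen h
  let b : Γ(X, X.basicOpen h) := X.presheaf.map (homOfLE hle).op a
  show X.presheaf.map (homOfLE hle).op (cr c V ^ t' * a) = 0
  have hb : cr c (X.basicOpen h) ^ k * b = 0 := by
    have := res_cr_pow_mul c hle k a
    rw [hk, map_zero] at this
    exact this.symm
  have hc' : algebraMap Γ(X, U.1.1) Γ(X, X.basicOpen h) (cr c U.1.1) = cr c (X.basicOpen h) :=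
    res_cr c (X.basicOpen_le h)
  obtain ⟨⟨α, ⟨_, m, rfl⟩⟩, hα⟩ := IsLocalization.surj (Submonoid.powers h) b
  have h1 : algebraMap Γ(X, U.1.1) Γ(X, X.basicOpen h) (cr c U.1.1 ^ k * α) = 0 := by
    rw [map_mul, map_pow, hc', ← hα, ← mul_assoc, hb, zero_mul]
  obtain ⟨⟨_, N, rfl⟩, hN⟩ := (IsLocalization.map_eq_zero_iff (Submonoid.powers h) _ _).1 h1
  have h2 : cr c U.1.1 ^ t U * (h ^ N * α) = 0 := ht U k _ (by rw [← hN]; ring)
  have h3 : cr c U.1.1 ^ t' * (h ^ N * α) = 0 := by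
    obtain ⟨d, hd⟩ := Nat.exists_eq_add_of_le (Finset.le_sup (f := t) (Finset.mem_univ U))
    rw [show t' = t U + d from ht'.trans hd, pow_add, mul_comm (cr c U.1.1 ^ t U), mul_assoc, h2, mul_zero]
  have h4 := congrArg (algebraMap Γ(X, U.1.1) Γ(X, X.basicOpen h)) h3
  rw [map_zero, map_mul, map_mul, map_pow, hc', ← hα, map_pow,
    show cr c (X.basicOpen h) ^ t' * (algebraMap Γ(X, U.1.1) Γ(X, X.basicOpen h) h ^ N *
      (b * algebraMap Γ(X, U.1.1) Γ(X, X.basicOpen h) (h ^ m))) =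
      algebraMap Γ(X, U.1.1) Γ(X, X.basicOpen h) (h ^ (N + m)) * (cr c (X.basicOpen h) ^ t' * b) by
        rw [map_pow, map_pow]; ring,
    (IsLocalization.map_units Γ(X, X.basicOpen h) (⟨h ^ (N + m), N + m, rfl⟩ : Submonoid.powers h)).mul_right_eq_zero] at h4
  rw [res_cr_pow_mul]
  exact h4

section Cech

variable {R : Type u} [CommRing R] [IsNoetherianRing R] (f : X ⟶ Spec (CommRingCat.of R)) [IsProper f]
  (ϖ : R) {ι : Type u} (U : ι → X.Opens)

set_option maxHeartbeats 2000000 in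
/-- **Almost compatible families of functions come from global functions.** -/
theorem exists_approx [Finite ι] (hcov : ⨆ i, U i = ⊤)
    (haff : ∀ {p : ℕ} (σ : Fin (p + 1) → ι), IsAffineOpen (⨅ a, U (σ a))) (t : ℕ)
    (ht : TorBound (Coh.toGlobal f ϖ) t) :
    ∃ c₀ : ℕ, ∀ (N : ℕ) (a : ∀ i, Γ(X, U i)), c₀ ≤ N →
      (∀ i j, cr (Coh.toGlobal f ϖ) (U i ⊓ U j) ^ N ∣
        X.presheaf.map (homOfLE (inf_le_right : U i ⊓ U j ≤ U j)).op (a j) -
          X.presheaf.map (homOfLE (inf_le_left : U i ⊓ U j ≤ U i)).op (a i)) →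
      ∃ g : Γ(X, ⊤), ∀ i, cr (Coh.toGlobal f ϖ) (U i) ^ (N - c₀) ∣ cr g (U i) - a i := by
  classical
  letI : X.Over (Spec (CommRingCat.of R)) := ⟨f⟩
  haveI : IsProper (X ↘ Spec (CommRingCat.of R)) := ‹IsProper f›
  haveI : IsLocallyNoetherian X := LocallyOfFiniteType.isLocallyNoetherian f
  let ρ : R →+* Coh.Γtop X := Coh.toGlobal f
  let M := Coh.structureModule X
  let K := QCoh.cxMod ρ U M
  have hM : Coh.IsCoh M := QCoh.isCoh_structureModule'
  obtain ⟨e⟩ := QCoh.cxMod_homology_equiv ρ U hcov haff hM.1 1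
  letI := QCoh.modHH ρ M 1
  haveI h1 : Module.Finite R (Coh.HH X M 1) := S0002.result R X M hM 1
  haveI : Module.Finite R (K.homology 1) := Module.Finite.equiv e.symm
  let S := K.sc' 0 1 2
  haveI : Module.Finite R S.homology :=
    Module.Finite.equiv (K.homologyIsoSc' 0 1 2 (by simp) (by simp)).toLinearEquiv
  haveI : Module.Finite R (LinearMap.ker S.g.hom ⧸ LinearMap.range S.moduleCatToCycles) :=
    Module.Finite.equiv S.moduleCatHomologyIso.toLinearEquiv
  have hfg : ∀ x, S.f.hom x ∈ LinearMap.ker S.g.hom := fun x => (S.moduleCatToCycles x).2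
  haveI : Module.Finite R (LinearMap.ker S.g.hom ⧸ LinearMap.range (S.f.hom.codRestrict _ hfg)) :=
    ‹Module.Finite R (LinearMap.ker S.g.hom ⧸ LinearMap.range S.moduleCatToCycles)›
  obtain ⟨c₀, hc₀⟩ := exists_cobound ϖ S.f.hom S.g.hom hfg t fun k z hz => by
    refine Subtype.ext (funext₂ fun σ W => ?_)
    have h := congrFun₂ (congrArg Subtype.val hz) σ W
    show X.presheaf.map (homOfLE (le_top : W.1 ≤ ⊤)).op (ρ (ϖ ^ t)) * _ = 0
    rw [map_pow, map_pow]
    refine ht W.1 _ k ?_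
    have h' : X.presheaf.map (homOfLE (le_top : W.1 ≤ ⊤)).op (ρ (ϖ ^ k)) * _ = 0 := h
    rw [map_pow, map_pow] at h'
    exact h'
  refine ⟨c₀, fun N a hN hdvd => ?_⟩
  choose b hb using hdvd
  let α : K.X 0 := ⟨fun σ W => X.presheaf.map (homOfLE (W.2 0)).op (a (σ 0)),
    fun σ W W' h h' i => QCoh.ringMap_map _ _ _⟩
  let β : K.X 1 := ⟨fun σ W => X.presheaf.map (homOfLE (le_inf (W.2 0) (W.2 1))).op (b (σ 0) (σ 1)),
    fun σ W W' h h' i => QCoh.ringMap_map _ _ _⟩
  have hαβ : S.f.hom α = ϖ ^ N • β := by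
    refine Subtype.ext (funext₂ fun σ W => ?_)
    refine (H23.SecRep.d_apply ρ U M α σ W).trans ?_
    show X.presheaf.map (homOfLE (W.2 ((0 : Fin 2).succAbove 0))).op (a (σ ((0 : Fin 2).succAbove 0))) -
        X.presheaf.map (homOfLE (W.2 ((1 : Fin 2).succAbove 0))).op (a (σ ((1 : Fin 2).succAbove 0))) =
      X.presheaf.map (homOfLE (le_top : W.1 ≤ ⊤)).op (ρ (ϖ ^ N)) *
        X.presheaf.map (homOfLE (le_inf (W.2 0) (W.2 1))).op (b (σ 0) (σ 1))
    have h := congrArg (X.presheaf.map (homOfLE (le_inf (W.2 0) (W.2 1))).op) (hb (σ 0) (σ 1))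
    rw [map_sub, res_cr_pow_mul, QCoh.ringMap_map, QCoh.ringMap_map] at h
    rw [map_pow, map_pow]
    exact h
  obtain ⟨u, hu⟩ := hc₀ N α β hN hαβ
  let u' : K.X 0 := u
  obtain ⟨g, hg⟩ := H23.SecRep.exists_glob ρ U M hcov (α - ϖ ^ (N - c₀) • u') hu
  refine ⟨g, fun i => ⟨-(show Γ(X, U i) from u'.1 (fun _ => i) ⟨U i, fun _ => le_rfl⟩), ?_⟩⟩
  have h := congrFun₂ (congrArg Subtype.val hg) (fun _ : Fin 1 => i) ⟨U i, fun _ => le_rfl⟩
  have h' : cr g (U i) = X.presheaf.map (homOfLE le_rfl).op (a i) -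
      X.presheaf.map (homOfLE (le_top : U i ≤ ⊤)).op (ρ (ϖ ^ (N - c₀))) *
        (show Γ(X, U i) from u'.1 (fun _ => i) ⟨U i, fun _ => le_rfl⟩) := h
  rw [h', map_pow, map_pow,
    show X.presheaf.map (homOfLE (le_refl (U i))).op (a i) = a i from QCoh.map_id' (M := M) _ _, mul_neg]
  ring

end Cech

end Groth.Agent.RelPC17.CechBound
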