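import Groth.Agent.RelPC17.Affine
import Mathlib.AlgebraicGeometry.AffineScheme
import Mathlib.RingTheory.MvPolynomial.Localization

/-!
# Charts for relative pseudo-coherence: independence, localisation, gluing
-/

set_option autoImplicit false
set_option linter.style.haveILetI false
set_option backward.isDefEq.respectTransparency false
set_option backward.isDefEq.respectTransparency.types false

universe u

open CategoryTheory CategoryTheory.Limits AlgebraicGeometry TopologicalSpace Opposite

attribute [local instance] HasDerivedCategory.standard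

namespace Groth.Agent.RelPC17

open KFlatLib H9Misc.DRingRelPC

variable {X Y : Scheme.{u}}

/-- The morphism of an open to an affine scheme given by a ring map into its sections. -/
noncomputable def imm (U : X.Opens) {P : Type u} [CommRing P] (γ : P →+* Γ(X, U)) :
    (U : Scheme.{u}) ⟶ Spec (CommRingCat.of P) :=
  U.toSpecΓ ≫ Spec.map (CommRingCat.ofHom γ)

lemma isIso_toSpecΓ {U : X.Opens} (hU : IsAffineOpen U) : IsIso U.toSpecΓ := by
  rw [← hU.isoSpec_hom]; infer_instance

lemma isClosedImmersion_imm {U : X.Opens} (hU : IsAffineOpen U) {P : Type u} [CommRing P]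
    {γ : P →+* Γ(X, U)} (hγ : Function.Surjective γ) : IsClosedImmersion (imm U γ) := by
  haveI := isIso_toSpecΓ hU
  haveI : IsClosedImmersion (Spec.map (CommRingCat.ofHom γ)) :=
    IsClosedImmersion.spec_of_surjective _ hγ
  exact inferInstanceAs (IsClosedImmersion (U.toSpecΓ ≫ Spec.map (CommRingCat.ofHom γ)))

/-- The pseudo-coherence test along a presentation. -/
def PCat (m : ℤ) (E : DCoh.D X) (U : X.Opens) {P : Type u} [CommRing P] (γ : P →+* Γ(X, U)) : Prop :=
  ∀ [IsClosedImmersion (imm U γ)], LocPC m ((pD (imm U γ)).obj ((rho U.ι).obj E))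

lemma chartPC_iff {U : X.Opens} (hU : IsAffineOpen U) {V : Y.Opens} {n : ℕ}
    {φ : MvPolynomial (Fin n) Γ(Y, V) →+* Γ(X, U)} (hφ : Function.Surjective φ) (m : ℤ) (E : DCoh.D X) :
    DerSch.ChartPC m E U V φ ↔ PCat m E U φ := by
  haveI := isClosedImmersion_imm hU hφ
  let e : ∀ G : CochainComplex X.Modules ℤ, (DCoh.toD X G ≅ E) →
      ((pD (imm U φ)).obj ((rho U.ι).obj E) ≅ DCoh.toD (Spec (CommRingCat.of (MvPolynomial (Fin n) Γ(Y, V))))
        ((DerSch.pushCx (DerSch.chartImm U φ)).obj ((DCoh.restrictCx U).obj G))) := fun G eG =>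
    (pD (imm U φ)).mapIso ((rho U.ι).mapIso eG.symm ≪≫ (rhoQ U.ι).app G) ≪≫ (pQ (imm U φ)).app _
  constructor
  · intro h _
    exact ((isPseudoCoherentD_iff _ _).1 (h (DerivedCategory.Q.objPreimage E) ⟨repIso E⟩)).of_iso
      (e _ (repIso E)).symm
  · intro h G ⟨eG⟩
    exact (isPseudoCoherentD_iff _ _).2 (LocPC.of_iso (e G eG) h)

lemma pcat_congr {m : ℤ} {E : DCoh.D X} {U : X.Opens} {P : Type u} [CommRing P]
    {γ γ' : P →+* Γ(X, U)} (h : γ = γ') : PCat m E U γ ↔ PCat m E U γ' := by rw [h]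

lemma pcat_of_iso {m : ℤ} {E E' : DCoh.D X} (e : E ≅ E') {U : X.Opens} {P : Type u} [CommRing P]
    {γ : P →+* Γ(X, U)} (h : PCat m E U γ) : PCat m E' U γ := by
  intro _
  exact LocPC.of_iso ((pD (imm U γ)).mapIso ((rho U.ι).mapIso e)) h

/-- Precomposing a presentation with a pseudo-coherent surjection. -/
theorem pcat_comp_iff {U : X.Opens} (hU : IsAffineOpen U) {P Q : Type u} [CommRing P] [CommRing Q]
    (σ : Q →+* P) (hσ : Function.Surjective σ) (hpc : PCHom σ) (γ : P →+* Γ(X, U))
    (hγ : Function.Surjective γ) (m : ℤ) (E : DCoh.D X) :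
    PCat m E U (γ.comp σ) ↔ PCat m E U γ := by
  haveI := isClosedImmersion_imm hU hγ
  haveI := isClosedImmersion_imm hU (γ := γ.comp σ) (hγ.comp hσ)
  haveI : IsClosedImmersion (Spec.map (CommRingCat.ofHom σ)) :=
    IsClosedImmersion.spec_of_surjective _ hσ
  have h : imm U γ ≫ Spec.map (CommRingCat.ofHom σ) = imm U (γ.comp σ) := by
    rw [imm, imm, Category.assoc, ← Spec.map_comp]; rfl
  have key := locPC_pD_iff (pcImm_specMap (CommRingCat.ofHom σ) hpc) m
    ((pD (imm U γ)).obj ((rho U.ι).obj E))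
  constructor
  · intro hh _
    exact key.1 (LocPC.of_iso (pDComp _ _ _ h _).symm hh)
  · intro hh _
    exact LocPC.of_iso (pDComp _ _ _ h _) (key.2 hh)

open MvPolynomial in
lemma eval₂_id_surjective {P : Type u} [CommRing P] {k : ℕ} (p : Fin k → P) :
    Function.Surjective (eval₂Hom (RingHom.id P) p) := fun a => ⟨MvPolynomial.C a, by simp⟩

/-- The test does not depend on the presentation. -/
theorem pcat_indep {U : X.Opens} (hU : IsAffineOpen U) {R : Type u} [CommRing R] {n k : ℕ}
    (φ : MvPolynomial (Fin n) R →+* Γ(X, U)) (hφ : Function.Surjective φ)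
    (ψ : MvPolynomial (Fin k) R →+* Γ(X, U)) (hψ : Function.Surjective ψ)
    (hc : φ.comp MvPolynomial.C = ψ.comp MvPolynomial.C) (m : ℤ) (E : DCoh.D X) :
    PCat m E U φ ↔ PCat m E U ψ := by
  choose p hp using fun j : Fin k => hφ (ψ (MvPolynomial.X j))
  choose q hq using fun i : Fin n => hψ (φ (MvPolynomial.X i))
  let a : MvPolynomial (Fin k) (MvPolynomial (Fin n) R) →+* MvPolynomial (Fin n) R :=
    MvPolynomial.eval₂Hom (RingHom.id _) p
  let σ := (MvPolynomial.commAlgEquiv R (Fin k) (Fin n)).toRingEquiv.toRingHom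
  let b : MvPolynomial (Fin k) (MvPolynomial (Fin n) R) →+* MvPolynomial (Fin k) R :=
    (MvPolynomial.eval₂Hom (RingHom.id _) q).comp σ
  have hb : PCHom b :=
    (PCHom.of_bijective (MvPolynomial.commAlgEquiv R (Fin k) (Fin n)).bijective).comp (pcHom_aeval n _ q)
  have hbs : Function.Surjective b :=
    (eval₂_id_surjective q).comp (MvPolynomial.commAlgEquiv R (Fin k) (Fin n)).surjective
  have hCr : ∀ r, φ (MvPolynomial.C r) = ψ (MvPolynomial.C r) := RingHom.congr_fun hc
  have heq : φ.comp a = ψ.comp b := by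
    refine MvPolynomial.ringHom_ext (fun r => ?_) fun j => ?_
    · show ((φ.comp a).comp MvPolynomial.C) r = ((ψ.comp b).comp MvPolynomial.C) r
      refine RingHom.congr_fun (MvPolynomial.ringHom_ext (fun s => ?_) fun i => ?_) r
      · simp [a, b, σ, hCr]
      · simp [a, b, σ, hq]
    · simp [a, b, σ, hp]
  rw [← pcat_comp_iff hU a (eval₂_id_surjective p) (pcHom_aeval k _ p) φ hφ,
    ← pcat_comp_iff hU b hbs hb ψ hψ]
  exact pcat_congr heq

/-- A presentation in two blocks of variables gives one in a single block. -/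
theorem exists_fin_chart {U : X.Opens} (hU : IsAffineOpen U) {R : Type u} [CommRing R] {l n : ℕ}
    (γ : MvPolynomial (Fin l) (MvPolynomial (Fin n) R) →+* Γ(X, U)) (hγ : Function.Surjective γ)
    (m : ℤ) (E : DCoh.D X) :
    ∃ φ : MvPolynomial (Fin (l + n)) R →+* Γ(X, U), Function.Surjective φ ∧
      (∀ r, φ (MvPolynomial.C r) = γ (MvPolynomial.C (MvPolynomial.C r))) ∧
      (PCat m E U φ ↔ PCat m E U γ) := by
  let e := (MvPolynomial.renameEquiv R finSumFinEquiv.symm).trans (MvPolynomial.sumAlgEquiv R (Fin l) (Fin n))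
  exact ⟨γ.comp e.toRingEquiv.toRingHom, hγ.comp e.surjective, fun r => by
      show γ (e (MvPolynomial.C r)) = _
      simp [e], pcat_comp_iff hU _ e.surjective (PCHom.of_bijective e.bijective) γ hγ m E⟩

/-- A principal localisation as a quotient of a polynomial ring in one variable. -/
theorem exists_away_section {P L : Type u} [CommRing P] [CommRing L] [Algebra P L] (G : P)
    [IsLocalization.Away G L] :
    ∃ σ : MvPolynomial (Fin 1) P →+* L, Function.Surjective σ ∧ PCHom σ ∧
      σ.comp MvPolynomial.C = algebraMap P L := by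
  let e := IsLocalization.algEquiv (Submonoid.powers G) (Localization.Away G) L
  let s := MvPolynomial.eval₂Hom (algebraMap P (Localization.Away G))
    (fun _ : Fin 1 => IsLocalization.Away.invSelf G)
  have hs : Function.Surjective s := fun z => by
    obtain ⟨k, a, ha⟩ := IsLocalization.Away.surj G z
    refine ⟨MvPolynomial.C a * MvPolynomial.X 0 ^ k, ?_⟩
    simp only [s, map_mul, map_pow, MvPolynomial.eval₂Hom_C, MvPolynomial.eval₂Hom_X']
    rw [← ha, mul_assoc, ← mul_pow, IsLocalization.Away.mul_invSelf, one_pow, mul_one]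
  refine ⟨e.toRingEquiv.toRingHom.comp s, e.surjective.comp hs,
    (pcHom_away_mv G).comp (PCHom.of_bijective e.bijective), RingHom.ext fun a => ?_⟩
  show e (s (MvPolynomial.C a)) = _
  simp [s]

/-- The restriction of sections. -/
noncomputable def res {U U' : X.Opens} (h : U' ≤ U) : Γ(X, U) →+* Γ(X, U') :=
  (X.presheaf.map (homOfLE h).op).hom

/-- The test on a principal open of a presentation. -/
theorem pcat_away_iff {U U' : X.Opens} (hU : IsAffineOpen U) (hU' : IsAffineOpen U') (hle : U' ≤ U)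
    {P L : Type u} [CommRing P] [CommRing L] [Algebra P L] (G : P) [IsLocalization.Away G L]
    (γ : P →+* Γ(X, U)) (hγ : Function.Surjective γ) (γ' : L →+* Γ(X, U')) (hγ' : Function.Surjective γ')
    (hc : γ'.comp (algebraMap P L) = (res hle).comp γ) (heq : U' = X.basicOpen (γ G))
    (m : ℤ) (E : DCoh.D X) [IsClosedImmersion (imm U γ)]
    [IsOpenImmersion (Spec.map (CommRingCat.ofHom (algebraMap P L)))] :
    PCat m E U' γ' ↔ LocPC m ((rho (Spec.map (CommRingCat.ofHom (algebraMap P L)))).obj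
      ((pD (imm U γ)).obj ((rho U.ι).obj E))) := by
  haveI := isClosedImmersion_imm hU' hγ'
  have hsq : X.homOfLE hle ≫ imm U γ = imm U' γ' ≫ Spec.map (CommRingCat.ofHom (algebraMap P L)) := by
    rw [imm, imm, ← Category.assoc, ← Scheme.Opens.toSpecΓ_SpecMap_presheaf_map, Category.assoc,
      Category.assoc, ← Spec.map_comp, ← Spec.map_comp]
    congr 2
    ext x
    exact (RingHom.congr_fun hc x).symm
  have hr : (X.homOfLE hle).opensRange =
      imm U γ ⁻¹ᵁ (Spec.map (CommRingCat.ofHom (algebraMap P L))).opensRange := by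
    have h1 : (Spec.map (CommRingCat.ofHom (algebraMap P L))).opensRange = PrimeSpectrum.basicOpen G :=
      Opens.ext (PrimeSpectrum.localization_away_comap_range L G)
    rw [h1, Scheme.opensRange_homOfLE, imm, Scheme.Hom.comp_preimage]
    change _ = U.toSpecΓ ⁻¹ᵁ PrimeSpectrum.basicOpen (γ G)
    rw [Scheme.Opens.toSpecΓ_preimage_basicOpen, ← heq]
  let e := rhoPD (imm U γ) (Spec.map (CommRingCat.ofHom (algebraMap P L))) (X.homOfLE hle) (imm U' γ')
    hsq hr ((rho U.ι).obj E) ≪≫
    (pD (imm U' γ')).mapIso (rhoComp (X.homOfLE hle) U.ι U'.ι (X.homOfLE_ι hle) E)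
  constructor
  · intro h
    exact LocPC.of_iso e.symm h
  · intro h _
    exact LocPC.of_iso e h

lemma res_le {U U' : X.Opens} {g : Γ(X, U)} (heq : U' = X.basicOpen g) : U' ≤ U :=
  heq ▸ X.basicOpen_le g

/-- The induced presentation on a principal open. -/
theorem exists_away_chart {U U' : X.Opens} (hU : IsAffineOpen U) {P : Type u}
    [CommRing P] {L : Type u} [CommRing L] [Algebra P L] (G : P) [IsLocalization.Away G L]
    (γ : P →+* Γ(X, U)) (hγ : Function.Surjective γ) (heq : U' = X.basicOpen (γ G)) :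
    ∃ γ' : L →+* Γ(X, U'), Function.Surjective γ' ∧
      γ'.comp (algebraMap P L) = (res (res_le heq)).comp γ := by
  subst heq
  letI : Algebra Γ(X, U) Γ(X, X.basicOpen (γ G)) := (res (X.basicOpen_le (γ G))).toAlgebra
  haveI : IsLocalization.Away (γ G) Γ(X, X.basicOpen (γ G)) := hU.isLocalization_basicOpen (γ G)
  have hu : IsUnit (((res (X.basicOpen_le (γ G))).comp γ) G) :=
    IsLocalization.Away.algebraMap_isUnit (γ G)
  refine ⟨IsLocalization.Away.lift G hu, fun z => ?_, IsLocalization.Away.lift_comp G hu⟩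
  obtain ⟨k, a, ha⟩ := IsLocalization.Away.surj (γ G) z
  obtain ⟨a, rfl⟩ := hγ a
  refine ⟨algebraMap P L a * IsLocalization.Away.invSelf G ^ k, ?_⟩
  have h1 : ∀ x, IsLocalization.Away.lift G hu (algebraMap P L x) = res (X.basicOpen_le (γ G)) (γ x) :=
    fun x => IsLocalization.Away.lift_eq G hu x
  refine (hu.pow k).mul_left_inj.1 ?_
  show _ = z * (algebraMap Γ(X, U) Γ(X, X.basicOpen (γ G)) (γ G)) ^ k
  rw [ha, map_mul, map_pow, mul_assoc, ← mul_pow, RingHom.comp_apply, ← h1 G, ← map_mul, mul_comm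
    (IsLocalization.Away.invSelf G), IsLocalization.Away.mul_invSelf, map_one, one_pow, mul_one, h1]
  rfl

/-- The test passes to principal opens. -/
theorem pcat_away {U U' : X.Opens} (hU : IsAffineOpen U) (hU' : IsAffineOpen U') (hle : U' ≤ U)
    {P L : Type u} [CommRing P] [CommRing L] [Algebra P L] (G : P) [IsLocalization.Away G L]
    (γ : P →+* Γ(X, U)) (hγ : Function.Surjective γ) (γ' : L →+* Γ(X, U')) (hγ' : Function.Surjective γ')
    (hc : γ'.comp (algebraMap P L) = (res hle).comp γ) (heq : U' = X.basicOpen (γ G))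
    {m : ℤ} {E : DCoh.D X} (h : PCat m E U γ) : PCat m E U' γ' := by
  haveI := isClosedImmersion_imm hU hγ
  haveI := IsOpenImmersion.of_isLocalization (R := P) (S := L) G
  intro _
  exact (pcat_away_iff hU hU' hle G γ hγ γ' hγ' hc heq m E).2 (LocPC.restrict h _)

/-- The test is local for principal opens which cover. -/
theorem pcat_of_cover {U : X.Opens} (hU : IsAffineOpen U) {P : Type u} [CommRing P]
    (γ : P →+* Γ(X, U)) (hγ : Function.Surjective γ) {ι : Type*} (G : ι → P)
    (hG : Ideal.span (Set.range (γ ∘ G)) = ⊤) (m : ℤ) (E : DCoh.D X)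
    (h : ∀ j, ∀ γ' : Localization.Away (G j) →+* Γ(X, X.basicOpen (γ (G j))), Function.Surjective γ' →
      γ'.comp (algebraMap P _) = (res (X.basicOpen_le (γ (G j)))).comp γ →
      PCat m E (X.basicOpen (γ (G j))) γ') : PCat m E U γ := by
  intro _
  refine LocPC.of_local fun p => ?_
  by_cases hp : p ∈ Set.range (imm U γ)
  · obtain ⟨u, rfl⟩ := hp
    have hcov := hU.iSup_basicOpen_eq_self_iff.2 hG
    have hu := (SetLike.ext_iff.1 hcov u.1).2 u.2
    obtain ⟨⟨_, j, rfl⟩, hj⟩ := Opens.mem_iSup.1 hu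
    let L := Localization.Away (G j)
    haveI := IsOpenImmersion.of_isLocalization (R := P) (S := L) (G j)
    obtain ⟨γ', hγ', hc⟩ := exists_away_chart (U' := X.basicOpen (γ (G j))) hU (L := L) (G j) γ hγ rfl
    refine ⟨_, Spec.map (CommRingCat.ofHom (algebraMap P L)), inferInstance, ?_,
      (pcat_away_iff hU (hU.basicOpen _) (X.basicOpen_le _) (G j) γ hγ γ' hγ' hc rfl m E).1
        (h j γ' hγ' hc)⟩
    show imm U γ u ∈ Set.range (PrimeSpectrum.comap (algebraMap P L))
    rw [PrimeSpectrum.localization_away_comap_range L (G j)]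
    show u ∈ imm U γ ⁻¹ᵁ PrimeSpectrum.basicOpen (G j)
    rw [imm, Scheme.Hom.comp_preimage]
    change u ∈ U.toSpecΓ ⁻¹ᵁ PrimeSpectrum.basicOpen (γ (G j))
    rw [Scheme.Opens.toSpecΓ_preimage_basicOpen]
    exact hj
  · exact locPC_rho_compl _ hp _ m

/-- From a presentation on an affine open to one on a principal open. -/
theorem exists_chart_basicOpen {U : X.Opens} (hU : IsAffineOpen U) {R : Type u} [CommRing R] {n : ℕ}
    (φ : MvPolynomial (Fin n) R →+* Γ(X, U)) (hφ : Function.Surjective φ) (g : Γ(X, U))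
    {m : ℤ} {E : DCoh.D X} (h : PCat m E U φ) :
    ∃ (k : ℕ) (ψ : MvPolynomial (Fin k) R →+* Γ(X, X.basicOpen g)), Function.Surjective ψ ∧
      ψ.comp MvPolynomial.C = (res (X.basicOpen_le g)).comp (φ.comp MvPolynomial.C) ∧
      PCat m E (X.basicOpen g) ψ := by
  obtain ⟨G, rfl⟩ := hφ g
  let L := Localization.Away G
  obtain ⟨γ', hγ', hc⟩ := exists_away_chart (U' := X.basicOpen (φ G)) hU (L := L) G φ hφ rfl
  obtain ⟨σ, hσ, hσpc, hσC⟩ := exists_away_section (L := L) G
  have hU' := hU.basicOpen (φ G)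
  obtain ⟨ψ, hψ, hψC, hiff⟩ := exists_fin_chart hU' (γ'.comp σ) (hγ'.comp hσ) m E
  refine ⟨_, ψ, hψ, RingHom.ext fun r => ?_, hiff.2 ((pcat_comp_iff hU' σ hσ hσpc γ' hγ' m E).2
    (pcat_away hU hU' (X.basicOpen_le _) G φ hφ γ' hγ' hc rfl h))⟩
  rw [RingHom.comp_apply, hψC, RingHom.comp_apply, ← RingHom.comp_apply σ, hσC]
  exact RingHom.congr_fun hc _

section Base

attribute [local instance] MvPolynomial.algebraMvPolynomial

variable {R R' : Type u} [CommRing R] [CommRing R'] [Algebra R R'] (r : R) [IsLocalization.Away r R']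

lemma isLocalization_mvPolynomial (n : ℕ) :
    IsLocalization.Away (MvPolynomial.C r : MvPolynomial (Fin n) R) (MvPolynomial (Fin n) R') := by
  have h : (Submonoid.powers r).map (MvPolynomial.C (σ := Fin n) (R := R)) =
      Submonoid.powers (MvPolynomial.C r) := Submonoid.map_powers _ _
  rw [IsLocalization.Away, ← h]
  infer_instance

include r in
/-- From a base principal open to the base. -/
theorem exists_chart_base {U : X.Opens} (hU : IsAffineOpen U) {n : ℕ}
    (φ : MvPolynomial (Fin n) R' →+* Γ(X, U)) (hφ : Function.Surjective φ)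
    {m : ℤ} {E : DCoh.D X} (h : PCat m E U φ) :
    ∃ (k : ℕ) (ψ : MvPolynomial (Fin k) R →+* Γ(X, U)), Function.Surjective ψ ∧
      ψ.comp MvPolynomial.C = (φ.comp MvPolynomial.C).comp (algebraMap R R') ∧ PCat m E U ψ := by
  haveI := isLocalization_mvPolynomial (R' := R') r n
  obtain ⟨σ, hσ, hσpc, hσC⟩ :=
    exists_away_section (L := MvPolynomial (Fin n) R') (MvPolynomial.C r : MvPolynomial (Fin n) R)
  obtain ⟨ψ, hψ, hψC, hiff⟩ := exists_fin_chart hU (φ.comp σ) (hφ.comp hσ) m E
  refine ⟨_, ψ, hψ, RingHom.ext fun a => ?_, hiff.2 ((pcat_comp_iff hU σ hσ hσpc φ hφ m E).2 h)⟩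
  rw [RingHom.comp_apply, hψC, RingHom.comp_apply, ← RingHom.comp_apply σ, hσC,
    MvPolynomial.algebraMap_def, MvPolynomial.map_C]
  rfl

include r in
/-- From the base to a base principal open. -/
theorem exists_chart_base_away {U : X.Opens} (hU : IsAffineOpen U) {n : ℕ}
    (φ : MvPolynomial (Fin n) R →+* Γ(X, U)) (hφ : Function.Surjective φ) (c : R' →+* Γ(X, U))
    (hc : c.comp (algebraMap R R') = φ.comp MvPolynomial.C)
    {m : ℤ} {E : DCoh.D X} (h : PCat m E U φ) :
    ∃ ψ : MvPolynomial (Fin n) R' →+* Γ(X, U), Function.Surjective ψ ∧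
      ψ.comp MvPolynomial.C = c ∧ PCat m E U ψ := by
  haveI := isLocalization_mvPolynomial (R' := R') r n
  let ψ : MvPolynomial (Fin n) R' →+* Γ(X, U) := MvPolynomial.eval₂Hom c fun i => φ (MvPolynomial.X i)
  have hcomp : ψ.comp (algebraMap (MvPolynomial (Fin n) R) (MvPolynomial (Fin n) R')) = φ := by
    refine MvPolynomial.ringHom_ext (fun a => ?_) fun i => ?_
    · rw [RingHom.comp_apply, MvPolynomial.algebraMap_def, MvPolynomial.map_C, MvPolynomial.eval₂Hom_C]
      exact RingHom.congr_fun hc a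
    · rw [RingHom.comp_apply, MvPolynomial.algebraMap_def, MvPolynomial.map_X, MvPolynomial.eval₂Hom_X']
  have hψ : Function.Surjective ψ := fun z => by
    obtain ⟨a, rfl⟩ := hφ z
    exact ⟨_, RingHom.congr_fun hcomp a⟩
  have hunit : IsUnit (φ (MvPolynomial.C r)) := by
    rw [← RingHom.comp_apply φ, ← hc]
    exact (IsLocalization.Away.algebraMap_isUnit r).map c
  refine ⟨ψ, hψ, RingHom.ext fun a => by simp [ψ],
    pcat_away hU hU le_rfl (MvPolynomial.C r) φ hφ ψ hψ (hcomp.trans ?_)
      (X.basicOpen_of_isUnit hunit).symm h⟩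
  refine RingHom.ext fun a => ?_
  simp [res]

end Base

end Groth.Agent.RelPC17
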