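import Groth.Agent.RelPC17.DimOne
import Mathlib.AlgebraicGeometry.ResidueField

/-!
# Vanishing of `H¹` of the structure sheaf from the fibres
-/

set_option autoImplicit false
set_option linter.style.haveILetI false
set_option linter.unusedSectionVars false
set_option backward.isDefEq.respectTransparency false
set_option backward.isDefEq.respectTransparency.types false
set_option maxHeartbeats 1000000

universe u

open CategoryTheory CategoryTheory.Limits AlgebraicGeometry TopologicalSpace Opposite TensorProduct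

noncomputable section

namespace Groth.Agent.RelPC17.DimOne

open Groth.Agent

variable {X Y : Scheme.{u}}

/-- The first cohomology of the structure sheaf vanishes at every field valued point above `y`. -/
def VanishAt (f : X ⟶ Y) (y : Y) : Prop :=
  ∀ (K : Type u) [Field K] (t : Spec (CommRingCat.of K) ⟶ Y), t (IsLocalRing.closedPoint K) = y →
    ∀ ⦃X' : Scheme.{u}⦄ (g' : X' ⟶ X) (f' : X' ⟶ Spec (CommRingCat.of K)), IsPullback g' f' f t →
      Subsingleton (Coh.HH X' (Coh.structureModule X') 1)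

/-- Vanishing on the fibre gives vanishing at every field valued point above it. -/
theorem vanishAt_of_fiber (f : X ⟶ Y) [IsProper f] (y : Y)
    (hdim : topologicalKrullDim ↥(f.fiber y) ≤ (1 : ℕ))
    (h : Subsingleton (Coh.HH (f.fiber y) (Coh.structureModule (f.fiber y)) 1)) : VanishAt f y := by
  intro K _ t ht X' g' f' hsq
  subst ht
  let y := t (IsLocalRing.closedPoint K)
  let s : Spec (CommRingCat.of K) ⟶ Spec (Y.residueField y) :=
    Spec.map (Y.descResidueField (Scheme.stalkClosedPointTo t))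
  have hs : s ≫ Y.fromSpecResidueField y = t :=
    Scheme.descResidueField_stalkClosedPointTo_fromSpecResidueField K Y t
  let F := f.fiber y
  have hF : IsPullback (f.fiberι y) (f.fiberToSpecResidueField y) f (Y.fromSpecResidueField y) :=
    IsPullback.of_hasPullback _ _
  let l : X' ⟶ F := hF.lift g' (f' ≫ s) (by rw [hsq.w, Category.assoc, hs])
  have hl : IsPullback l f' (f.fiberToSpecResidueField y) s :=
    IsPullback.of_right (by rw [hF.lift_fst, hs]; exact hsq) (hF.lift_snd _ _ _) hF
  haveI : IsProper (f.fiberToSpecResidueField y) := MorphismProperty.of_isPullback hF ‹IsProper f›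
  refine subsingleton_baseChange (f.fiberToSpecResidueField y) (fun z => ?_) h s l f' hl
  rw [FlatMisc.ApproxDim.fibre_dim_baseChange hF z]
  have : Y.fromSpecResidueField y z = y := Scheme.fromSpecResidueField_apply _ _
  rw [this]
  exact hdim

/-- Field valued vanishing is stable under base change. -/
theorem VanishAt.baseChange {f : X ⟶ Y} {X' Y' : Scheme.{u}} {g : Y' ⟶ Y} {g' : X' ⟶ X} {f' : X' ⟶ Y'}
    (hsq : IsPullback g' f' f g) {y' : Y'} (h : VanishAt f (g y')) : VanishAt f' y' := by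
  intro K _ t ht X'' g'' f'' hsq'
  exact h K (t ≫ g) (by rw [Scheme.Hom.comp_apply, ht]) (g'' ≫ g') f'' (hsq'.paste_horiz hsq)

variable {A : Type u} [CommRing A]

/-- A module with `H = 𝔪 H` at the point of a maximal ideal. -/
theorem top_le_smul [X.Over (Spec (CommRingCat.of A))] [IsProper (X ↘ Spec (CommRingCat.of A))]
    (hd : ∀ y, topologicalKrullDim ↥((X ↘ Spec (CommRingCat.of A)).fiber y) ≤ (1 : ℕ))
    (m : Ideal A) [hm : m.IsMaximal]
    (hv : VanishAt (X ↘ Spec (CommRingCat.of A)) (⟨m, hm.isPrime⟩ : PrimeSpectrum A)) :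
    (⊤ : Submodule A (Coh.HH X (Coh.structureModule X) 1)) ≤ m • ⊤ := by
  intro x _
  letI := Ideal.Quotient.field m
  let χ : A →+* A ⧸ m := Ideal.Quotient.mk m
  have hpt : Spec.map (CommRingCat.ofHom χ) (IsLocalRing.closedPoint (A ⧸ m)) =
      (⟨m, hm.isPrime⟩ : PrimeSpectrum A) := by
    refine PrimeSpectrum.ext ?_
    show Ideal.comap χ (IsLocalRing.closedPoint (A ⧸ m)).asIdeal = m
    rw [show (IsLocalRing.closedPoint (A ⧸ m)).asIdeal = ⊥ from IsLocalRing.maximalIdeal_eq_bot,
      ← RingHom.ker_eq_comap_bot, Ideal.mk_ker]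
  have h := mem_smul_top hd χ Ideal.Quotient.mk_surjective _ _
    (IsPullback.of_hasPullback (X ↘ Spec (CommRingCat.of A)) (Spec.map (CommRingCat.ofHom χ)))
    (hv (A ⧸ m) _ hpt _ _ (IsPullback.of_hasPullback _ _)) x
  rwa [Ideal.mk_ker] at h

theorem isFT_structureModule (X : Scheme.{u}) : CohB1.IsFT (Coh.structureModule X) :=
  (QCoh.isCoh_iff.2 ⟨QCoh.isQCoh_structureModule, fun W =>
    (inferInstance : Module.Finite Γ(X, W.1) Γ(X, W.1))⟩).2

/-- Over a ring, vanishing on the fibres gives vanishing. -/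
theorem subsingleton_HH_Spec [X.Over (Spec (CommRingCat.of A))] [IsProper (X ↘ Spec (CommRingCat.of A))]
    (hd : ∀ y, topologicalKrullDim ↥((X ↘ Spec (CommRingCat.of A)).fiber y) ≤ (1 : ℕ))
    (hv : ∀ y, VanishAt (X ↘ Spec (CommRingCat.of A)) y) :
    Subsingleton (Coh.HH X (Coh.structureModule X) 1) := by
  haveI := TopDegree.finite_HH_top (A := A) 1 hd (M := Coh.structureModule X)
    QCoh.isQCoh_structureModule (isFT_structureModule X)
  let H := Coh.HH X (Coh.structureModule X) 1
  have hann : (⊤ : Submodule A H).annihilator = ⊤ := by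
    by_contra hne
    obtain ⟨m, hm, hle⟩ := Ideal.exists_le_maximal _ hne
    haveI := hm
    obtain ⟨r, hr, hr0⟩ := Submodule.exists_sub_one_mem_and_smul_eq_zero_of_fg_of_le_smul m
      (⊤ : Submodule A H) Module.Finite.fg_top (top_le_smul hd m (hv _))
    have hrm : r ∈ m := hle (Submodule.mem_annihilator.2 hr0)
    exact hm.ne_top ((Ideal.eq_top_iff_one m).2 (by simpa using m.sub_mem hrm hr))
  refine subsingleton_of_forall_eq 0 fun x => ?_
  have h1 : (1 : A) ∈ (⊤ : Submodule A H).annihilator := hann ▸ trivial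
  simpa using Submodule.mem_annihilator.1 h1 x trivial

/-- Over an affine base, vanishing on the fibres gives vanishing. -/
theorem subsingleton_HH_affine (f : X ⟶ Y) [IsProper f] [IsAffine Y]
    (hd : ∀ y : Y, topologicalKrullDim ↥(f.fiber y) ≤ (1 : ℕ)) (hv : ∀ y : Y, VanishAt f y) :
    Subsingleton (Coh.HH X (Coh.structureModule X) 1) := by
  letI : X.Over (Spec (CommRingCat.of Γ(Y, ⊤))) := ⟨f ≫ Y.isoSpec.hom⟩
  haveI : IsProper (X ↘ Spec (CommRingCat.of Γ(Y, ⊤))) := by
    show IsProper (f ≫ Y.isoSpec.hom)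
    infer_instance
  have hsq : IsPullback (𝟙 X) (X ↘ Spec (CommRingCat.of Γ(Y, ⊤))) f Y.isoSpec.inv :=
    IsPullback.of_horiz_isIso ⟨by
      show 𝟙 X ≫ f = (f ≫ Y.isoSpec.hom) ≫ Y.isoSpec.inv
      simp⟩
  exact subsingleton_HH_Spec (A := Γ(Y, ⊤)) (TopDegree.fibre_bound_baseChange hsq 1 hd)
    fun y => (hv _).baseChange hsq

/-- A flat base change of a vanishing first cohomology. -/
theorem subsingleton_HH_near [X.Over (Spec (CommRingCat.of A))] [IsProper (X ↘ Spec (CommRingCat.of A))]
    (hd : ∀ y, topologicalKrullDim ↥((X ↘ Spec (CommRingCat.of A)).fiber y) ≤ (1 : ℕ))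
    (p : PrimeSpectrum A) (hv : VanishAt (X ↘ Spec (CommRingCat.of A)) p) :
    ∃ g : A, g ∉ p.asIdeal ∧ ∀ ⦃X' : Scheme.{u}⦄ (g' : X' ⟶ X)
      (f' : X' ⟶ Spec (CommRingCat.of (Localization.Away g))),
      IsPullback g' f' (X ↘ Spec (CommRingCat.of A))
        (Spec.map (CommRingCat.ofHom (algebraMap A (Localization.Away g)))) →
      Subsingleton (Coh.HH X' (Coh.structureModule X') 1) := by
  let f := X ↘ Spec (CommRingCat.of A)
  haveI : CompactSpace X := QuasiCompact.compactSpace_of_compactSpace f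
  haveI : X.IsSeparated := ⟨by rw [← Limits.terminal.comp_from f]; infer_instance⟩
  haveI := TopDegree.finite_HH_top (A := A) 1 hd (M := Coh.structureModule X)
    QCoh.isQCoh_structureModule (isFT_structureModule X)
  let H := Coh.HH X (Coh.structureModule X) 1
  -- over the local ring
  let B := Localization.AtPrime p.asIdeal
  let σ := Spec.map (CommRingCat.ofHom (algebraMap A B))
  let X₁ := pullback f σ
  letI : X₁.Over (Spec (CommRingCat.of B)) := ⟨pullback.snd f σ⟩
  have hsq : IsPullback (pullback.fst f σ) (X₁ ↘ Spec (CommRingCat.of B)) f σ :=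
    IsPullback.of_hasPullback f σ
  haveI : IsProper (X₁ ↘ Spec (CommRingCat.of B)) := MorphismProperty.of_isPullback hsq ‹IsProper f›
  have hd₁ := TopDegree.fibre_bound_baseChange hsq 1 hd
  have hm : σ (⟨IsLocalRing.maximalIdeal B, inferInstance⟩ : PrimeSpectrum B) = p :=
    PrimeSpectrum.ext (IsLocalization.AtPrime.comap_maximalIdeal B p.asIdeal)
  haveI := TopDegree.finite_HH_top (A := B) 1 hd₁ (M := Coh.structureModule X₁)
    QCoh.isQCoh_structureModule (isFT_structureModule X₁)
  have h₁ : (⊤ : Submodule B (Coh.HH X₁ (Coh.structureModule X₁) 1)) = ⊥ :=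
    Submodule.eq_bot_of_le_smul_of_le_jacobson_bot (IsLocalRing.maximalIdeal B) _ Module.Finite.fg_top
      (top_le_smul hd₁ _ (by
        have : VanishAt f (σ (⟨IsLocalRing.maximalIdeal B, inferInstance⟩ : PrimeSpectrum B)) := by
          rw [hm]; exact hv
        exact this.baseChange hsq))
      (IsLocalRing.maximalIdeal_le_jacobson _)
  haveI : Subsingleton (Coh.HH X₁ (Coh.structureModule X₁) 1) :=
    subsingleton_of_forall_eq 0 fun x => (Submodule.mem_bot B).1 (h₁ ▸ Submodule.mem_top)
  obtain ⟨e⟩ := QCoh.nonempty_HH_flat_bc (pullback.fst f σ) hsq (F := Coh.structureModule X)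
    QCoh.isQCoh_structureModule 1
  haveI := QCoh.subsingleton_HH_of_iso
    (PicClLib.nonempty_pullback_structureModule (pullback.fst f σ)).some.symm 1
    ‹Subsingleton (Coh.HH X₁ (Coh.structureModule X₁) 1)›
  haveI : Subsingleton (B ⊗[A] H) := e.symm.toEquiv.subsingleton
  haveI : Subsingleton (LocalizedModule p.asIdeal.primeCompl H) :=
    (LocalizedModule.equivTensorProduct p.asIdeal.primeCompl H).toEquiv.subsingleton
  have hz : ∀ x : H, ∃ s ∈ p.asIdeal.primeCompl, s • x = 0 :=
    LocalizedModule.subsingleton_iff.1 inferInstance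
  haveI : DecidableEq H := Classical.decEq H
  obtain ⟨G, hG⟩ := (Module.Finite.fg_top : (⊤ : Submodule A H).FG)
  choose s hs hs0 using hz
  refine ⟨∏ x ∈ G, s x, fun hmem => ?_, fun X' g' f' h' => ?_⟩
  · obtain ⟨x, -, hx⟩ := (Ideal.IsPrime.prod_mem_iff (hp := p.isPrime)).1 hmem
    exact hs x hx
  have hkill : ∀ x : H, (∏ x ∈ G, s x) • x = 0 := by
    intro x
    have : (⊤ : Submodule A H) ≤ LinearMap.ker (LinearMap.lsmul A H (∏ x ∈ G, s x)) := by
      rw [← hG, Submodule.span_le]
      intro y hy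
      show (∏ x ∈ G, s x) • y = 0
      rw [← Finset.prod_erase_mul G s hy, mul_smul, hs0, smul_zero]
    exact this trivial
  let C := Localization.Away (∏ x ∈ G, s x)
  letI : X'.Over (Spec (CommRingCat.of C)) := ⟨f'⟩
  haveI : IsProper (X' ↘ Spec (CommRingCat.of C)) := MorphismProperty.of_isPullback h' ‹IsProper f›
  obtain ⟨e'⟩ := QCoh.nonempty_HH_flat_bc (A := A) (B := C) g' h' (F := Coh.structureModule X)
    QCoh.isQCoh_structureModule 1
  haveI : Subsingleton (C ⊗[A] H) := by
    refine subsingleton_of_forall_eq 0 fun z => ?_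
    induction z using TensorProduct.induction_on with
    | zero => rfl
    | tmul c x =>
      have hu : IsUnit (algebraMap A C (∏ x ∈ G, s x)) := IsLocalization.Away.algebraMap_isUnit _
      obtain ⟨v, hv'⟩ := hu
      calc c ⊗ₜ[A] x = ((∏ x ∈ G, s x) • (↑v⁻¹ * c)) ⊗ₜ[A] x := by
            rw [Algebra.smul_def, ← hv', ← mul_assoc, Units.mul_inv, one_mul]
        _ = 0 := by rw [TensorProduct.smul_tmul, hkill, TensorProduct.tmul_zero]
    | add a b ha hb => rw [ha, hb, add_zero]
  haveI := e'.toEquiv.subsingleton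
  exact QCoh.subsingleton_HH_of_iso (PicClLib.nonempty_pullback_structureModule g').some 1 inferInstance

/-- A neighbourhood over which the first cohomology of the structure sheaf of every base change vanishes. -/
theorem exists_nhd (f : X ⟶ Y) [IsProper f] (y : Y) (hdim : topologicalKrullDim ↥(f.fiber y) ≤ (1 : ℕ))
    (hv : VanishAt f y) :
    ∃ V : Y.Opens, y ∈ V ∧ ∀ ⦃X' U : Scheme.{u}⦄ [IsAffine U] (t : U ⟶ Y) (g' : X' ⟶ X) (f' : X' ⟶ U),
      Set.range t ⊆ V → IsPullback g' f' f t → Subsingleton (Coh.HH X' (Coh.structureModule X') 1) := by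
  obtain ⟨W, hyW, hW, hdW⟩ := HighVanish.exists_nhd_dim f y 1 hdim
  let A := Γ(Y, W)
  let XW := ((f ⁻¹ᵁ W : X.Opens) : Scheme.{u})
  letI : XW.Over (Spec (CommRingCat.of A)) := ⟨(f ∣_ W) ≫ hW.isoSpec.hom⟩
  haveI : IsProper (XW ↘ Spec (CommRingCat.of A)) := by
    show IsProper ((f ∣_ W) ≫ hW.isoSpec.hom)
    infer_instance
  have hsq₀ : IsPullback (f ⁻¹ᵁ W).ι (XW ↘ Spec (CommRingCat.of A)) f hW.fromSpec := by
    refine IsPullback.of_iso (isPullback_morphismRestrict f W).flip (Iso.refl _) (Iso.refl _)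
      hW.isoSpec (Iso.refl _) (by simp) ?_ (by simp) ?_
    · show (f ∣_ W) ≫ hW.isoSpec.hom = 𝟙 _ ≫ (f ∣_ W) ≫ hW.isoSpec.hom
      simp
    · rw [← IsAffineOpen.isoSpec_inv_ι]
      simp
  let p := hW.primeIdealOf ⟨y, hyW⟩
  have hp : hW.fromSpec p = y := hW.fromSpec_primeIdealOf ⟨y, hyW⟩
  have hdA : ∀ z, topologicalKrullDim ↥((XW ↘ Spec (CommRingCat.of A)).fiber z) ≤ (1 : ℕ) := fun z => by
    refine (HighVanish.dim_fiber_le _ (f ∣_ W) (𝟙 _) (𝟙 XW : _ ⟶ _).isEmbedding z (hW.isoSpec.inv z)
      fun x hx => ?_).trans (hdW _)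
    subst hx
    show (f ∣_ W) x = (((f ∣_ W) ≫ hW.isoSpec.hom) ≫ hW.isoSpec.inv) x
    simp
  obtain ⟨a, hap, ha⟩ := subsingleton_HH_near (A := A) hdA p
    ((hp.symm ▸ hv : VanishAt f (hW.fromSpec p)).baseChange hsq₀)
  let C := Localization.Away a
  let σ := Spec.map (CommRingCat.ofHom (algebraMap A C))
  let j := σ ≫ hW.fromSpec
  haveI : IsOpenImmersion σ := IsOpenImmersion.of_isLocalization a
  refine ⟨j.opensRange, ?_, fun X' U _ t g' f' ht hsq => ?_⟩
  · have : p ∈ Set.range (PrimeSpectrum.comap (algebraMap A C)) := by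
      rw [PrimeSpectrum.localization_away_comap_range C a]
      exact hap
    obtain ⟨q, hq⟩ := this
    refine ⟨q, ?_⟩
    show hW.fromSpec (σ q) = y
    rw [← hp]
    exact congrArg hW.fromSpec hq
  let X₂ := pullback (XW ↘ Spec (CommRingCat.of A)) σ
  have hsq₂ : IsPullback (pullback.fst (XW ↘ Spec (CommRingCat.of A)) σ) (pullback.snd _ σ)
      (XW ↘ Spec (CommRingCat.of A)) σ := IsPullback.of_hasPullback _ _
  have h₂ := ha _ _ hsq₂
  have hsq₃ := hsq₂.paste_horiz hsq₀
  let τ : U ⟶ Spec (CommRingCat.of C) := IsOpenImmersion.lift j t ht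
  have hτ : τ ≫ j = t := IsOpenImmersion.lift_fac j t ht
  let l : X' ⟶ X₂ := hsq₃.lift g' (f' ≫ τ) (by rw [hsq.w, Category.assoc]; exact congrArg (f' ≫ ·) hτ.symm)
  have hl : IsPullback l f' (pullback.snd (XW ↘ Spec (CommRingCat.of A)) σ) τ :=
    IsPullback.of_right (by rw [hsq₃.lift_fst, hτ]; exact hsq) (hsq₃.lift_snd _ _ _) hsq₃
  haveI : IsProper (pullback.snd (XW ↘ Spec (CommRingCat.of A)) σ) :=
    MorphismProperty.of_isPullback hsq₂ ‹IsProper (XW ↘ Spec (CommRingCat.of A))›
  exact subsingleton_baseChange _ (TopDegree.fibre_bound_baseChange hsq₂ 1 hdA) h₂ τ l f' hl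

/-- Vanishing descends along an extension of fields. -/
theorem subsingleton_of_fieldExt {k K : Type u} [Field k] [Field K] (φ : k →+* K)
    (f : X ⟶ Spec (CommRingCat.of k)) [IsProper f] {X' : Scheme.{u}} (g' : X' ⟶ X)
    (f' : X' ⟶ Spec (CommRingCat.of K)) (h : IsPullback g' f' f (Spec.map (CommRingCat.ofHom φ)))
    (h' : Subsingleton (Coh.HH X' (Coh.structureModule X') 1)) :
    Subsingleton (Coh.HH X (Coh.structureModule X) 1) := by
  letI := φ.toAlgebra
  letI : X.Over (Spec (CommRingCat.of k)) := ⟨f⟩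
  letI : X'.Over (Spec (CommRingCat.of K)) := ⟨f'⟩
  haveI : CompactSpace X := QuasiCompact.compactSpace_of_compactSpace f
  haveI : X.IsSeparated := ⟨by rw [← Limits.terminal.comp_from f]; infer_instance⟩
  obtain ⟨e⟩ := QCoh.nonempty_HH_flat_bc (A := k) (B := K) g' h (F := Coh.structureModule X)
    QCoh.isQCoh_structureModule 1
  haveI := QCoh.subsingleton_HH_of_iso (PicClLib.nonempty_pullback_structureModule g').some.symm 1 h'
  haveI : Subsingleton (K ⊗[k] Coh.HH X (Coh.structureModule X) 1) := e.symm.toEquiv.subsingleton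
  exact Module.FaithfullyFlat.lTensor_reflects_triviality k K _

/-- Vanishing at one field valued point gives vanishing on the fibre. -/
theorem subsingleton_fiber_of_point (f : X ⟶ Y) [IsProper f] (y : Y) {K : Type u} [Field K]
    (t : Spec (CommRingCat.of K) ⟶ Y) (ht : t (IsLocalRing.closedPoint K) = y)
    {X' : Scheme.{u}} (g' : X' ⟶ X) (f' : X' ⟶ Spec (CommRingCat.of K)) (hsq : IsPullback g' f' f t)
    (h : Subsingleton (Coh.HH X' (Coh.structureModule X') 1)) :
    Subsingleton (Coh.HH (f.fiber y) (Coh.structureModule (f.fiber y)) 1) := by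
  subst ht
  let y := t (IsLocalRing.closedPoint K)
  let φ := Y.descResidueField (Scheme.stalkClosedPointTo t)
  have hs : Spec.map φ ≫ Y.fromSpecResidueField y = t :=
    Scheme.descResidueField_stalkClosedPointTo_fromSpecResidueField K Y t
  have hF : IsPullback (f.fiberι y) (f.fiberToSpecResidueField y) f (Y.fromSpecResidueField y) :=
    IsPullback.of_hasPullback _ _
  haveI : IsProper (f.fiberToSpecResidueField y) := MorphismProperty.of_isPullback hF ‹IsProper f›
  let l : X' ⟶ f.fiber y := hF.lift g' (f' ≫ Spec.map φ) (by rw [hsq.w, Category.assoc, hs])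
  have hl : IsPullback l f' (f.fiberToSpecResidueField y) (Spec.map φ) :=
    IsPullback.of_right (by rw [hF.lift_fst, hs]; exact hsq) (hF.lift_snd _ _ _) hF
  exact subsingleton_of_fieldExt φ.hom (f.fiberToSpecResidueField y) l f' hl h

/-- The restriction of the structure sheaf to an open. -/
def restrictStructIso (U : X.Opens) :
    (Coh.structureModule X).restrict U.ι ≅ Coh.structureModule (U : Scheme.{u}) :=
  (Scheme.Modules.restrictFunctorIsoPullback U.ι).app _ ≪≫
    (PicClLib.nonempty_pullback_structureModule U.ι).some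

end Groth.Agent.RelPC17.DimOne
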