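import Groth.Agent.RelPC17.DimOneFibres

/-!
# Surjectivity onto the global functions under base change

If `H¹(X, O) = 0` and `Γ(Y, O) → Γ(X, O)` is onto, with fibres of dimension at most one and `Y` affine,
then the same surjectivity holds after every affine base change.
-/

set_option autoImplicit false
set_option linter.style.haveILetI false
set_option linter.unusedSectionVars false
set_option backward.isDefEq.respectTransparency false
set_option backward.isDefEq.respectTransparency.types false
set_option maxHeartbeats 1000000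

universe u

open CategoryTheory CategoryTheory.Limits AlgebraicGeometry TopologicalSpace Opposite

noncomputable section

namespace Groth.Agent.RelPC17.DimOne

open Groth.Agent

variable {X Y X' Y' : Scheme.{u}}

/-- The canonical identification of the pullback of the structure sheaf. -/
def pullStruct (f : X ⟶ Y) :
    (Scheme.Modules.pullback f).obj (Coh.structureModule Y) ≅ Coh.structureModule X :=
  haveI : IsIso (show (Scheme.Modules.pullback f).obj (Coh.structureModule Y) ⟶ Coh.structureModule X from
      SheafOfModules.pullbackObjUnitToUnit f.toRingCatSheafHom) :=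
    inferInstanceAs (IsIso (SheafOfModules.pullbackObjUnitToUnit f.toRingCatSheafHom))
  asIso (show (Scheme.Modules.pullback f).obj (Coh.structureModule Y) ⟶ Coh.structureModule X from
    SheafOfModules.pullbackObjUnitToUnit f.toRingCatSheafHom)

theorem homEquiv_pullStruct (f : X ⟶ Y) :
    (Scheme.Modules.pullbackPushforwardAdjunction f).homEquiv _ _ (pullStruct f).hom =
      SheafOfModules.unitToPushforwardObjUnit f.toRingCatSheafHom :=
  SheafOfModules.pullbackPushforwardAdjunction_homEquiv_pullbackObjUnitToUnit f.toRingCatSheafHom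

theorem homEquiv_pullStruct_top (f : X ⟶ Y) (a : Γ(Y, ⊤)) :
    ((Scheme.Modules.pullbackPushforwardAdjunction f).homEquiv _ _ (pullStruct f).hom).app ⊤ a =
      (show Γ(X, ⊤) from f.appTop a) := by
  rw [homEquiv_pullStruct]
  rfl

/-- A morphism out of the pullback of the structure sheaf through a section. -/
theorem pullStruct_inv_comp (f : X ⟶ Y) {M : Y.Modules} {N : X.Modules} (ρ : Coh.structureModule Y ⟶ M)
    (χ : (Scheme.Modules.pullback f).obj M ⟶ N) :
    InvX.one ((pullStruct f).inv ≫ (Scheme.Modules.pullback f).map ρ ≫ χ) =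
      (show Γ(N, ⊤) from ((Scheme.Modules.pullbackPushforwardAdjunction f).homEquiv _ _ χ).app ⊤
        (InvX.one ρ)) := by
  let adj := Scheme.Modules.pullbackPushforwardAdjunction f
  let τ := adj.homEquiv _ _ χ
  let c := show Γ(N, ⊤) from τ.app ⊤ (InvX.one ρ)
  have h : (Scheme.Modules.pullback f).map ρ ≫ χ = (pullStruct f).hom ≫ InvX.ofSect c := by
    apply (adj.homEquiv _ _).injective
    rw [adj.homEquiv_naturality_left, adj.homEquiv_naturality_right]
    refine FreeEquiv.hom_ext_one _ _ ?_
    refine Eq.trans ?_ (congrArg ((InvX.ofSect c).app ⊤)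
      ((homEquiv_pullStruct_top f 1).trans (map_one f.appTop.hom))).symm
    exact (InvX.one_ofSect c).symm
  rw [h, Iso.inv_hom_id_assoc, InvX.one_ofSect]

/-- Surjectivity onto the global functions of an affine base change. -/
theorem appTop_surjective (f : X ⟶ Y) [IsProper f] [IsAffine Y] [IsAffine Y']
    (hd : ∀ y : Y, topologicalKrullDim ↥(f.fiber y) ≤ (1 : ℕ))
    (hO : Subsingleton (Coh.HH X (Coh.structureModule X) 1))
    (hs : Function.Surjective f.appTop)
    (g : Y' ⟶ Y) (g' : X' ⟶ X) (f' : X' ⟶ Y') (h : IsPullback g' f' f g) :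
    Function.Surjective f'.appTop := by
  haveI : CompactSpace X := QuasiCompact.compactSpace_of_compactSpace f
  haveI : QuasiSeparatedSpace X := quasiSeparatedSpace_of_quasiSeparated f
  haveI : IsAffineHom g := isAffineHom_of_isAffine g
  haveI : IsAffineHom g' := MorphismProperty.of_isPullback h.flip ‹IsAffineHom g›
  let M := (Scheme.Modules.pushforward g).obj (Coh.structureModule Y')
  haveI : Coh.IsQCoh (Coh.structureModule Y') := QCoh.isQCoh_structureModule
  have hMq : Coh.IsQCoh M := QCoh.isQCoh_pushforward g QCoh.isQCoh_structureModule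
  let α := (Scheme.Modules.pushforward g).map
      ((Scheme.Modules.pullbackPushforwardAdjunction f').unit.app (Coh.structureModule Y')) ≫
    (Scheme.Modules.pushforwardComp f' g).hom.app ((Scheme.Modules.pullback f').obj (Coh.structureModule Y')) ≫
    (Scheme.Modules.pushforwardCongr h.flip.w).hom.app ((Scheme.Modules.pullback f').obj (Coh.structureModule Y')) ≫
    (Scheme.Modules.pushforwardComp g' f).inv.app ((Scheme.Modules.pullback f').obj (Coh.structureModule Y'))
  let β := ((Scheme.Modules.pullbackPushforwardAdjunction f).homEquiv _ _).symm α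
  haveI : IsIso β := S12131.result g f f' g' h.flip (Coh.structureModule Y')
  let N := (Scheme.Modules.pushforward g').obj (Coh.structureModule X')
  let ψ : (Scheme.Modules.pullback f).obj M ⟶ N :=
    β ≫ (Scheme.Modules.pushforward g').map (pullStruct f').hom
  haveI : IsIso ψ := inferInstanceAs (IsIso (β ≫ (Scheme.Modules.pushforward g').map (pullStruct f').hom))
  have hτ : ∀ b : Γ(Y', ⊤),
      (show Γ(X', ⊤) from ((Scheme.Modules.pullbackPushforwardAdjunction f).homEquiv _ _ ψ).app ⊤
        (show Γ(M, ⊤) from b)) = f'.appTop b := by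
    intro b
    rw [(Scheme.Modules.pullbackPushforwardAdjunction f).homEquiv_naturality_right]
    erw [show (Scheme.Modules.pullbackPushforwardAdjunction f).homEquiv _ _ β = α from
      Equiv.apply_symm_apply _ α]
    refine Eq.trans ?_ (homEquiv_pullStruct_top f' b)
    rw [(Scheme.Modules.pullbackPushforwardAdjunction f').homEquiv_unit]
    let z : Γ((Scheme.Modules.pullback f').obj (Coh.structureModule Y'), ⊤) :=
      ((Scheme.Modules.pullbackPushforwardAdjunction f').unit.app (Coh.structureModule Y')).app ⊤ b
    refine congrArg ((pullStruct f').hom.app ⊤) (?_ : _ = z)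
    refine (congrArg (fun t => ((Scheme.Modules.pullback f').obj (Coh.structureModule Y')).presheaf.map t z)
      (Subsingleton.elim _ (𝟙 (op (⊤ : X'.Opens))))).trans ?_
    simp
  -- a presentation on the base
  obtain ⟨ι, q, hq⟩ := S4407.result Y M hMq
  haveI : Epi q := hq
  let F := Scheme.Modules.pullback f
  haveI : F.Additive := (Scheme.Modules.pullbackPushforwardAdjunction f).left_adjoint_additive
  haveI : F.PreservesEpimorphisms :=
    Functor.preservesEpimorphisms_of_adjunction (Scheme.Modules.pullbackPushforwardAdjunction f)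
  let a : (∐ fun _ : ι => Coh.structureModule X) ≅ F.obj (∐ fun _ : ι => Coh.structureModule Y) :=
    (Sigma.mapIso fun _ => (pullStruct f).symm) ≪≫ (PreservesCoproduct.iso F _).symm
  let e : (∐ fun _ : ι => Coh.structureModule X) ⟶ N := a.hom ≫ F.map q ≫ ψ
  haveI : Epi ψ := @IsIso.epi_of_iso _ _ _ _ ψ ‹IsIso ψ›
  haveI : Epi (F.map q) := F.map_epi q
  haveI : Epi (F.map q ≫ ψ) := epi_comp _ _
  haveI : Epi e := epi_comp _ _
  -- the kernel has no first cohomology
  let S : ShortComplex Y.Modules := ShortComplex.mk (kernel.ι q) q (kernel.condition q)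
  have hS : S.Exact := ShortComplex.exact_of_f_is_kernel _ (kernelIsKernel q)
  have hS' : (S.map F).Exact := hS.map_of_epi_of_preservesCokernel F hq inferInstance
  let lft : F.obj (kernel q) ⟶ kernel e :=
    kernel.lift e (F.map (kernel.ι q) ≫ a.inv) (by
      simp only [e, Category.assoc, Iso.inv_hom_id_assoc]
      rw [← Functor.map_comp_assoc, kernel.condition, F.map_zero, zero_comp])
  haveI : Epi lft := by
    let T : ShortComplex X.Modules := ShortComplex.mk (F.map (kernel.ι q) ≫ a.inv) e (by
      simp only [e, Category.assoc, Iso.inv_hom_id_assoc]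
      rw [← Functor.map_comp_assoc, kernel.condition, F.map_zero, zero_comp])
    have hT : T.Exact := by
      refine ShortComplex.exact_of_iso (ShortComplex.isoMk (S₁ := S.map F) (S₂ := T) (Iso.refl _) a.symm
        (asIso ψ) ?_ ?_) hS'
      · show 𝟙 _ ≫ (F.map (kernel.ι q) ≫ a.inv) = F.map (kernel.ι q) ≫ a.inv
        simp
      · show a.inv ≫ a.hom ≫ F.map q ≫ ψ = F.map q ≫ ψ
        simp
    exact (ShortComplex.exact_iff_epi_kernel_lift T).1 hT
  have hNq : Coh.IsQCoh N := QCoh.isQCoh_pushforward g' QCoh.isQCoh_structureModule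
  have hKq : Coh.IsQCoh (kernel e) := QCoh.isQCoh_kernel (isQCoh_coprodO X ι) hNq e
  obtain ⟨κ, p, hp⟩ := exists_epi_pullback f (QCoh.isQCoh_kernel (isQCoh_coprodO Y ι) hMq q)
  have hK := subsingleton_HH_one_of_epi f hd hO hKq (p ≫ lft)
  let T : ShortComplex X.Modules := ShortComplex.mk (kernel.ι e) e (kernel.condition e)
  have hT : T.ShortExact := { exact := ShortComplex.exact_of_f_is_kernel _ (kernelIsKernel e) }
  intro x
  obtain ⟨w, hw⟩ := QCoh.app_top_surjective_of_HH_one hT hK (show Γ(N, ⊤) from x)
  obtain ⟨k, _, j, z, hz⟩ := exists_sum (fun _ : ι => Coh.structureModule X) 0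
    ((Sheaf.H.equiv₀ (Coh.toAb (∐ fun _ : ι => Coh.structureModule X)) isTerminalTop).symm w)
  have hw' : w = ∑ l, (Sigma.ι (fun _ : ι => Coh.structureModule X) (j l)).app ⊤
      (Sheaf.H.equiv₀ (Coh.toAb (Coh.structureModule X)) isTerminalTop (z l)) := by
    have h1 := congrArg (Sheaf.H.equiv₀ (Coh.toAb (∐ fun _ : ι => Coh.structureModule X)) isTerminalTop) hz
    rw [map_sum, AddEquiv.apply_symm_apply] at h1
    refine h1.trans (Finset.sum_congr rfl fun l _ => ?_)
    exact (Sheaf.H.equiv₀_naturality isTerminalTop _ (z l)).symm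
  choose c hc using fun l => hs (Sheaf.H.equiv₀ (Coh.toAb (Coh.structureModule X)) isTerminalTop (z l))
  let b : k → Γ(Y', ⊤) := fun l =>
    InvX.one (Sigma.ι (fun _ : ι => Coh.structureModule Y) (j l) ≫ q)
  refine ⟨∑ l, g.appTop (c l) * b l, ?_⟩
  have key : ∀ l, e.app ⊤ ((Sigma.ι (fun _ : ι => Coh.structureModule X) (j l)).app ⊤
      (Sheaf.H.equiv₀ (Coh.toAb (Coh.structureModule X)) isTerminalTop (z l))) =
      (show Γ(N, ⊤) from f'.appTop (g.appTop (c l) * b l)) := by
    intro l
    let σ := Sigma.ι (fun _ : ι => Coh.structureModule X) (j l) ≫ e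
    show σ.app ⊤ _ = _
    refine (InvX.app_eq_smul σ _).trans ?_
    have hσ : σ = (pullStruct f).inv ≫
        F.map (Sigma.ι (fun _ : ι => Coh.structureModule Y) (j l) ≫ q) ≫ ψ := by
      simp [σ, e, a, PreservesCoproduct.inv_hom]
      erw [ι_comp_sigmaComparison_assoc]
    rw [AModX.res_self, hσ, pullStruct_inv_comp, ← hc l]
    show g'.appTop (f.appTop (c l)) * _ = _
    rw [map_mul]
    refine congrArg₂ (· * ·) ?_ (hτ (b l))
    exact congr($(congrArg Scheme.Hom.appTop h.w) (c l))
  rw [map_sum]
  refine Eq.trans ?_ hw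
  show _ = e.app ⊤ w
  rw [hw', map_sum]
  exact Finset.sum_congr rfl fun l _ => (key l).symm

end Groth.Agent.RelPC17.DimOne
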