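import Groth.Agent.H9Misc.DRingNilp
import Groth.Agent.SchDenseLib.Devissage
import Mathlib.RingTheory.Extension.Presentation.Core
import Mathlib.Algebra.Module.LocalizedModule.Basic
import Mathlib.RingTheory.FinitePresentation

/-!
# Descent of Tor amplitude along surjective maps of finite presentation

For a flat complex `P` over `A`, the modules `N` such that `H^i (P ⊗ N) = 0` for `i < a` are closed
under extensions, kernels of maps between such, retracts and increasing unions.  If this holds for all
`B`-modules, for `A → B` of finite presentation and surjective on spectra, then it holds for all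
`A`-modules, by Noetherian induction and generic freeness.
-/

set_option autoImplicit false
set_option linter.style.haveILetI false
set_option backward.isDefEq.respectTransparency false
set_option backward.isDefEq.respectTransparency.types false

universe u

open CategoryTheory CategoryTheory.Limits MonoidalCategory
open scoped TensorProduct

attribute [local instance] HasDerivedCategory.standard

namespace Groth.Agent.RelPC17.FPDescend

open Groth.Agent.H9Misc Groth.Agent.KFlatLib DRingLTensor DRingTor

variable {A : Type u} [CommRing A] {P : CochainComplex (ModuleCat.{u} A) ℤ}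

/-- `H^i (P ⊗ N) = 0` for `i < a`. -/
structure Good (P : CochainComplex (ModuleCat.{u} A) ℤ) (a : ℤ) (N : ModuleCat.{u} A) : Prop where
  exactAt : ∀ i < a, ((tensC N).obj P).ExactAt i

variable {a : ℤ}

/-- The action on complexes of a map of coefficient modules. -/
noncomputable def tMap (P : CochainComplex (ModuleCat.{u} A) ℤ) {M N : ModuleCat.{u} A} (f : M ⟶ N) :
    (tensC M).obj P ⟶ (tensC N).obj P :=
  (NatTrans.mapHomologicalComplex ((tensoringRight (ModuleCat.{u} A)).map f) (ComplexShape.up ℤ)).app P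

lemma tMap_f {M N : ModuleCat.{u} A} (f : M ⟶ N) (j : ℤ) :
    ((tMap P f).f j).hom = f.hom.lTensor (P.X j) := rfl

lemma good_of_retract {M N : ModuleCat.{u} A} (h : Good P a M) (i : N ⟶ M) (r : M ⟶ N)
    (hir : i ≫ r = 𝟙 N) : Good P a N := ⟨fun j hj => by
  rw [HomologicalComplex.exactAt_iff_isZero_homology, IsZero.iff_id_eq_zero,
    ← HomologicalComplex.homologyMap_id]
  have : tMap P i ≫ tMap P r = 𝟙 _ := by
    refine HomologicalComplex.hom_ext _ _ fun k => ModuleCat.hom_ext ?_
    show r.hom.lTensor (P.X k) ∘ₗ i.hom.lTensor (P.X k) = _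
    rw [← LinearMap.lTensor_comp, ← ModuleCat.hom_comp, hir, ModuleCat.hom_id, LinearMap.lTensor_id]
    rfl
  rw [← this, HomologicalComplex.homologyMap_comp]
  have hz := (HomologicalComplex.exactAt_iff_isZero_homology _ _).1 (h.exactAt j hj)
  rw [hz.eq_zero_of_tgt (HomologicalComplex.homologyMap (tMap P i) j), zero_comp]⟩

lemma shortExact_tMap (hP : ∀ n, Module.Flat A (P.X n)) {S : ShortComplex (ModuleCat.{u} A)}
    (hS : S.ShortExact) :
    ∃ h : tMap P S.f ≫ tMap P S.g = 0, (ShortComplex.mk _ _ h).ShortExact := by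
  have he : Function.Exact S.f.hom S.g.hom :=
    (ShortComplex.ShortExact.moduleCat_exact_iff_function_exact _).1 hS.exact
  have hfg : tMap P S.f ≫ tMap P S.g = 0 := by
    refine HomologicalComplex.hom_ext _ _ fun j => ModuleCat.hom_ext ?_
    show S.g.hom.lTensor (P.X j) ∘ₗ S.f.hom.lTensor (P.X j) = 0
    rw [← LinearMap.lTensor_comp, ← ModuleCat.hom_comp, S.zero, ModuleCat.hom_zero, LinearMap.lTensor_zero]
  refine ⟨hfg, HomologicalComplex.shortExact_of_degreewise_shortExact _ fun j => ?_⟩
  haveI := hP j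
  exact
    { exact := (ShortComplex.ShortExact.moduleCat_exact_iff_function_exact _).2
        (lTensor_exact (P.X j) he ((ModuleCat.epi_iff_surjective _).1 hS.epi_g))
      mono_f := (ModuleCat.mono_iff_injective _).2 (Module.Flat.lTensor_preserves_injective_linearMap
        (M := P.X j) S.f.hom ((ModuleCat.mono_iff_injective _).1 hS.mono_f))
      epi_g := (ModuleCat.epi_iff_surjective _).2
        (LinearMap.lTensor_surjective (P.X j) ((ModuleCat.epi_iff_surjective _).1 hS.epi_g)) }

lemma good_mid (hP : ∀ n, Module.Flat A (P.X n)) {S : ShortComplex (ModuleCat.{u} A)}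
    (hS : S.ShortExact) (h₁ : Good P a S.X₁) (h₃ : Good P a S.X₃) : Good P a S.X₂ :=
  ⟨fun i hi => DRingNilp.exactAt_of_ses hP hS i (h₁.exactAt i hi) (h₃.exactAt i hi)⟩

lemma good_sub (hP : ∀ n, Module.Flat A (P.X n)) {S : ShortComplex (ModuleCat.{u} A)}
    (hS : S.ShortExact) (h₂ : Good P a S.X₂) (h₃ : Good P a S.X₃) : Good P a S.X₁ := ⟨fun i hi => by
  obtain ⟨_, hT⟩ := shortExact_tMap hP hS
  rw [HomologicalComplex.exactAt_iff_isZero_homology]
  exact (hT.homology_exact₁ (i - 1) i (by simp)).isZero_X₂
    (((HomologicalComplex.exactAt_iff_isZero_homology _ _).1 (h₃.exactAt (i - 1) (by omega))).eq_zero_of_src _)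
    (((HomologicalComplex.exactAt_iff_isZero_homology _ _).1 (h₂.exactAt i hi)).eq_zero_of_tgt _)⟩

/-- The short exact sequence of a submodule. -/
noncomputable def subSES {N : ModuleCat.{u} A} (p : Submodule A N) : ShortComplex (ModuleCat.{u} A) :=
  ShortComplex.mk (ModuleCat.ofHom p.subtype) (ModuleCat.ofHom p.mkQ)
    (by ext x; exact (Submodule.Quotient.mk_eq_zero p).2 x.2)

lemma shortExact_subSES {N : ModuleCat.{u} A} (p : Submodule A N) : (subSES p).ShortExact where
  exact := (ShortComplex.moduleCat_exact_iff _).2 fun x hx =>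
    ⟨⟨x, (Submodule.Quotient.mk_eq_zero p).1 hx⟩, rfl⟩
  mono_f := (ModuleCat.mono_iff_injective _).2 Subtype.val_injective
  epi_g := (ModuleCat.epi_iff_surjective _).2 (Submodule.mkQ_surjective p)

/-- Increasing unions. -/
lemma good_of_union (hP : ∀ n, Module.Flat A (P.X n)) (N : ModuleCat.{u} A) (F : ℕ → Submodule A N)
    (hmono : Monotone F) (hsup : ∀ x : N, ∃ k, x ∈ F k)
    (h : ∀ k, Good P a (ModuleCat.of A (F k))) : Good P a N := ⟨fun i hi => by
  rw [HomologicalComplex.exactAt_iff' _ (i - 1) i (i + 1) (by simp) (by simp),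
    ShortComplex.ShortExact.moduleCat_exact_iff_function_exact]
  show Function.Exact ((P.d (i - 1) i).hom.rTensor N) ((P.d i (i + 1)).hom.rTensor N)
  intro z
  refine ⟨fun hz => ?_, fun ⟨y, hy⟩ => ?_⟩
  · have hlift : ∀ w : P.X i ⊗[A] N, ∃ k, w ∈ LinearMap.range ((F k).subtype.lTensor (P.X i)) := by
      intro w
      induction w using TensorProduct.induction_on with
      | zero => exact ⟨0, zero_mem _⟩
      | tmul p x =>
        obtain ⟨k, hk⟩ := hsup x
        exact ⟨k, p ⊗ₜ ⟨x, hk⟩, rfl⟩
      | add w₁ w₂ h₁ h₂ =>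
        obtain ⟨k₁, hk₁⟩ := h₁
        obtain ⟨k₂, hk₂⟩ := h₂
        have up : ∀ {k l : ℕ}, k ≤ l → ∀ {w : P.X i ⊗[A] N},
            w ∈ LinearMap.range ((F k).subtype.lTensor (P.X i)) →
              w ∈ LinearMap.range ((F l).subtype.lTensor (P.X i)) := by
          rintro k l hkl _ ⟨v, rfl⟩
          exact ⟨(Submodule.inclusion (hmono hkl)).lTensor (P.X i) v, by
            rw [← LinearMap.comp_apply, ← LinearMap.lTensor_comp]; rfl⟩
        exact ⟨max k₁ k₂, add_mem (up (le_max_left _ _) hk₁) (up (le_max_right _ _) hk₂)⟩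
    obtain ⟨k, v, rfl⟩ := hlift z
    have hk := (h k).exactAt i hi
    rw [HomologicalComplex.exactAt_iff' _ (i - 1) i (i + 1) (by simp) (by simp),
      ShortComplex.ShortExact.moduleCat_exact_iff_function_exact] at hk
    change Function.Exact ((P.d (i - 1) i).hom.rTensor (F k)) ((P.d i (i + 1)).hom.rTensor (F k)) at hk
    have hv : (P.d i (i + 1)).hom.rTensor (F k) v = 0 := by
      haveI := hP (i + 1)
      refine Module.Flat.lTensor_preserves_injective_linearMap (F k).subtype Subtype.val_injective ?_
      rw [map_zero, ← hz]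
      exact LinearMap.congr_fun ((LinearMap.lTensor_comp_rTensor (f := (P.d i (i + 1)).hom)
        (g := (F k).subtype)).trans (LinearMap.rTensor_comp_lTensor (f := (P.d i (i + 1)).hom)
        (g := (F k).subtype)).symm) v
    obtain ⟨y, hy⟩ := (hk v).1 hv
    refine ⟨(F k).subtype.lTensor (P.X (i - 1)) y, ?_⟩
    rw [← hy]
    exact LinearMap.congr_fun ((LinearMap.rTensor_comp_lTensor (f := (P.d (i - 1) i).hom)
      (g := (F k).subtype)).trans (LinearMap.lTensor_comp_rTensor (f := (P.d (i - 1) i).hom)
      (g := (F k).subtype)).symm) y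
  · subst hy
    rw [← LinearMap.comp_apply, ← LinearMap.rTensor_comp, ← ModuleCat.hom_comp, P.d_comp_d]
    simp⟩

lemma good_of_sub_quot (hP : ∀ n, Module.Flat A (P.X n)) {N : ModuleCat.{u} A} (p : Submodule A N)
    (h₁ : Good P a (ModuleCat.of A p)) (h₃ : Good P a (ModuleCat.of A (N ⧸ p))) : Good P a N :=
  good_mid hP (shortExact_subSES p) h₁ h₃

lemma good_submodule (hP : ∀ n, Module.Flat A (P.X n)) {N : ModuleCat.{u} A} (p : Submodule A N)
    (h₂ : Good P a N) (h₃ : Good P a (ModuleCat.of A (N ⧸ p))) : Good P a (ModuleCat.of A p) :=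
  good_sub hP (shortExact_subSES p) h₂ h₃

lemma good_of_subsingleton (N : ModuleCat.{u} A) [Subsingleton N] : Good P a N :=
  ⟨fun i _ => (HomologicalComplex.exactAt_iff_isZero_homology _ i).2
    (ShortComplex.isZero_homology_of_isZero_X₂ _
      (ModuleCat.isZero_of_subsingleton (ModuleCat.of A (P.X i ⊗[A] N))))⟩

/-- The generic step: modules killed by a prime `J` on which a suitable `f ∉ J` is bijective. -/
lemma exists_good_generic {A₀ B₀ : Type u} [CommRing A₀] [CommRing B₀] [Algebra A₀ A] [Algebra A₀ B₀]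
    [IsNoetherianRing A₀] [Algebra.FiniteType A₀ B₀] {B : Type u} [CommRing B] [Algebra A B]
    (ε : A ⊗[A₀] B₀ ≃ₐ[A] B)
    (hs : Function.Surjective (PrimeSpectrum.comap (algebraMap A B)))
    (hB : ∀ M : ModuleCat.{u} B, Good P a ((ModuleCat.restrictScalars (algebraMap A B)).obj M))
    (J : Ideal A₀) [J.IsPrime] :
    ∃ f : A₀, f ∉ J ∧ ∀ (N : Type u) [AddCommGroup N] [Module A N],
      (∀ j ∈ J, ∀ x : N, algebraMap A₀ A j • x = 0) →
      (∀ k : ℕ, Function.Bijective fun x : N => algebraMap A₀ A f ^ k • x) →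
      Good P a (ModuleCat.of A N) := by
  classical
  obtain ⟨f, hf, ι, e, hind, hgen⟩ :=
    SchDenseLib.Devissage.exists_generic_basis (B₀ := B₀) J
  refine ⟨f, hf, fun N _ _ hJ hbij => ?_⟩
  letI : Module A₀ N := Module.compHom N (algebraMap A₀ A)
  haveI : IsScalarTower A₀ A N := ⟨fun r s x => by
    show (r • s) • x = algebraMap A₀ A r • s • x
    rw [Algebra.smul_def, mul_smul]⟩
  cases isEmpty_or_nonempty ι with
  | inl hι =>
    -- a power of `f` lies in `J B₀`, so `N = 0`
    obtain ⟨k, c, hkc⟩ := hgen 1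
    rw [Subsingleton.elim c 0, map_zero, sub_zero, Ideal.smul_top_eq_map] at hkc
    have hk' : algebraMap A B (algebraMap A₀ A f ^ k) ∈
        (J.map (algebraMap A₀ A)).map (algebraMap A B) := by
      have hcomp : (algebraMap A B).comp (algebraMap A₀ A) = (ε.toAlgHom.toRingHom.comp
          (Algebra.TensorProduct.includeRight : B₀ →ₐ[A₀] A ⊗[A₀] B₀).toRingHom).comp
            (algebraMap A₀ B₀) := RingHom.ext fun r => by
        show algebraMap A B (algebraMap A₀ A r) = ε (1 ⊗ₜ algebraMap A₀ B₀ r)
        rw [← ε.commutes, Algebra.TensorProduct.algebraMap_apply, Algebra.algebraMap_self,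
          RingHom.id_apply, Algebra.algebraMap_eq_smul_one, Algebra.algebraMap_eq_smul_one,
          TensorProduct.smul_tmul]
      rw [Ideal.map_map, hcomp, ← Ideal.map_map, ← map_pow, ← RingHom.comp_apply, hcomp]
      refine Ideal.mem_map_of_mem _ ?_
      rw [map_pow]
      simpa [Algebra.smul_def] using hkc
    have : Subsingleton N := by
      refine subsingleton_of_forall_eq 0 fun x => ?_
      by_contra hx
      let I : Ideal A := LinearMap.ker (LinearMap.toSpanSingleton A N x)
      have hdisj : Disjoint (I : Set A) (Submonoid.powers (algebraMap A₀ A f) : Set A) := by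
        refine Set.disjoint_left.2 ?_
        rintro r hr ⟨m, rfl⟩
        exact hx ((hbij m).1 (by simpa [I] using hr))
      obtain ⟨q, hq, hIq, hfq⟩ := Ideal.exists_le_prime_disjoint I _ hdisj
      obtain ⟨⟨Q, hQ⟩, hQq⟩ := hs ⟨q, hq⟩
      have hQq' : Q.comap (algebraMap A B) = q := congrArg PrimeSpectrum.asIdeal hQq
      have hJq : J.map (algebraMap A₀ A) ≤ q := Ideal.map_le_iff_le_comap.2 fun j hj =>
        hIq (show algebraMap A₀ A j • x = 0 from hJ j hj x)
      have : algebraMap A₀ A f ^ k ∈ q := by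
        rw [← hQq']
        exact Ideal.map_le_iff_le_comap.2 (hJq.trans hQq'.ge) hk'
      exact Set.disjoint_left.1 hfq (hq.mem_of_pow_mem k this) ⟨1, pow_one _⟩
    haveI : Subsingleton (ModuleCat.of A N) := this
    exact good_of_subsingleton _
  | inr hι =>
    obtain ⟨i₀⟩ := hι
    choose kk cc hcc using hgen
    let pw : ℕ → (N ≃ₗ[A] N) := fun k =>
      LinearEquiv.ofBijective (LinearMap.lsmul A N (algebraMap A₀ A f ^ k)) (hbij k)
    have pw_apply : ∀ (k : ℕ) (x : N), pw k x = f ^ k • x := fun k x => by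
      show algebraMap A₀ A f ^ k • x = _
      rw [← map_pow, algebraMap_smul]
    let β₀ : B₀ → N →ₗ[A] N := fun y =>
      algebraMap A₀ A (cc y i₀) • (pw (kk y)).symm.toLinearMap
    -- the value of `β₀` does not depend on the choices
    have indep : ∀ (y : B₀) (k : ℕ) (c : ι →₀ A₀),
        f ^ k • y - Finsupp.linearCombination A₀ e c ∈ J • (⊤ : Submodule A₀ B₀) →
        ∀ x : N, f ^ k • β₀ y x = c i₀ • x := by
      intro y k c hr x
      have hmem : f ^ k • cc y i₀ - f ^ kk y • c i₀ ∈ J := by
        have h := hind (f ^ k • cc y - f ^ kk y • c) ?_ i₀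
        · simpa using h
        rw [map_sub, map_smul, map_smul]
        have h1 := Submodule.smul_mem _ (f ^ kk y) hr
        have h2 := Submodule.smul_mem _ (f ^ k) (hcc y)
        convert sub_mem h1 h2 using 1
        rw [smul_sub, smul_sub, smul_smul, smul_smul, mul_comm]
        abel
      obtain ⟨z, rfl⟩ := (pw (kk y)).surjective x
      have h0 := hJ _ hmem z
      rw [algebraMap_smul, sub_smul, sub_eq_zero, smul_assoc, smul_assoc] at h0
      show f ^ k • (algebraMap A₀ A (cc y i₀) • (pw (kk y)).symm (pw (kk y) z)) = _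
      rw [LinearEquiv.symm_apply_apply, algebraMap_smul, pw_apply, h0, smul_comm (c i₀)]
    have inj : ∀ (k : ℕ) (x x' : N), f ^ k • x = f ^ k • x' → x = x' := fun k x x' h =>
      (pw k).injective (by rwa [pw_apply, pw_apply])
    let β : B₀ →ₗ[A₀] (N →ₗ[A] N) :=
      { toFun := β₀
        map_add' := fun y y' => LinearMap.ext fun x => by
          refine inj (kk y + kk y') _ _ ?_
          rw [indep (y + y') (kk y + kk y') (f ^ kk y' • cc y + f ^ kk y • cc y') ?_ x,
            LinearMap.add_apply, smul_add,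
            indep y (kk y + kk y') (f ^ kk y' • cc y) ?_ x,
            indep y' (kk y + kk y') (f ^ kk y • cc y') ?_ x, Finsupp.add_apply, add_smul]
          · convert Submodule.smul_mem _ (f ^ kk y) (hcc y') using 1
            rw [map_smul, smul_sub, smul_smul, ← pow_add]
          · convert Submodule.smul_mem _ (f ^ kk y') (hcc y) using 1
            rw [map_smul, smul_sub, smul_smul, ← pow_add, add_comm]
          · convert add_mem (Submodule.smul_mem _ (f ^ kk y') (hcc y))
              (Submodule.smul_mem _ (f ^ kk y) (hcc y')) using 1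
            rw [map_add, map_smul, map_smul, smul_sub, smul_sub, smul_smul, smul_smul, ← pow_add,
              ← pow_add, smul_add, add_comm (kk y')]
            abel
        map_smul' := fun r y => LinearMap.ext fun x => by
          refine inj (kk y) _ _ ?_
          rw [indep (r • y) (kk y) (r • cc y) ?_ x, RingHom.id_apply, LinearMap.smul_apply, smul_comm,
            indep y (kk y) (cc y) (hcc y) x, Finsupp.smul_apply, smul_assoc]
          convert Submodule.smul_mem _ r (hcc y) using 1
          rw [map_smul, smul_sub, smul_comm] }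
    have hβe : ∀ x : N, β (e i₀) x = x := fun x => by
      refine inj 0 _ _ ?_
      show f ^ 0 • β₀ (e i₀) x = _
      rw [indep (e i₀) 0 (Finsupp.single i₀ 1) ?_ x, Finsupp.single_eq_same, one_smul, pow_zero, one_smul]
      simp
    let γ : B →ₗ[A] (N →ₗ[A] N) := (β.liftBaseChange A).comp ε.symm.toLinearMap
    let M : ModuleCat.{u} B := ModuleCat.of B (B ⊗[A] N)
    let r' : B ⊗[A] N →ₗ[A] N := TensorProduct.lift γ
    let i' : N →ₗ[A] B ⊗[A] N := TensorProduct.mk A B N (ε (1 ⊗ₜ e i₀))
    have hsm : ∀ (s : A) (w : B ⊗[A] N), algebraMap A B s • w = s • w := fun s w => algebraMap_smul B s w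
    refine good_of_retract (hB M)
      (ModuleCat.ofHom (Y := (ModuleCat.restrictScalars (algebraMap A B)).obj M)
        { toFun := fun x => i' x
          map_add' := fun x y => map_add i' x y
          map_smul' := fun s x => (map_smul i' s x).trans (hsm s (i' x)).symm })
      (ModuleCat.ofHom (X := (ModuleCat.restrictScalars (algebraMap A B)).obj M)
        { toFun := fun w => r' w
          map_add' := fun x y => map_add r' x y
          map_smul' := fun s w => (congrArg r' (hsm s w)).trans (map_smul r' s _) }) ?_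
    refine ModuleCat.hom_ext (LinearMap.ext fun x => ?_)
    show r' (i' x) = x
    simp [r', i', γ, hβe]

/-- A module is good as soon as its localization and suitable torsion modules are. -/
lemma good_of_localization (hP : ∀ n, Module.Flat A (P.X n)) (N : ModuleCat.{u} A) (S : Submonoid A)
    (R : Set A) (hN : ∀ r ∈ R, ∀ x : N, r • x = 0)
    (hL : Good P a (ModuleCat.of A (LocalizedModule S N)))
    (hT : ∀ W : ModuleCat.{u} A, (∀ r ∈ R, ∀ x : W, r • x = 0) →
      (∀ x : W, ∃ s ∈ S, s • x = 0) → Good P a W) : Good P a N := by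
  let μ : N →ₗ[A] LocalizedModule S N := LocalizedModule.mkLinearMap S N
  have hR : ∀ r ∈ R, ∀ x : LocalizedModule S N, r • x = 0 := by
    intro r hr x
    induction x with
    | h m s => rw [LocalizedModule.smul'_mk, hN r hr, LocalizedModule.zero_mk]
  have hC : Good P a (ModuleCat.of A (LocalizedModule S N ⧸ LinearMap.range μ)) := by
    refine hT _ (fun r hr x => ?_) fun x => ?_
    · obtain ⟨y, rfl⟩ := Submodule.mkQ_surjective (LinearMap.range μ) x
      exact ((LinearMap.range μ).mkQ.map_smul r y).symm.trans (by rw [hR r hr y, map_zero])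
    · obtain ⟨y, rfl⟩ := Submodule.mkQ_surjective (LinearMap.range μ) x
      obtain ⟨⟨m, s⟩, hm⟩ := IsLocalizedModule.surj S μ y
      exact ⟨s, s.2, ((LinearMap.range μ).mkQ.map_smul (s : A) y).symm.trans
        ((Submodule.Quotient.mk_eq_zero _).2 ⟨m, hm.symm⟩)⟩
  have hI : Good P a (ModuleCat.of A (LinearMap.range μ)) :=
    good_submodule (N := ModuleCat.of A (LocalizedModule S N)) hP (LinearMap.range μ) hL hC
  let e := μ.quotKerEquivRange
  have hQ : Good P a (ModuleCat.of A (N ⧸ LinearMap.ker μ)) :=
    good_of_retract hI (ModuleCat.ofHom e.toLinearMap) (ModuleCat.ofHom e.symm.toLinearMap)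
      (ModuleCat.hom_ext (LinearMap.ext e.symm_apply_apply))
  refine good_of_sub_quot hP (LinearMap.ker μ)
    (hT (ModuleCat.of A (LinearMap.ker μ)) (fun r hr x => Subtype.ext (hN r hr (x : N))) ?_) hQ
  rintro ⟨x, hx⟩
  obtain ⟨s, hs⟩ := (IsLocalizedModule.eq_zero_iff S μ).1 hx
  exact ⟨s, s.2, Subtype.ext hs⟩

/-- The inductive statement. -/
def Claim {A₀ : Type u} [CommRing A₀] [Algebra A₀ A] (P : CochainComplex (ModuleCat.{u} A) ℤ) (a : ℤ)
    (J : Ideal A₀) : Prop :=
  ∀ N : ModuleCat.{u} A, (∀ j ∈ J, ∀ x : N, algebraMap A₀ A j • x = 0) → Good P a N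

/-- The Noetherian induction. -/
theorem claim_all {A₀ B₀ : Type u} [CommRing A₀] [CommRing B₀] [Algebra A₀ A] [Algebra A₀ B₀]
    [IsNoetherianRing A₀] [Algebra.FiniteType A₀ B₀] {B : Type u} [CommRing B] [Algebra A B]
    (ε : A ⊗[A₀] B₀ ≃ₐ[A] B) (hP : ∀ n, Module.Flat A (P.X n))
    (hs : Function.Surjective (PrimeSpectrum.comap (algebraMap A B)))
    (hB : ∀ M : ModuleCat.{u} B, Good P a ((ModuleCat.restrictScalars (algebraMap A B)).obj M))
    (J : Ideal A₀) : Claim P a J := by
  induction J using WellFoundedGT.induction with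
  | ind J ih =>
    intro N hN
    by_cases htop : J = ⊤
    · haveI : Subsingleton N := subsingleton_of_forall_eq 0 fun x => by
        simpa using hN 1 (htop ▸ Submodule.mem_top) x
      exact good_of_subsingleton _
    by_cases hJ : J.IsPrime
    · obtain ⟨f, hf, hgood⟩ := exists_good_generic ε hs hB J
      let g : A := algebraMap A₀ A f
      -- torsion modules
      have htors : ∀ W : ModuleCat.{u} A, (∀ j ∈ J, ∀ x : W, algebraMap A₀ A j • x = 0) →
          (∀ x : W, ∃ k : ℕ, g ^ k • x = 0) → Good P a W := by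
        intro W hW hWt
        refine good_of_union hP W (fun k => Submodule.torsionBy A W (g ^ k)) ?_
          (fun x => (hWt x).imp fun k hk => (Submodule.mem_torsionBy_iff _ _).2 hk) fun k => ?_
        · intro k l hkl x hx
          simp only [Submodule.mem_torsionBy_iff] at hx ⊢
          obtain ⟨d, rfl⟩ := Nat.exists_eq_add_of_le hkl
          rw [add_comm, pow_add, mul_smul, hx, smul_zero]
        have hlt : J < J ⊔ Ideal.span {f ^ k} := lt_of_le_of_ne le_sup_left fun h => hf
          (hJ.mem_of_pow_mem k (h ▸ Submodule.mem_sup_right (Ideal.mem_span_singleton_self _)))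
        refine ih _ hlt _ ?_
        rintro j hj ⟨x, hx⟩
        obtain ⟨j₁, hj₁, j₂, hj₂, rfl⟩ := Submodule.mem_sup.1 hj
        obtain ⟨d, rfl⟩ := Ideal.mem_span_singleton'.1 hj₂
        refine Subtype.ext ?_
        show algebraMap A₀ A (j₁ + d * f ^ k) • x = 0
        rw [map_add, add_smul, hW j₁ hj₁, map_mul, mul_smul, map_pow,
          show g ^ k • x = 0 from (Submodule.mem_torsionBy_iff _ _).1 hx, smul_zero, add_zero]
      refine good_of_localization hP N (Submonoid.powers g) ((algebraMap A₀ A) '' J) ?_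
        (hgood _ ?_ fun k => ?_) fun W hW hWt => htors W
          (fun j hj => hW _ ⟨j, hj, rfl⟩) fun x => ?_
      · rintro _ ⟨j, hj, rfl⟩
        exact hN j hj
      · intro j hj x
        induction x with
        | h m s => rw [LocalizedModule.smul'_mk, hN j hj, LocalizedModule.zero_mk]
      · exact (Module.End.isUnit_iff _).1 (IsLocalizedModule.map_units
          (LocalizedModule.mkLinearMap (Submonoid.powers g) N) (⟨g ^ k, ⟨k, rfl⟩⟩ : Submonoid.powers g))
      · obtain ⟨_, ⟨k, rfl⟩, hk⟩ := hWt x
        exact ⟨k, hk⟩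
    · obtain ⟨b, c, hbc, hb, hc⟩ : ∃ b c, b * c ∈ J ∧ b ∉ J ∧ c ∉ J := by
        simp only [Ideal.isPrime_iff, htop, ne_eq, not_false_eq_true, true_and, not_forall] at hJ
        obtain ⟨x, y, hxy, h⟩ := hJ
        exact ⟨x, y, hxy, (not_or.1 h).1, (not_or.1 h).2⟩
      have hlt : ∀ x : A₀, x ∉ J → J < J ⊔ Ideal.span {x} := fun x hx => lt_of_le_of_ne le_sup_left
        fun h => hx (h ▸ Submodule.mem_sup_right (Ideal.mem_span_singleton_self _))
      let μ := LinearMap.lsmul A N (algebraMap A₀ A b)
      refine good_of_sub_quot hP (LinearMap.range μ)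
        (ih _ (hlt c hc) (ModuleCat.of A (LinearMap.range μ)) ?_)
        (ih _ (hlt b hb) (ModuleCat.of A (N ⧸ LinearMap.range μ)) ?_)
      · rintro j hj ⟨_, m, rfl⟩
        obtain ⟨j₁, hj₁, j₂, hj₂, rfl⟩ := Submodule.mem_sup.1 hj
        obtain ⟨d, rfl⟩ := Ideal.mem_span_singleton'.1 hj₂
        refine Subtype.ext ?_
        show algebraMap A₀ A (j₁ + d * c) • (algebraMap A₀ A b • m) = 0
        rw [map_add, add_smul, hN j₁ hj₁, zero_add, ← mul_smul, ← map_mul, mul_assoc, mul_comm c b,
          map_mul, mul_smul, hN _ hbc, smul_zero]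
      · intro j hj x
        obtain ⟨y, rfl⟩ := Submodule.mkQ_surjective _ x
        obtain ⟨j₁, hj₁, j₂, hj₂, rfl⟩ := Submodule.mem_sup.1 hj
        obtain ⟨d, rfl⟩ := Ideal.mem_span_singleton'.1 hj₂
        refine ((Submodule.mkQ _).map_smul _ y).symm.trans
          ((Submodule.Quotient.mk_eq_zero _).2 ⟨algebraMap A₀ A d • y, ?_⟩)
        show algebraMap A₀ A b • algebraMap A₀ A d • y = _
        rw [map_add, add_smul, hN j₁ hj₁, zero_add, ← mul_smul, ← map_mul, mul_comm b d]

/-- Tor amplitude descends along surjective maps of finite presentation, given vanishing above. -/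
theorem van_of_fp {B : Type u} [CommRing B] (φ : A →+* B) (hfp : φ.FinitePresentation)
    (hs : Function.Surjective (PrimeSpectrum.comap φ)) {a b : ℤ}
    (hP : ∀ n, Module.Flat A (P.X n)) (hb : ∀ n, b < n → IsZero (P.X n))
    (h : Van a b ((extC' φ).obj P)) : Van a b P := by
  intro N i hi
  obtain hi | hi := hi
  · algebraize [φ]
    let Q := Algebra.Presentation.ofFinitePresentation A B
    haveI : IsNoetherianRing Q.Core := Algebra.FiniteType.isNoetherianRing ℤ Q.Core
    exact (claim_all (A₀ := Q.Core) (Q.tensorModelOfHasCoeffsEquiv Q.Core) hP hs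
      (fun M => ⟨fun j hj => DRingNilp.exactAt_restrict φ M j (h M j (Or.inl hj))⟩) ⊥ N
      (fun j hj x => by rw [(Ideal.mem_bot).1 hj, map_zero, zero_smul]) ).exactAt i hi
  · exact (HomologicalComplex.exactAt_iff_isZero_homology _ i).2
      (ShortComplex.isZero_homology_of_isZero_X₂ _ ((tensorRight N).map_isZero (hb i hi)))

end Groth.Agent.RelPC17.FPDescend
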