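import Groth.Agent.RelPC17.FPDescend
import Groth.Agent.KFlatLib.Scheme.TildeAmp
import Groth.Agent.KFlatLib.Scheme.TildePull
import Groth.Agent.KFlatLib.Perfect.Amplitude
import Groth.Agent.KFlatLib.Perfect.Betti
import Groth.Agent.KFlatLib.Scheme.RHomLocal
import Groth.Agent.QCoh.Tilde
import Groth.Agent.KFlatLib.Ring.HasLBase
import Mathlib.AlgebraicGeometry.Morphisms.FinitePresentation

/-!
# Descent of flat amplitude along surjective morphisms of finite presentation
-/

set_option autoImplicit false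
set_option linter.style.haveILetI false
set_option backward.isDefEq.respectTransparency false
set_option backward.isDefEq.respectTransparency.types false

universe u

open CategoryTheory CategoryTheory.Limits AlgebraicGeometry

attribute [local instance] HasDerivedCategory.standard

namespace Groth.Agent.RelPC17.FPDescendSch

open Groth.Agent.KFlatLib

/-- The affine case. -/
theorem torAmplitude_spec {A B : Type u} [CommRing A] [CommRing B] (φ : A →+* B)
    (hfp : φ.FinitePresentation) (hs : Function.Surjective (PrimeSpectrum.comap φ))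
    (K : DCoh.D (Spec (CommRingCat.of A))) (hK : DCoh.IsQCohD K) {a b : ℤ}
    (hpos : ∀ i, b < i → IsZero (DCoh.HD K i))
    [DCoh.HasLpull (Spec.map (CommRingCat.ofHom φ))]
    (h : DCoh.HasFlatAmplitudeIn a b ((DCoh.Lpull (Spec.map (CommRingCat.ofHom φ))).obj K)) :
    DCoh.HasTorAmplitudeIn a b K := by
  haveI : PreservesFiniteLimits (tilde.functor (CommRingCat.of A)) := QCoh.tilde_preservesFiniteLimits
  haveI : PreservesFiniteLimits (tilde.functor (CommRingCat.of B)) := QCoh.tilde_preservesFiniteLimits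
  haveI : (tilde.functor (CommRingCat.of A)).Faithful :=
    (tilde.fullyFaithfulFunctor (R := CommRingCat.of A)).faithful
  haveI : (tilde.functor (CommRingCat.of A)).Additive := tilde_additive _
  haveI : PreservesFiniteColimits (tilde.functor (CommRingCat.of A)) := QCoh.tilde_preservesFiniteColimits
  obtain ⟨M, ⟨eM⟩⟩ := exists_tildeD_iso hK
  obtain ⟨K₀, ⟨eK⟩⟩ : ∃ K₀, Nonempty (DerivedCategory.Q.obj K₀ ≅ M) :=
    ⟨_, ⟨DerivedCategory.Q.objObjPreimageIso M⟩⟩
  have hz : ∀ i, b < i → IsZero (K₀.homology i) := by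
    intro i hi
    rw [IsZero.iff_id_eq_zero]
    apply (tilde.functor (CommRingCat.of A)).map_injective
    refine IsZero.eq_of_src ?_ _ _
    exact (hpos i hi).of_iso ((tilde.functor (CommRingCat.of A)).mapIso
      (((DerivedCategory.homologyFunctorFactors (ModuleCat.{u} A) i).app K₀).symm ≪≫
        (DerivedCategory.homologyFunctor (ModuleCat.{u} A) i).mapIso eK) ≪≫
      ((mapDCHomologyIso (tilde.functor (CommRingCat.of A)) i).app M).symm ≪≫
      (DerivedCategory.homologyFunctor (Spec (CommRingCat.of A)).Modules i).mapIso eM)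
  obtain ⟨P, ψ, hψ, hflat, hPb⟩ := (ringCover A).exists_bounded_resolution K₀ b hz
  haveI : IsIso (DerivedCategory.Q.map ψ) := (DerivedCategory.isIso_Q_map_iff_quasiIso _ _).2 hψ
  let eP : DerivedCategory.Q.obj P ≅ M := asIso (DerivedCategory.Q.map ψ) ≪≫ eK
  have hPKF : H9Misc.DRingLTensor.IsKF P := H9Misc.DRingTor.isKF_of_flat hflat hPb
  haveI : DRing.HasLBaseChange φ := H9Misc.DRingLBase.hasLBaseChange φ
  obtain ⟨e₁⟩ := nonempty_tildeD_lpull_iso φ
  obtain ⟨e₂⟩ := H9Misc.DRingLBase.nonempty_lbase_iso φ hPKF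
  obtain ⟨E, hv, hE, ⟨eE⟩⟩ : DCoh.HasFlatAmplitudeIn a b
      ((DCoh.tildeD (CommRingCat.of B)).obj ((DRing.LBaseChange φ).obj (DerivedCategory.Q.obj P))) := by
    obtain ⟨E, hv, hE, ⟨eE⟩⟩ := h
    exact ⟨E, hv, hE, ⟨eE ≪≫ (DCoh.Lpull _).mapIso
      (eM.symm ≪≫ (DCoh.tildeD (CommRingCat.of A)).mapIso eP.symm) ≪≫ (e₁.app _).symm⟩⟩
  obtain ⟨E', hv', hE', ⟨eE'⟩⟩ := (flatAmplitude_tildeD_iff _ a b).1 ⟨E, hv, hE, ⟨eE⟩⟩
  have hV := (H9Misc.DRingTor.iff_van (kFlat_extendScalars φ hPKF) e₂.symm).1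
    ⟨E', hv', hE', ⟨eE'⟩⟩
  have hA : DRing.HasTorAmplitudeIn A a b M := (H9Misc.DRingTor.iff_van hPKF eP).2
    (FPDescend.van_of_fp φ hfp hs hflat hPb hV)
  obtain ⟨G, hG, hGf, ⟨eG⟩⟩ := (flatAmplitude_tildeD_iff M a b).2 hA
  exact torAmplitude_of_flatAmplitude ⟨G, hG, hGf, ⟨eG ≪≫ eM⟩⟩

/-- Flat amplitude descends along surjective morphisms of finite presentation. -/
theorem flatAmplitude_descends {X S : Scheme.{u}} (f : X ⟶ S) [Surjective f]
    [LocallyOfFinitePresentation f] [QuasiCompact f] [DCoh.HasLpull f]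
    (M : DCoh.D S) (hM : DCoh.IsQCohD M) {a b : ℤ} (hab : a ≤ b)
    (hpos : ∀ i : ℤ, b < i → IsZero (DCoh.HD M i))
    (h : DCoh.HasFlatAmplitudeIn a b ((DCoh.Lpull f).obj M)) : DCoh.HasFlatAmplitudeIn a b M := by
  refine flatAmplitude_of_torAmplitude hasLTensorMod hab (torAmplitude_of_local M fun s => ?_)
  obtain ⟨_, ⟨U, hU, rfl⟩, hsU, -⟩ :=
    S.isBasis_affineOpens.exists_subset_of_mem_open (Set.mem_univ s) isOpen_univ
  let j := hU.fromSpec
  refine ⟨_, j, inferInstance, by rw [hU.range_fromSpec]; exact hsU, ?_⟩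
  let Z := pullback f j
  haveI : CompactSpace Z := QuasiCompact.compactSpace_of_compactSpace (pullback.snd f j)
  let 𝒰 := Z.affineCover.finiteSubcover
  let W := ∐ 𝒰.X
  haveI : ∀ i, IsAffine (𝒰.X i) := fun i => by infer_instance
  haveI : IsAffine W := inferInstanceAs (IsAffine (∐ 𝒰.X))
  haveI : Surjective (Sigma.desc 𝒰.f) := ⟨fun x => by
    obtain ⟨y, hy⟩ := 𝒰.covers x
    exact ⟨(Sigma.ι 𝒰.X (𝒰.idx x)) y, by rw [← Scheme.Hom.comp_apply, Sigma.ι_desc, hy]⟩⟩
  haveI : LocallyOfFinitePresentation (Sigma.desc 𝒰.f) :=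
    (IsZariskiLocalAtSource.iff_of_openCover (P := @LocallyOfFinitePresentation) (sigmaOpenCover 𝒰.X)).2
      fun i => by simp only [sigmaOpenCover_f, Sigma.ι_desc]; infer_instance
  let p : Spec Γ(W, ⊤) ⟶ X := W.isoSpec.inv ≫ Sigma.desc 𝒰.f ≫ pullback.fst f j
  let g : Spec Γ(W, ⊤) ⟶ Spec Γ(S, U) := W.isoSpec.inv ≫ Sigma.desc 𝒰.f ≫ pullback.snd f j
  haveI hsg : Surjective g := inferInstance
  haveI hfg : LocallyOfFinitePresentation g := inferInstance
  let φ := Spec.preimage g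
  have hφ : Spec.map φ = g := Spec.map_preimage g
  have hfp : φ.hom.FinitePresentation :=
    (HasRingHomProperty.Spec_iff (P := @LocallyOfFinitePresentation)).1 (hφ.symm ▸ hfg)
  have hs : Function.Surjective (PrimeSpectrum.comap φ.hom) :=
    (hφ.symm ▸ hsg : Surjective (Spec.map φ)).surj
  haveI := hasLpull p
  haveI := hasLpull (Spec.map φ)
  haveI := hasLpull (p ≫ f)
  have hcomm : Spec.map φ ≫ j = p ≫ f := by
    simp only [hφ, g, p, Category.assoc, pullback.condition]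
  obtain ⟨e₁⟩ := nonempty_lpull_factor (Spec.map φ) j (p ≫ f) hcomm M
  obtain ⟨e₂⟩ := nonempty_lpull_comp p f
  have h' : DCoh.HasFlatAmplitudeIn a b
      ((DCoh.Lpull (Spec.map (CommRingCat.ofHom φ.hom))).obj ((rho j).obj M)) := by
    obtain ⟨E, hv, hE, ⟨eE⟩⟩ := flatAmplitude_lpull p h
    exact ⟨E, hv, hE, ⟨eE ≪≫ e₂.app M ≪≫ e₁.symm⟩⟩
  exact torAmplitude_spec φ.hom hfp hs _ (isQCohD_rho j hM)
    (fun i hi => ((Scheme.Modules.restrictFunctor j).map_isZero (hpos i hi)).of_iso (hdRhoIso j M i)) h'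

end Groth.Agent.RelPC17.FPDescendSch
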