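import Groth.Agent.KFlatLib.Scheme.StalkTorAmp
import Groth.Agent.KFlatLib.Scheme.TorAmpPush
import Groth.Agent.KFlatLib.Perfect.Basic

/-!
# Cohomology of a derived pullback tensored with a module flat over the base
-/

set_option linter.style.haveILetI false
set_option backward.isDefEq.respectTransparency false

universe u

open CategoryTheory CategoryTheory.Limits AlgebraicGeometry MonoidalCategory

attribute [local instance] HasDerivedCategory.standard

namespace Groth.Agent.RelPC17.FlatKernel

open Groth.Agent Groth.Agent.KFlatLib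

variable {X Y : Scheme.{u}}

/-- Over a ring: tensoring with a flat module in degree zero. -/
lemma isZero_homology_single_tensor {A : Type u} [CommRing A] (N : ModuleCat.{u} A) [Module.Flat A N]
    (K : CochainComplex (ModuleCat.{u} A) ℤ) (i : ℤ) (hK : IsZero (K.homology i)) :
    IsZero ((((curriedTensor (ModuleCat.{u} A)).map₂CochainComplex.obj
      ((HomologicalComplex.single (ModuleCat.{u} A) (ComplexShape.up ℤ) 0).obj N)).obj K).homology i) := by
  let e' := ((symmIso curriedTensorFlipIso
      ((HomologicalComplex.single (ModuleCat.{u} A) (ComplexShape.up ℤ) 0).obj N)).app K).symm ≪≫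
    (singleIso (curriedTensor (ModuleCat.{u} A)) N).app K
  exact ((((tensorRight N).map_isZero hK).of_iso ((K.sc i).mapHomologyIso (tensorRight N))).of_iso
    ((HomologicalComplex.homologyFunctor _ _ i).mapIso e'))

set_option maxHeartbeats 800000 in
/-- At one point of the source. -/
lemma isZero_homology_tensor_pull_of_flat (f : X ⟶ Y) (G : X.Modules) (hG : FlatMod.IsFlatOver f G)
    (P : CochainComplex Y.Modules ℤ) (i : ℤ) (hPz : IsZero (P.homology i)) :
    IsZero (((DCoh.tensorCx.obj ((HomologicalComplex.single X.Modules (ComplexShape.up ℤ) 0).obj G)).obj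
      ((pullCx f).obj P)).homology i) := by
  refine isZero_of_stalk _ fun x => ?_
  obtain ⟨ex⟩ := nonempty_stalkOver_tensor_pull f
    ((HomologicalComplex.single X.Modules (ComplexShape.up ℤ) 0).obj G) P x
  haveI : Module.Flat (Y.presheaf.stalk (f.base x)) ((DerSch.stalkOver f x).obj G) := hG x
  have hK : IsZero (((stalkCx (f.base x)).obj P).homology i) :=
    ((DerSch.stalkFunctor Y (f.base x)).map_isZero hPz).of_iso
      ((P.sc i).mapHomologyIso (DerSch.stalkFunctor Y (f.base x)))
  have hz := (isZero_homology_single_tensor ((DerSch.stalkOver f x).obj G) _ i hK).of_iso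
    ((HomologicalComplex.homologyFunctor _ _ i).mapIso (ex ≪≫
      ((curriedTensor (ModuleCat.{u} (Y.presheaf.stalk (f.base x)))).map₂CochainComplex.mapIso
        ((HomologicalComplex.singleMapHomologicalComplex (DerSch.stalkOver f x) _ 0).app G)).app _))
  have hz' := hz.of_iso
    ((((DCoh.tensorCx.obj ((HomologicalComplex.single X.Modules (ComplexShape.up ℤ) 0).obj G)).obj
      ((pullCx f).obj P)).sc i).mapHomologyIso (DerSch.stalkOver f x)).symm
  haveI := ModuleCat.subsingleton_of_isZero hz'
  exact @ModuleCat.isZero_of_subsingleton _ _ _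
    (this : Subsingleton ((DerSch.stalkFunctor X x).obj (((DCoh.tensorCx.obj
      ((HomologicalComplex.single X.Modules (ComplexShape.up ℤ) 0).obj G)).obj
      ((pullCx f).obj P)).homology i) : Type u))

/-- For `G` flat over the base, `Lf^* M ⊗ G` has no cohomology where `M` has none. -/
theorem isZero_hd_ltensorMod_lpull_of_flat (f : X ⟶ Y) [DCoh.HasLpull f] (G : X.Modules)
    [DCoh.HasLTensorMod G] (hG : FlatMod.IsFlatOver f G) (M : DCoh.D Y) (i : ℤ)
    (h : IsZero (DCoh.HD M i)) :
    IsZero (DCoh.HD ((DCoh.LTensorMod G).obj ((DCoh.Lpull f).obj M)) i) := by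
  haveI := hasLTensorCx ((HomologicalComplex.single X.Modules (ComplexShape.up ℤ) 0).obj G)
  obtain ⟨c⟩ := nonempty_ltensorMod_ltensorCx G ((DCoh.Lpull f).obj M)
  have e₁ : (DCoh.LTensorMod G).obj ((DCoh.Lpull f).obj M) ≅
      DerivedCategory.Q.obj ((DCoh.tensorCx.flip.obj
        ((HomologicalComplex.single X.Modules (ComplexShape.up ℤ) 0).obj G)).obj ((pullCx f).obj (repK M))) :=
    c ≪≫ (DCoh.LTensorCx ((HomologicalComplex.single X.Modules (ComplexShape.up ℤ) 0).obj G)).mapIso
        (lpullRepIso f M).symm ≪≫
      ltensorCxIso _ (isKFlat_pullback f (isKFlat_repK M))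
  have e₂ : DerivedCategory.Q.obj ((DCoh.tensorCx.flip.obj
        ((HomologicalComplex.single X.Modules (ComplexShape.up ℤ) 0).obj G)).obj ((pullCx f).obj (repK M))) ≅
      DerivedCategory.Q.obj ((DCoh.tensorCx.obj
        ((HomologicalComplex.single X.Modules (ComplexShape.up ℤ) 0).obj G)).obj ((pullCx f).obj (repK M))) :=
    DerivedCategory.Q.mapIso ((symmIso (T := DCoh.tensorBi) (tensorBiFlipIso X) _).app ((pullCx f).obj (repK M)))
  have hPz : IsZero ((repK M).homology i) := (h.of_iso
    ((DerivedCategory.homologyFunctor Y.Modules i).mapIso (repKIso M))).of_iso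
      ((DerivedCategory.homologyFunctorFactors Y.Modules i).app (repK M)).symm
  have hz := isZero_homology_tensor_pull_of_flat f G hG (repK M) i hPz
  have hq : IsZero (DCoh.HD (DerivedCategory.Q.obj ((DCoh.tensorCx.obj
        ((HomologicalComplex.single X.Modules (ComplexShape.up ℤ) 0).obj G)).obj ((pullCx f).obj (repK M)))) i) :=
    hz.of_iso ((DerivedCategory.homologyFunctorFactors X.Modules i).app _)
  exact hq.of_iso ((DerivedCategory.homologyFunctor X.Modules i).mapIso (e₁ ≪≫ e₂))

end Groth.Agent.RelPC17.FlatKernel
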