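import Groth.Agent.RelPC17.Comp
import Groth.Agent.RelPC17.Terms
import Groth.Agent.RelPC17.GradedMap

/-!
# Direct image along a closed immersion with `s`-pseudo-coherent structure sheaf
-/

set_option autoImplicit false
set_option linter.style.haveILetI false
set_option backward.isDefEq.respectTransparency false
set_option backward.isDefEq.respectTransparency.types false

universe u

open CategoryTheory CategoryTheory.Limits AlgebraicGeometry TopologicalSpace Opposite
open CategoryTheory.Pretriangulated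

attribute [local instance] HasDerivedCategory.standard

namespace Groth.Agent.RelPC17

open KFlatLib H9Misc.DRingRelPC

variable {X Y S P Q Z W : Scheme.{u}}

/-- The direct image of the structure sheaf is `s`-pseudo-coherent. -/
def PCImmAt (i : Z ⟶ P) [IsClosedImmersion i] (s : ℤ) : Prop :=
  LocPC s (DCoh.inD P ((Scheme.Modules.pushforward i).obj (Coh.structureModule Z)))

variable {i : Z ⟶ P} [IsClosedImmersion i] {s : ℤ}

lemma PCImmAt.square (hi : PCImmAt i s) (j : W ⟶ P) [IsOpenImmersion j]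
    {V : Scheme.{u}} (k : V ⟶ Z) [IsOpenImmersion k] (i' : V ⟶ W) [IsClosedImmersion i']
    (hsq : k ≫ i = i' ≫ j) (hr : k.opensRange = i ⁻¹ᵁ j.opensRange) : PCImmAt i' s :=
  (LocPC.restrict hi j).of_iso (rhoInD j _ ≪≫ (DerivedCategory.singleFunctor W.Modules 0).mapIso
    ((pushResIso i j k i' hsq hr).app _ ≪≫
      (Scheme.Modules.pushforward i').mapIso (restrictStructureIso k)))

lemma PCImmAt.restrict (hi : PCImmAt i s) (O : P.Opens) : PCImmAt (i ∣_ O) s :=
  hi.square O.ι (i ⁻¹ᵁ O).ι (i ∣_ O) (morphismRestrict_ι i O).symm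
    (by rw [Scheme.Opens.opensRange_ι, Scheme.Opens.opensRange_ι])

lemma PCImmAt.free (hi : PCImmAt i s) {m : ℤ} (hm : s ≤ m) :
    ∀ n : ℕ, LocPC m (DCoh.inD P ((Scheme.Modules.pushforward i).obj (FlatMod.freeMod Z n))) := by
  intro n
  induction n with
  | zero =>
    refine locPC_isZero (Functor.map_isZero _ (Functor.map_isZero _ ?_))
    rw [IsZero.iff_id_eq_zero]
    exact Sigma.hom_ext _ _ fun k => k.elim0
  | succ n ih =>
    let e₁ : FlatMod.freeMod Z 1 ≅ Coh.structureModule Z :=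
      { hom := Sigma.desc fun _ => 𝟙 _
        inv := Sigma.ι (fun _ : Fin 1 => Coh.structureModule Z) 0
        hom_inv_id := Sigma.hom_ext _ _ fun k => by
          rw [Subsingleton.elim k 0]; simp
        inv_hom_id := by simp }
    haveI := preservesBinaryBiproducts_of_preservesBinaryProducts (Scheme.Modules.pushforward i)
    refine (locPC_inD_biprod _ _ ih ((hi.mono hm).of_iso ((DerivedCategory.singleFunctor P.Modules 0).mapIso
      ((Scheme.Modules.pushforward i).mapIso e₁.symm)))).of_iso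
      ((DerivedCategory.singleFunctor P.Modules 0).mapIso
        (((Scheme.Modules.pushforward i).mapBiprod _ _).symm ≪≫
          (Scheme.Modules.pushforward i).mapIso (biprodFreeIso n 1)))

lemma PCImmAt.flf (hi : PCImmAt i s) {M : Z.Modules} (hM : FlatMod.IsFinLocFree M) {m : ℤ}
    (hm : s ≤ m) : LocPC m (DCoh.inD P ((Scheme.Modules.pushforward i).obj M)) :=
  LocPC.of_local fun p => by
    by_cases hp : p ∈ Set.range i
    · obtain ⟨z, rfl⟩ := hp
      obtain ⟨U, n, hz, ⟨e⟩⟩ := hM z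
      obtain ⟨O, hO⟩ := KZ.ClosedDev.exists_preimage_eq i U
      have hzO : i z ∈ O := by
        have : z ∈ i ⁻¹ᵁ O := by rw [hO]; exact hz
        exact this
      refine ⟨_, O.ι, inferInstance, ⟨⟨i z, hzO⟩, rfl⟩, ?_⟩
      refine ((hi.restrict O).free hm n).of_iso (Iso.symm (rhoInD O.ι _ ≪≫
        (DerivedCategory.singleFunctor _ 0).mapIso
          ((pushResIso i O.ι (i ⁻¹ᵁ O).ι (i ∣_ O) (morphismRestrict_ι i O).symm
            (by rw [Scheme.Opens.opensRange_ι, Scheme.Opens.opensRange_ι])).app M ≪≫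
            (Scheme.Modules.pushforward (i ∣_ O)).mapIso (restrictFreeIso hO.le e))))
    · obtain ⟨U, j, _, hx, h⟩ := locPC_rho_compl i hp (DCoh.inD Z M) m
      exact ⟨U, j, inferInstance, hx, h.of_iso ((rho j).mapIso (pDInD i M))⟩

lemma PCImmAt.strictlyPerfect (hi : PCImmAt i s) {E : CochainComplex Z.Modules ℤ}
    (hE : DCoh.IsStrictlyPerfect E) {b : ℤ} (hb : ∀ n, b < n → IsZero (E.X n)) {m : ℤ}
    (hm : s + b ≤ m) : LocPC m ((pD i).obj (DerivedCategory.Q.obj E)) := by
  obtain ⟨⟨a, c, hac⟩, hf⟩ := hE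
  refine prop_of_terms (PushPC i m)
    (fun T hT h₁ h₃ => (locPC_two_of_three m _ ((pD i).map_distinguished T hT)).2.1 h₁ h₃)
    (fun Y hY => locPC_isZero ((pD i).map_isZero hY)) (c + 1 - a).toNat E a
    (fun n hn => hac n (by omega)) fun n _ _ => ?_
  rcases lt_or_ge b n with h | h
  · refine locPC_isZero ((pD i).map_isZero (Functor.map_isZero _ ?_))
    exact (HomologicalComplex.single _ _ n).map_isZero (hb n h)
  · exact (locPC_single n _ (hi.flf (hf n) (by omega))).of_iso (pDSingle i n _).symm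

/-- Direct image of a pseudo-coherent object bounded above. -/
theorem locPC_pD_at (hi : PCImmAt i s) {m r b : ℤ} {F : DCoh.D Z} (h : LocPC m F)
    (hb : ∀ n, b < n → IsZero (DCoh.HD F n)) (hmr : m ≤ r) (hr : s + b ≤ r) :
    LocPC r ((pD i).obj F) := by
  by_cases hbm : b < m
  · exact locPC_pD_of_isZero_HD i r F fun n hn => hb n (by omega)
  refine LocPC.of_local fun p => ?_
  by_cases hp : p ∈ Set.range i
  · obtain ⟨z, rfl⟩ := hp
    obtain ⟨U, j, _, hz, S₀, α₀, hS₀, hα₀⟩ := (h.mono hmr) z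
    obtain ⟨a, c, hac⟩ := hS₀.1
    by_cases hbr : b < r
    · exact ⟨_, (⊤ : P.Opens).ι, inferInstance, ⟨⟨i z, trivial⟩, rfl⟩,
        LocPC.restrict (locPC_pD_of_isZero_HD i r F fun n hn => hb n (by omega)) _⟩
    obtain ⟨S, hS, hSb, -, ⟨eS⟩⟩ := exists_cutoff b (max c b - b).toNat S₀ hS₀
      (fun n hn => hac n (Or.inr (by omega))) (fun n hn => by
        haveI := hα₀.1 n (by omega)
        exact (((Scheme.Modules.restrictFunctor j).map_isZero (hb n hn)).of_iso
          (hdRhoIso j F n)).of_iso (((DerivedCategory.homologyFunctorFactors _ n).app S₀).symm ≪≫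
            asIso ((DerivedCategory.homologyFunctor U.Modules n).map α₀)))
    obtain ⟨O, b', _, hb', hO⟩ := exists_open_square i j
    refine ⟨_, O.ι, inferInstance, ⟨⟨i z, hO z hz⟩, rfl⟩, ?_⟩
    let α' : DerivedCategory.Q.obj ((rCx b').obj S) ⟶ (rho (i ⁻¹ᵁ O).ι).obj F :=
      ((rhoQ b').app S).inv ≫ (rho b').map (eS.hom ≫ α₀) ≫ (rhoComp b' j _ hb' F).hom
    have hα' : IsPcMap r α' := by
      have h₀ : IsPcMap r (eS.hom ≫ α₀) := by
        have := hα₀.comp_iso eS.hom (𝟙 _)
        simpa using this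
      exact (h₀.map_exact _).comp_iso _ _
    exact (locPC_of_pcMap _ (hα'.map_exact _)
      ((hi.restrict O).strictlyPerfect (isStrictlyPerfect_restrict b' hS)
        (fun n hn => (Scheme.Modules.restrictFunctor b').map_isZero (hSb n hn)) hr)).of_iso
      (rhoPDOpen i O F).symm
  · exact locPC_rho_compl i hp F r

theorem locPC_of_pD_at_aux : ∀ (d : ℕ) (m : ℤ) {Z P : Scheme.{u}} (i : Z ⟶ P) [IsClosedImmersion i]
    {s : ℤ}, PCImmAt i s → (1 ≤ d → s + d ≤ 2) → ∀ F : DCoh.D Z,
      (∀ n, m + d ≤ n → IsZero (DCoh.HD F n)) → LocPC m ((pD i).obj F) → LocPC m F := by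
  intro d
  induction d with
  | zero => exact fun m _ _ i _ _ _ _ F hz _ => locPC_of_isZero m F fun n hn => hz n (by omega)
  | succ d ih =>
    intro m Z P i _ s hi hsd F hz hF
    have hs' := hsd (by omega)
    let b : ℤ := m + d
    have hzb : ∀ n, b < n → IsZero (DCoh.HD F n) := fun n hn => hz n (by omega)
    have hft : CohB1.IsFT (DCoh.HD F b) := isFT_of_isFT_push i (isFT_of_iso' (hdPD i F b)
      (isFT_top (hF.mono (by omega : m ≤ b)) fun n hn => (isZero_HD_pD_iff i F n).2 (hzb n hn)))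
    refine LocPC.of_local fun z => ?_
    obtain ⟨U, j, _, hzj, S, φ, hS, hSb, hφ⟩ := exists_top_cover hzb hft z
    obtain ⟨O, c, _, hc, hO⟩ := exists_open_square i j
    refine ⟨_, (i ⁻¹ᵁ O).ι, inferInstance, ⟨⟨z, hO z hzj⟩, rfl⟩, ?_⟩
    let S' := (rCx c).obj S
    let φ' : DerivedCategory.Q.obj S' ⟶ (rho (i ⁻¹ᵁ O).ι).obj F :=
      ((rhoQ c).app S).inv ≫ (rho c).map φ ≫ (rhoComp c j _ hc F).hom
    have hSb' : ∀ k, k ≠ b → IsZero (S'.X k) := fun k hk =>
      (Scheme.Modules.restrictFunctor c).map_isZero (hSb k hk)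
    let H := DerivedCategory.homologyFunctor (i ⁻¹ᵁ O : Z.Opens).toScheme.Modules
    haveI : Epi ((H b).map φ') := by
      haveI : Epi ((rho c ⋙ H b).map φ) := by
        rw [← NatIso.naturality_2 (mapDCHomologyIso (Scheme.Modules.restrictFunctor c) b) φ]
        haveI := hφ
        exact epi_comp' inferInstance (epi_comp'
          (inferInstanceAs (Epi ((Scheme.Modules.restrictFunctor c).map
            ((DerivedCategory.homologyFunctor U.Modules b).map φ)))) inferInstance)
      rw [Functor.map_comp, Functor.map_comp]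
      exact epi_comp' inferInstance (epi_comp' this inferInstance)
    obtain ⟨C, u, δ, hT⟩ := distinguished_cocone_triangle φ'
    have hzS : ∀ k, k ≠ b → IsZero ((H k).obj (DerivedCategory.Q.obj S')) := fun k hk =>
      (ShortComplex.isZero_homology_of_isZero_X₂ _ (hSb' k hk)).of_iso
        ((DerivedCategory.homologyFunctorFactors _ k).app _)
    have hzC : ∀ k, m + d ≤ k → IsZero ((H k).obj C) := fun k hk => by
      haveI : Epi ((H k).map u) :=
        (DerivedCategory.HomologySequence.exact₃ _ hT k (k + 1) rfl).epi_f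
          ((hzS (k + 1) (by omega)).eq_of_tgt _ _)
      refine IsZero.of_epi_eq_zero ((H k).map u) ?_
      rcases eq_or_lt_of_le hk with h | h
      · obtain rfl : b = k := h
        refine (cancel_epi ((H b).map φ')).1 ?_
        rw [← Functor.map_comp]
        exact ((congrArg (H b).map (comp_distTriang_mor_zero₁₂ _ hT)).trans (Functor.map_zero _ _ _)).trans
          comp_zero.symm
      · exact (((Scheme.Modules.restrictFunctor (i ⁻¹ᵁ O).ι).map_isZero (hzb k h)).of_iso
          (hdRhoIso (i ⁻¹ᵁ O).ι F k)).eq_of_src _ _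
    have hiO := hi.restrict O
    have hS' := isStrictlyPerfect_restrict c hS
    have hFO : LocPC m ((pD (i ∣_ O)).obj ((rho (i ⁻¹ᵁ O).ι).obj F)) :=
      (hF.restrict O.ι).of_iso (rhoPDOpen i O F)
    have hC : LocPC m C := ih m (i ∣_ O) hiO (fun _ => by omega) C hzC
      ((locPC_two_of_three m _ ((pD (i ∣_ O)).map_distinguished _ hT)).1
        (hiO.strictlyPerfect hS' (b := b) (fun k hk => hSb' k (by omega)) (by omega)) hFO)
    have hQS : LocPC m (DerivedCategory.Q.obj S') := LocSP.locPC (fun z' => by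
      exact ⟨_, (⊤ : (i ⁻¹ᵁ O : Z.Opens).toScheme.Opens).ι, inferInstance, ⟨⟨z', trivial⟩, rfl⟩, _,
        isStrictlyPerfect_restrict _ hS', ⟨((rhoQ _).app S').symm⟩⟩) m
    exact (locPC_two_of_three m _ hT).2.1 hQS hC

/-- Pseudo-coherence of a bounded above object descends along direct image. -/
theorem locPC_of_pD_at (hi : PCImmAt i s) {m b : ℤ} {F : DCoh.D Z}
    (hb : ∀ n, b < n → IsZero (DCoh.HD F n)) (hs : s + b ≤ m + 1) (h : LocPC m ((pD i).obj F)) :
    LocPC m F :=
  locPC_of_pD_at_aux (b + 1 - m).toNat m i hi (fun hd => by omega) F (fun n hn => hb n (by omega)) h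

/-- A `s`-pseudo-coherent surjection gives a closed immersion of the same kind. -/
theorem pcImmAt_specMap {A B : CommRingCat.{u}} (g : A ⟶ B) [IsClosedImmersion (Spec.map g)]
    {s : ℤ} (hg : HasPC g.hom s) : PCImmAt (Spec.map g) s := by
  haveI : PreservesFiniteLimits (tilde.functor A) := QCoh.tilde_preservesFiniteLimits
  haveI : PreservesFiniteColimits (tilde.functor A) := QCoh.tilde_preservesFiniteColimits
  haveI : (tilde.functor A).Additive := tilde_additive _
  let N := (ModuleCat.restrictScalars.{u} g.hom).obj (ModuleCat.of B B)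
  let e : DCoh.inD (Spec A) ((Scheme.Modules.pushforward (Spec.map g)).obj (Coh.structureModule (Spec B))) ≅
      (DCoh.tildeD A).obj (Dual.inD A N) :=
    (DerivedCategory.singleFunctor (Spec A).Modules 0).mapIso
        ((Scheme.Modules.pushforward (Spec.map g)).mapIso tildeSelf.symm ≪≫ (pushTildeIso g).app _) ≪≫
      (((tilde.functor A).mapDerivedCategorySingleFunctor 0).app N).symm
  exact ((isPseudoCoherentD_iff _ _).1 ((Groth.Agent.S1004.result A _ s).2 hg)).of_iso e.symm

/-- The converse. -/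
theorem hasPC_of_pcImmAt {A B : CommRingCat.{u}} (g : A ⟶ B) [IsClosedImmersion (Spec.map g)]
    {s : ℤ} (h : PCImmAt (Spec.map g) s) : HasPC g.hom s := by
  haveI : PreservesFiniteLimits (tilde.functor A) := QCoh.tilde_preservesFiniteLimits
  haveI : PreservesFiniteColimits (tilde.functor A) := QCoh.tilde_preservesFiniteColimits
  haveI : (tilde.functor A).Additive := tilde_additive _
  let N := (ModuleCat.restrictScalars.{u} g.hom).obj (ModuleCat.of B B)
  let e : DCoh.inD (Spec A) ((Scheme.Modules.pushforward (Spec.map g)).obj (Coh.structureModule (Spec B))) ≅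
      (DCoh.tildeD A).obj (Dual.inD A N) :=
    (DerivedCategory.singleFunctor (Spec A).Modules 0).mapIso
        ((Scheme.Modules.pushforward (Spec.map g)).mapIso tildeSelf.symm ≪≫ (pushTildeIso g).app _) ≪≫
      (((tilde.functor A).mapDerivedCategorySingleFunctor 0).app N).symm
  exact (Groth.Agent.S1004.result A _ s).1 ((isPseudoCoherentD_iff _ _).2 (LocPC.of_iso e h))

/-- A chart of an `s`-pseudo-coherent morphism is `s`-pseudo-coherent. -/
theorem hasPC_of_nPC (g : Y ⟶ S) [LocallyOfFiniteType g] {s : ℤ} (hg : DerSch.IsNPseudoCoherent g s)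
    {W : Y.Opens} {V : S.Opens} (hW : IsAffineOpen W) (hV : IsAffineOpen V) {h : W ≤ g ⁻¹ᵁ V} {n : ℕ}
    {φ : MvPolynomial (Fin n) Γ(S, V) →+* Γ(Y, W)} (hφ : DerSch.IsChart g W V h φ) : HasPC φ s := by
  haveI := isClosedImmersion_imm hW hφ.1
  haveI := isIso_toSpecΓ hW
  haveI : IsClosedImmersion (Spec.map (CommRingCat.ofHom φ)) :=
    IsClosedImmersion.spec_of_surjective _ hφ.1
  have hi : PCImmAt (imm W φ) s := LocPC.of_iso
    ((pD (imm W φ)).mapIso (rhoInD W.ι _ ≪≫
      (DerivedCategory.singleFunctor _ 0).mapIso (restrictStructureIso W.ι)) ≪≫ pDInD (imm W φ) _)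
    (rel_iff.1 hg W V hW hV h n φ hφ)
  refine hasPC_of_pcImmAt (CommRingCat.ofHom φ) (hi.square (𝟙 _) (inv W.toSpecΓ)
    (Spec.map (CommRingCat.ofHom φ)) ?_ ?_)
  · rw [Category.comp_id, IsIso.inv_comp_eq]; rfl
  · rw [Scheme.Hom.opensRange_of_isIso, Scheme.Hom.opensRange_of_isIso]; rfl

/-- Precomposing a presentation with an `s`-pseudo-coherent surjection. -/
theorem pcat_comp_of {U : X.Opens} (hU : IsAffineOpen U) {A B : Type u} [CommRing A] [CommRing B]
    (σ : A →+* B) (hσ : Function.Surjective σ) (γ : B →+* Γ(X, U))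
    (hγ : Function.Surjective γ) {s : ℤ} (hs : HasPC σ s) {E : DCoh.D X} {b : ℤ}
    (hb : ∀ n, b < n → IsZero (DCoh.HD E n)) {m r : ℤ} :
    (PCat m E U γ → m ≤ r → s + b ≤ r → PCat r E U (γ.comp σ)) ∧
      (PCat m E U (γ.comp σ) → s + b ≤ m + 1 → PCat m E U γ) := by
  haveI := isClosedImmersion_imm hU hγ
  haveI := isClosedImmersion_imm hU (γ := γ.comp σ) (hγ.comp hσ)
  haveI : IsClosedImmersion (Spec.map (CommRingCat.ofHom σ)) :=
    IsClosedImmersion.spec_of_surjective _ hσ
  have h : imm U γ ≫ Spec.map (CommRingCat.ofHom σ) = imm U (γ.comp σ) := by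
    rw [imm, imm, Category.assoc, ← Spec.map_comp]; rfl
  have hi := pcImmAt_specMap (CommRingCat.ofHom σ) hs
  have hb' : ∀ n, b < n → IsZero (DCoh.HD ((pD (imm U γ)).obj ((rho U.ι).obj E)) n) := fun n hn =>
    (isZero_HD_pD_iff _ _ n).2 (((Scheme.Modules.restrictFunctor U.ι).map_isZero (hb n hn)).of_iso
      (hdRhoIso U.ι E n))
  refine ⟨fun hh hmr hr => ?_, fun hh hm => ?_⟩
  · intro _
    exact LocPC.of_iso (pDComp _ _ _ h _) (locPC_pD_at hi hh hb' hmr hr)
  · intro _
    exact locPC_of_pD_at hi hb' hm (LocPC.of_iso (pDComp _ _ _ h _).symm hh)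

/-- Composite charts and their presentations. -/
theorem exists_stacked_chart {f : X ⟶ Y} {g : Y ⟶ S} {s : ℤ} (hg : DerSch.IsNPseudoCoherent g s)
    [LocallyOfFiniteType f] [LocallyOfFiniteType g] {U : X.Opens} {W : Y.Opens} {V : S.Opens}
    (hU : IsAffineOpen U) (hW : IsAffineOpen W) (hV : IsAffineOpen V) (h : U ≤ f ⁻¹ᵁ W)
    (h' : W ≤ g ⁻¹ᵁ V) {E : DCoh.D X} {b : ℤ} (hb : ∀ n, b < n → IsZero (DCoh.HD E n)) :
    ∃ (k : ℕ) (ψ : MvPolynomial (Fin k) Γ(Y, W) →+* Γ(X, U)), DerSch.IsChart f U W h ψ ∧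
      ∀ m : ℤ, ∃ (n : ℕ) (φ : MvPolynomial (Fin n) Γ(S, V) →+* Γ(X, U)),
        DerSch.IsChart (f ≫ g) U V (h.trans (f.preimage_mono h')) φ ∧
        (PCat m E U φ → s + b ≤ m + 1 → PCat m E U ψ) ∧
        ∀ m₀, PCat m₀ E U ψ → m₀ ≤ m → s + b ≤ m → PCat m E U φ := by
  obtain ⟨a, θ, hθ⟩ := exists_isChart h' (finiteType_appLE hW hV h')
  obtain ⟨k, ψ, hψ⟩ := exists_isChart h (finiteType_appLE hU hW h)
  let σ : MvPolynomial (Fin k) (MvPolynomial (Fin a) Γ(S, V)) →+* MvPolynomial (Fin k) Γ(Y, W) :=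
    MvPolynomial.map θ
  have hσ : Function.Surjective σ := MvPolynomial.map_surjective θ hθ.1
  have hs : HasPC σ s := hasPC_map θ (hasPC_of_nPC g hg hW hV hθ) k
  refine ⟨k, ψ, hψ, fun m => ?_⟩
  obtain ⟨φ, hφ, hφC, hiff⟩ := exists_fin_chart hU (ψ.comp σ) (hψ.1.comp hσ) m E
  refine ⟨k + a, φ, ⟨hφ, RingHom.ext fun r => ?_⟩,
    fun hh hm => (pcat_comp_of hU σ hσ ψ hψ.1 hs hb (r := m)).2 (hiff.1 hh) hm,
    fun m₀ hh h₁ h₂ => hiff.2 ((pcat_comp_of hU σ hσ ψ hψ.1 hs hb (m := m₀) (r := m)).1 hh h₁ h₂)⟩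
  rw [RingHom.comp_apply, hφC]
  simp only [σ, RingHom.comp_apply, MvPolynomial.map_C]
  rw [show θ (MvPolynomial.C r) = (g.appLE V W h').hom r from RingHom.congr_fun hθ.2 r,
    show ψ (MvPolynomial.C ((g.appLE V W h').hom r)) = (f.appLE W U h).hom ((g.appLE V W h').hom r) from
      RingHom.congr_fun hψ.2 _, ← CommRingCat.comp_apply, Scheme.Hom.appLE_comp_appLE]

end Groth.Agent.RelPC17
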