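import Groth.Agent.RelPC17.JacRing
import Groth.Agent.S4863
import Groth.Agent.S1004
import Groth.Agent.FlatModel.FibreScheme
import Groth.Agent.FPEnough.Descend
import Groth.Agent.CAlgOdd.PCResolve
import Groth.Agent.QCoh.LocFree
import Groth.Agent.KFlatLib.Scheme.RelTor
import Groth.Agent.KFlatLib.Scheme.CohD
import Groth.Agent.KFlatLib.Scheme.QCohDerived

/-!
# Relative tor amplitude of pseudo-coherent objects at a point and at its generizations
-/

set_option autoImplicit false
set_option linter.style.haveILetI false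
set_option backward.isDefEq.respectTransparency false
set_option backward.isDefEq.respectTransparency.types false

universe u

open CategoryTheory CategoryTheory.Limits AlgebraicGeometry TopologicalSpace

attribute [local instance] HasDerivedCategory.standard

namespace Groth.Agent.RelPC17.JacScheme

open Groth.Agent KFlatLib

/-- Pseudo-coherent objects have resolutions by finite locally free modules on affine charts. -/
theorem exists_chart_resolution {X : Scheme.{u}} {E : DCoh.D X} (hE : ∀ m, LocPC m E) (b : ℤ)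
    (hb : ∀ i, b < i → IsZero (DCoh.HD E i)) {R : CommRingCat.{u}} (j : Spec R ⟶ X) [IsOpenImmersion j] :
    ∃ T : CochainComplex (Spec R).Modules ℤ, T.IsStrictlyLE b ∧ (∀ i, FlatMod.IsFinLocFree (T.X i)) ∧
      Nonempty (DCoh.toD (Spec R) T ≅ (rho j).obj E) := by
  haveI := QCoh.tilde_preservesFiniteLimits (R := R)
  have hq : DCoh.IsQCohD E := fun i => isQCoh_HD_of_pseudoCoherent
    ((isPseudoCoherentD_iff _ _).2 (hE (i - 1))) i (by omega)
  obtain ⟨M, ⟨eM⟩⟩ := exists_tildeD_iso (isQCohD_rho j hq)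
  let eH : ∀ i, (tilde.functor R).obj ((DerivedCategory.homologyFunctor (ModuleCat.{u} R) i).obj M) ≅
      (Scheme.Modules.restrictFunctor j).obj (DCoh.HD E i) := fun i =>
    ((mapDCHomologyIso (tilde.functor R) i).app M).symm ≪≫
      (DerivedCategory.homologyFunctor _ i).mapIso eM ≪≫ restrictHDIso j E i
  have hz : ∀ i, b < i → IsZero ((DerivedCategory.homologyFunctor (ModuleCat.{u} R) i).obj M) :=
    fun i hi => (IsZero.iff_id_eq_zero _).2 ((tilde.functor R).map_injective (IsZero.eq_of_src
      ((Functor.map_isZero (Scheme.Modules.restrictFunctor j) (hb i hi)).of_iso (eH i)) _ _))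
  let F := DerivedCategory.Q.objPreimage M
  let e : DerivedCategory.Q.obj F ≅ M := DerivedCategory.Q.objObjPreimageIso M
  have hzF : ∀ i, b < i → F.ExactAt i := fun i hi => by
    rw [HomologicalComplex.exactAt_iff_isZero_homology]
    exact ((hz i hi).of_iso ((DerivedCategory.homologyFunctor _ i).mapIso e)).of_iso
      ((DerivedCategory.homologyFunctorFactors _ i).app F).symm
  have hpc : ∀ m, DRing.IsPseudoCoherent R m (DRing.toD F) := fun m =>
    (Groth.Agent.S1004.result R (DRing.toD F) m).1 ((isPseudoCoherentD_iff _ _).2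
      (((hE m).restrict j).of_iso (eM.symm ≪≫ (DCoh.tildeD R).mapIso e.symm)))
  obtain ⟨P, α, hP, hf, hα⟩ := CAlgOdd.PCResolve.exists_resolution b hzF hpc
  haveI : IsIso (DerivedCategory.Q.map α) := (DerivedCategory.isIso_Q_map_iff_quasiIso _ _).2 hα
  refine ⟨((tilde.functor R).mapHomologicalComplex (ComplexShape.up ℤ)).obj P,
    (CochainComplex.isStrictlyLE_iff _ _).2 fun m hm => (tilde.functor R).map_isZero (hP m hm),
    fun i => isFinLocFree_tilde_of_free (hf i),
    ⟨(tildeQ P).symm ≪≫ (DCoh.tildeD R).mapIso (asIso (DerivedCategory.Q.map α) ≪≫ e) ≪≫ eM⟩⟩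

section Local

variable {U S : Scheme.{u}} (g : U ⟶ S) {T : CochainComplex U.Modules ℤ}

lemma finitePresentation_stalk_X (hf : ∀ i, FlatMod.IsFinLocFree (T.X i)) (v : U) (i : ℤ) :
    Module.FinitePresentation (U.presheaf.stalk v) (((stalkCx v).obj T).X i) :=
  FlatModel.finitePresentation_stalk (QCoh.isQCoh_of_isFinLocFree (hf i))
    (QCoh.isFP_of_isFinLocFree (hf i)) v

lemma flat_stalkOver_X [Flat g] (hf : ∀ i, FlatMod.IsFinLocFree (T.X i)) (v : U) (i : ℤ) :
    Module.Flat (S.presheaf.stalk (g v)) ((DerSch.stalkOver g v).obj (T.X i)) := by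
  letI := (g.stalkMap v).hom.toAlgebra
  let N : Type u := (DerSch.stalkFunctor U v).obj (T.X i)
  letI : Module (S.presheaf.stalk (g v)) N := Module.compHom _ (g.stalkMap v).hom
  haveI : IsScalarTower (S.presheaf.stalk (g v)) (U.presheaf.stalk v) N :=
    IsScalarTower.of_algebraMap_smul fun _ _ => rfl
  haveI : Module.Flat (S.presheaf.stalk (g v)) (U.presheaf.stalk v) := Flat.stalkMap g v
  haveI : Module.Free (U.presheaf.stalk v) N := QCoh.free_stalk_of_isFinLocFree (hf i) v
  exact Module.Flat.trans (S.presheaf.stalk (g v)) (U.presheaf.stalk v) N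

/-- The stalk of a cokernel of the complex. -/
noncomputable def opcyclesStalkIso (v : U) (a : ℤ) :
    (DerSch.stalkOver g v).obj (cokernel (T.d (a - 1) a)) ≅ ((DerSch.stalkCxOver g v).obj T).opcycles a :=
  haveI := Functor.preservesFiniteColimits_of_preservesHomology (DerSch.stalkOver g v)
  PreservesCokernel.iso (DerSch.stalkOver g v) (T.d (a - 1) a) ≪≫
    (cokernelIsCokernel (((DerSch.stalkCxOver g v).obj T).d (a - 1) a)).coconePointUniqueUpToIso
      (((DerSch.stalkCxOver g v).obj T).opcyclesIsCokernel (a - 1) a (by simp))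

/-- Amplitude at a point from flatness of a cokernel and exactness. -/
theorem amp_at_of_flat [Flat g] (hf : ∀ i, FlatMod.IsFinLocFree (T.X i)) {b : ℤ} [T.IsStrictlyLE b] (a : ℤ)
    (v : U) (hC : FlatMod.IsFlatOverAt g (cokernel (T.d (a - 1) a)) v)
    (hex : ∀ i, i < a → Subsingleton ((T.homology i).presheaf.stalk v)) :
    DerSch.HasTorAmplitudeAt g a (max b a) T v := by
  refine JacRing.amp_of_flat_opcycles (fun n => flat_stalkOver_X g hf v n)
    (fun n hn => (DerSch.stalkOver g v).map_isZero (T.isZero_of_isStrictlyLE b n hn)) a (fun i hi => ?_)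
    ((Module.Flat.equiv_iff (opcyclesStalkIso g v a).toLinearEquiv).1 ((RelTor.flatOverAt_iff _ _ _).1 hC))
  refine (HomologicalComplex.exactAt_iff_isZero_homology _ _).2
    (IsZero.of_iso ?_ ((T.sc i).mapHomologyIso (DerSch.stalkOver g v)))
  haveI := hex i hi
  exact @ModuleCat.isZero_of_subsingleton _ _ _
    (inferInstanceAs (Subsingleton ((T.homology i).presheaf.stalk v)))

/-- Amplitude spreads to generizations. -/
theorem amp_at_generization [Flat g] [LocallyOfFinitePresentation g]
    (hf : ∀ i, FlatMod.IsFinLocFree (T.X i)) {b : ℤ} [T.IsStrictlyLE b] (a : ℤ)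
    {v v₀ : U} (hv : v ⤳ v₀) (hC : FlatMod.IsFlatOverAt g (cokernel (T.d (a - 1) a)) v₀)
    (hex : ∀ i, i < a → Subsingleton ((T.homology i).presheaf.stalk v₀)) :
    DerSch.HasTorAmplitudeAt g a (max b a) T v := by
  have hq : ∀ i, Coh.IsQCoh (T.X i) := fun i => QCoh.isQCoh_of_isFinLocFree (hf i)
  haveI : Coh.IsQCoh (cokernel (T.d (a - 1) a)) := QCoh.isQCoh_cokernel (hq _) (hq _) _
  have hfp : CohB1.IsFP (cokernel (T.d (a - 1) a)) :=
    FPEnough.isFP_cokernel (hq _) (QCoh.isFT_of_isFP (QCoh.isFP_of_isFinLocFree (hf _))) (hq _)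
      (QCoh.isFP_of_isFinLocFree (hf _)) _
  refine amp_at_of_flat g hf a v (hv.mem_open (Groth.Agent.S4863.result g _ hfp) hC) fun i hi => ?_
  by_contra hn
  exact (QCoh.stableUnderSpecialization_support (isQCoh_homology_of_terms T hq i) hv hn) (hex i hi)

/-- The criterion on the closed fibre. -/
theorem flat_exact_of_fibre [Flat g] [LocallyOfFinitePresentation g]
    (hf : ∀ i, FlatMod.IsFinLocFree (T.X i)) (a : ℤ) (v : U)
    (h : ∀ p q r : ℤ, p + 1 = q → q + 1 = r → q < a → ∀ z : ((stalkCx v).obj T).X q,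
      (((stalkCx v).obj T).d q r).hom z ∈ (IsLocalRing.maximalIdeal (S.presheaf.stalk (g v))).map (g.stalkMap v).hom •
          (⊤ : Submodule (U.presheaf.stalk v) (((stalkCx v).obj T).X r)) →
        ∃ w : ((stalkCx v).obj T).X p, z - (((stalkCx v).obj T).d p q).hom w ∈
          (IsLocalRing.maximalIdeal (S.presheaf.stalk (g v))).map (g.stalkMap v).hom •
            (⊤ : Submodule (U.presheaf.stalk v) (((stalkCx v).obj T).X q))) :
    FlatMod.IsFlatOverAt g (cokernel (T.d (a - 1) a)) v ∧
      ∀ i, i < a → Subsingleton ((T.homology i).presheaf.stalk v) := by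
  obtain ⟨hex, hC⟩ := JacRing.exact_flat_of_fibre (g.stalkMap v).hom
    (FlatModel.isEssFinitePresentation_stalk g v) ((stalkCx v).obj T)
    (finitePresentation_stalk_X hf v) (flat_stalkOver_X g hf v) a h
  refine ⟨(RelTor.flatOverAt_iff _ _ _).2 ?_, fun i hi => ModuleCat.subsingleton_of_isZero
    (((hex i hi).isZero_homology).of_iso ((T.sc i).mapHomologyIso (DerSch.stalkFunctor U v)).symm)⟩
  exact (Module.Flat.equiv_iff ((ModuleCat.restrictScalars (g.stalkMap v).hom).mapIso
    (PreservesCokernel.iso (DerSch.stalkFunctor U v) (T.d (a - 1) a) ≪≫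
      (cokernelIsCokernel (((stalkCx v).obj T).d (a - 1) a)).coconePointUniqueUpToIso
        (((stalkCx v).obj T).opcyclesIsCokernel (a - 1) a (by simp)))).toLinearEquiv).2 hC

end Local

end Groth.Agent.RelPC17.JacScheme
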