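import Groth.Agent.RelPC17.Compact
import Groth.Agent.RelPC17.Module
import Groth.Agent.KFlatLib.Scheme.LpullLE
import Groth.Agent.KFlatLib.Scheme.PullCx
import Groth.Agent.KFlatLib.Scheme.RpushFF
import Groth.Agent.KFlatLib.Perfect.Spread
import Groth.Agent.H9Misc.DRingNilpPC
import Groth.Agent.RefX.Hom
import Groth.Agent.QCoh.SupportFT
import Groth.Agent.ThickFin.Scheme

/-!
# Pseudo-coherence descends along finite order thickenings
-/

set_option autoImplicit false
set_option linter.style.haveILetI false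
set_option backward.isDefEq.respectTransparency false
set_option backward.isDefEq.respectTransparency.types false

universe u

open CategoryTheory CategoryTheory.Limits AlgebraicGeometry TopologicalSpace Opposite CategoryTheory.Pretriangulated
open scoped TensorProduct

attribute [local instance] HasDerivedCategory.standard

namespace Groth.Agent.RelPC17

open KFlatLib H9Misc.DRingLTensor

variable {X X' : Scheme.{u}}

/-- All stalk maps have nilpotent kernels. -/
def NilThick (i : X ⟶ X') : Prop := ∀ x : X, IsNilpotent (RingHom.ker (i.stalkMap x).hom)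

theorem nilThick_of_finiteOrder {i : X ⟶ X'} (h : MoreMor.IsFiniteOrderThickening i) : NilThick i := by
  intro x
  haveI := h.1.1
  obtain ⟨U, hU, hxU, -⟩ := exists_isAffineOpen_mem_and_subset (U := ⊤) (x := i x) trivial
  obtain ⟨k, hk⟩ := ThickFin.isNilpotent_ideal h ⟨U, hU⟩
  haveI : IsAffine (U : Scheme.{u}) := hU
  let φ := (i.app U).hom
  have hφ : Function.Surjective φ := i.app_surjective U hU
  letI := (X'.presheaf.germ U (i x) hxU).hom.toAlgebra
  haveI := hU.isLocalization_stalk ⟨i x, hxU⟩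
  haveI := (hU.preimage i).isLocalization_stalk ⟨x, hxU⟩
  letI := (X.presheaf.germ (i ⁻¹ᵁ U) x hxU).hom.toAlgebra
  have hle : RingHom.ker (i.stalkMap x).hom ≤ (RingHom.ker φ).map (X'.presheaf.germ U (i x) hxU).hom := by
    intro s hs
    obtain ⟨⟨a, c⟩, hac⟩ :=
      IsLocalization.surj (hU.primeIdealOf ⟨i x, hxU⟩).asIdeal.primeCompl (s : X'.presheaf.stalk (i x))
    have h0 : algebraMap Γ(X, i ⁻¹ᵁ U) (X.presheaf.stalk x) (φ a) = 0 := by
      show X.presheaf.germ (i ⁻¹ᵁ U) x hxU (i.app U a) = 0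
      rw [← Scheme.Hom.germ_stalkMap_apply,
        show X'.presheaf.germ U (i x) hxU a = s * algebraMap Γ(X', U) _ (c : Γ(X', U)) from hac.symm, map_mul,
        show i.stalkMap x s = 0 from hs, zero_mul]
    obtain ⟨⟨d, hd⟩, hd0⟩ :=
      (IsLocalization.map_eq_zero_iff ((hU.preimage i).primeIdealOf ⟨x, hxU⟩).asIdeal.primeCompl _ _).1 h0
    obtain ⟨d', rfl⟩ := hφ d
    have hu : IsUnit (X'.presheaf.germ U (i x) hxU d') := by
      rw [← isUnit_map_iff (i.stalkMap x).hom]
      show IsUnit (i.stalkMap x (X'.presheaf.germ U (i x) hxU d'))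
      rw [Scheme.Hom.germ_stalkMap_apply]
      exact IsLocalization.map_units (X.presheaf.stalk x) (⟨φ d', hd⟩ : ((hU.preimage i).primeIdealOf ⟨x, hxU⟩).asIdeal.primeCompl)
    have hmem : X'.presheaf.germ U (i x) hxU (d' * a) ∈
        (RingHom.ker φ).map (X'.presheaf.germ U (i x) hxU).hom :=
      Ideal.mem_map_of_mem _ (by rw [RingHom.mem_ker, map_mul]; exact hd0)
    rw [map_mul, show X'.presheaf.germ U (i x) hxU a = s * algebraMap Γ(X', U) _ (c : Γ(X', U)) from hac.symm,
      ← mul_assoc] at hmem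
    exact (Ideal.unit_mul_mem_iff_mem _ hu).1
      ((Ideal.mul_unit_mem_iff_mem _ (IsLocalization.map_units _ c)).1 hmem)
  refine ⟨k, le_bot_iff.1 ((Ideal.pow_right_mono hle k).trans ?_)⟩
  rw [← Ideal.map_pow, show RingHom.ker φ = i.ker.ideal ⟨U, hU⟩ from (Scheme.Hom.ker_apply i ⟨U, hU⟩).symm, hk]
  exact le_of_eq Ideal.map_bot

theorem surjective_restrict (i : X ⟶ X') [Surjective i] (O : X'.Opens) : Surjective (i ∣_ O) := by
  refine ⟨fun y => ?_⟩
  obtain ⟨x, hx⟩ := i.surjective y.1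
  exact ⟨⟨x, show i x ∈ O from hx ▸ y.2⟩, Subtype.ext ((morphismRestrict_base_coe i O _).trans hx)⟩

theorem NilThick.restrict {i : X ⟶ X'} (hi : NilThick i) (O : X'.Opens) : NilThick (i ∣_ O) := by
  intro x
  let e := morphismRestrictStalkMap i O x
  obtain ⟨k, hk⟩ := hi x.1
  refine ⟨k, le_bot_iff.1 fun a ha => ?_⟩
  have hle : RingHom.ker ((i ∣_ O).stalkMap x).hom ≤
      (RingHom.ker (i.stalkMap x.1).hom).comap (Arrow.leftFunc.map e.hom).hom := fun a ha => by
    have h := congrArg (fun q => q.hom a) e.hom.w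
    show (i.stalkMap x.1).hom (e.hom.left a) = 0
    exact h.trans ((congrArg e.hom.right.hom (show ((i ∣_ O).stalkMap x).hom a = 0 from ha)).trans (map_zero _))
  have hb : Function.Bijective (Arrow.leftFunc.map e.hom).hom :=
    ConcreteCategory.bijective_of_isIso (Arrow.leftFunc.map e.hom)
  have h1 := (Ideal.pow_right_mono hle k).trans (Ideal.le_comap_pow _ k) ha
  rw [Ideal.mem_comap, show (RingHom.ker (i.stalkMap x.1).hom) ^ k = ⊥ from hk, Ideal.mem_bot] at h1
  exact hb.1 (h1.trans (map_zero _).symm)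

/-- A ring-level bound: cohomology above a degree is detected modulo a nilpotent ideal. -/
lemma exactAt_of_ext {A B : Type u} [CommRing A] [CommRing B] (φ : A →+* B) (hφ : Function.Surjective φ)
    (hnil : IsNilpotent (RingHom.ker φ)) {P : CochainComplex (ModuleCat.{u} A) ℤ} (hP : IsKF P) (b : ℤ)
    (h : ∀ n, b < n → ((extC' φ).obj P).ExactAt n) : ∀ n, b < n → P.ExactAt n := by
  intro n hn
  haveI := H9Misc.DRingLBase.hasLBaseChange φ
  obtain ⟨P₂, hP₂, hflat, ⟨e⟩⟩ := exists_rep (DerivedCategory.Q.obj P)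
  obtain ⟨e₁⟩ := H9Misc.DRingLBase.nonempty_lbase_iso φ hP
  obtain ⟨e₂⟩ := H9Misc.DRingLBase.nonempty_lbase_iso φ hP₂
  let eB : DerivedCategory.Q.obj ((extC' φ).obj P₂) ≅ DerivedCategory.Q.obj ((extC' φ).obj P) :=
    e₂.symm ≪≫ (DRing.LBaseChange φ).mapIso e ≪≫ e₁
  have hz := H9Misc.DRingNilp.isZero_homology_of_lbase φ hφ hnil hP₂ hflat b (fun i hi =>
    ((h i hi).isZero_homology.of_iso (((DerivedCategory.homologyFunctorFactors _ i).app _).symm ≪≫
      (DerivedCategory.homologyFunctor _ i).mapIso eB ≪≫ (DerivedCategory.homologyFunctorFactors _ i).app _))) n hn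
  exact (HomologicalComplex.exactAt_iff_isZero_homology _ _).2
    (hz.of_iso (((DerivedCategory.homologyFunctorFactors _ n).app _).symm ≪≫
      (DerivedCategory.homologyFunctor _ n).mapIso e.symm ≪≫ (DerivedCategory.homologyFunctorFactors _ n).app _))

/-- Vanishing of cohomology is detected on the thickened scheme. -/
theorem isZero_HD_of_lpull (i : X ⟶ X') [IsClosedImmersion i] [Surjective i] (hi : NilThick i)
    [DCoh.HasLpull i] (G : DCoh.D X') (b : ℤ) (h : ∀ n, b < n → IsZero (DCoh.HD ((DCoh.Lpull i).obj G) n)) :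
    ∀ n, b < n → IsZero (DCoh.HD G n) := by
  intro n hn
  let C := DerivedCategory.Q.objPreimage G
  let P := (kRes X').obj C
  have hP : DCoh.IsKFlat P := isKFlat_kRes C
  let eP : DerivedCategory.Q.obj P ≅ G := (resQIso X').app C ≪≫ DerivedCategory.Q.objObjPreimageIso G
  haveI := isIso_lpullComparison i hP
  let eL : (DCoh.Lpull i).obj G ≅ DerivedCategory.Q.obj ((pullCx i).obj P) :=
    (DCoh.Lpull i).mapIso eP.symm ≪≫ asIso ((lpullComparison i).app P)
  have key : P.ExactAt n := by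
    refine (exact_iff_stalk _).2 fun y => ?_
    obtain ⟨x, rfl⟩ := i.surjective y
    refine exactAt_of_ext (i.stalkMap x).hom (i.stalkMap_surjective x) (hi x)
      ((kFlat_iff_stalk P).1 hP (i x)) b (fun k hk => ?_) n hn
    have h1 : ((pullCx i).obj P).ExactAt k := (HomologicalComplex.exactAt_iff_isZero_homology _ _).2
      ((h k hk).of_iso (((DerivedCategory.homologyFunctorFactors _ k).app _).symm ≪≫
        (DerivedCategory.homologyFunctor _ k).mapIso eL.symm))
    exact HomologicalComplex.ExactAt.of_iso (K := (stalkCx x).obj ((pullCx i).obj P))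
      ((exact_iff_stalk _).1 h1 x) (stalkPullCxIso i x P)
  exact key.isZero_homology.of_iso ((DerivedCategory.homologyFunctor _ n).mapIso eP.symm ≪≫
    (DerivedCategory.homologyFunctorFactors _ n).app P)

/-- Derived pullback sends distinguished triangles to distinguished triangles, objectwise. -/
theorem exists_lpull_triangle (f : X ⟶ X') [DCoh.HasLpull f] (T : Triangle (DCoh.D X'))
    (hT : T ∈ distinguishedTriangles) :
    ∃ T' ∈ distTriang (DCoh.D X), Nonempty (T'.obj₁ ≅ (DCoh.Lpull f).obj T.obj₁) ∧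
      Nonempty (T'.obj₂ ≅ (DCoh.Lpull f).obj T.obj₂) ∧ Nonempty (T'.obj₃ ≅ (DCoh.Lpull f).obj T.obj₃) := by
  obtain ⟨K, L, φ, ⟨e⟩⟩ := (DerivedCategory.mem_distTriang_iff T).1 hT
  let φ' := (kRes X').map φ
  let T₁ := DerivedCategory.Q.mapTriangle.obj (CochainComplex.mappingCone.triangle φ')
  let T₀ := DerivedCategory.Q.mapTriangle.obj (CochainComplex.mappingCone.triangle φ)
  let e' : T₁ ≅ T := isoTriangleOfIso₁₂ T₁ T₀
    ((DerivedCategory.mem_distTriang_iff _).2 ⟨_, _, φ', ⟨Iso.refl _⟩⟩)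
    ((DerivedCategory.mem_distTriang_iff _).2 ⟨_, _, φ, ⟨Iso.refl _⟩⟩)
    ((resQIso X').app K) ((resQIso X').app L) ((resQIso X').hom.naturality φ) ≪≫ e.symm
  have hC : DCoh.IsKFlat (CochainComplex.mappingCone φ') :=
    kFlat_cone (T := DCoh.tensorBi) φ' (isKFlat_kRes K) (isKFlat_kRes L)
  haveI := isIso_lpullComparison f (isKFlat_kRes K)
  haveI := isIso_lpullComparison f (isKFlat_kRes L)
  haveI := isIso_lpullComparison f hC
  refine ⟨DerivedCategory.Q.mapTriangle.obj (CochainComplex.mappingCone.triangle ((pullCx f).map φ')),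
    (DerivedCategory.mem_distTriang_iff _).2 ⟨_, _, _, ⟨Iso.refl _⟩⟩, ⟨?_⟩, ⟨?_⟩, ⟨?_⟩⟩
  · exact (asIso ((lpullComparison f).app ((kRes X').obj K))).symm ≪≫
      (DCoh.Lpull f).mapIso (Triangle.π₁.mapIso e')
  · exact (asIso ((lpullComparison f).app ((kRes X').obj L))).symm ≪≫
      (DCoh.Lpull f).mapIso (Triangle.π₂.mapIso e')
  · exact DerivedCategory.Q.mapIso
        (CochainComplex.mappingCone.mapHomologicalComplexIso φ' (Scheme.Modules.pullback f)).symm ≪≫
      (asIso ((lpullComparison f).app (CochainComplex.mappingCone φ'))).symm ≪≫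
      (DCoh.Lpull f).mapIso (Triangle.π₃.mapIso e')

/-- Derived pullback and restriction. -/
theorem nonempty_lpull_restrict (i : X ⟶ X') (O : X'.Opens) [DCoh.HasLpull i] [DCoh.HasLpull (i ∣_ O)]
    (G : DCoh.D X') :
    Nonempty ((DCoh.Lpull (i ∣_ O)).obj ((rho O.ι).obj G) ≅ (rho (i ⁻¹ᵁ O).ι).obj ((DCoh.Lpull i).obj G)) := by
  haveI := hasLpull O.ι
  haveI := hasLpull (i ⁻¹ᵁ O).ι
  haveI := hasLpull ((i ∣_ O) ≫ O.ι)
  obtain ⟨q₁⟩ := nonempty_rho_iso_lpull O.ι
  obtain ⟨q₂⟩ := nonempty_rho_iso_lpull (i ⁻¹ᵁ O).ι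
  obtain ⟨c₁⟩ := nonempty_lpull_comp (i ∣_ O) O.ι
  have w := morphismRestrict_ι i O
  haveI := hasLpull ((i ⁻¹ᵁ O).ι ≫ i)
  obtain ⟨c₂⟩ := nonempty_lpull_comp (i ⁻¹ᵁ O).ι i
  have hc : ∀ (a b : (i ⁻¹ᵁ O : Scheme.{u}) ⟶ X') [DCoh.HasLpull a] [DCoh.HasLpull b], a = b →
      Nonempty (DCoh.Lpull a ≅ DCoh.Lpull b) := by
    rintro a b _ _ rfl; exact ⟨Iso.refl _⟩
  obtain ⟨c⟩ := hc _ _ w
  exact ⟨(DCoh.Lpull (i ∣_ O)).mapIso (q₁.app G) ≪≫ c₁.app G ≪≫ c.app G ≪≫ (c₂.app G).symm ≪≫
    (q₂.app _).symm⟩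

/-- The top cohomology of a pullback. -/
theorem nonempty_hd_lpull_top (i : X ⟶ X') [DCoh.HasLpull i] (G : DCoh.D X') (b : ℤ)
    (hz : ∀ n, b < n → IsZero (DCoh.HD G n)) :
    Nonempty (DCoh.HD ((DCoh.Lpull i).obj G) b ≅ (Scheme.Modules.pullback i).obj (DCoh.HD G b)) := by
  haveI : G.IsLE b := (DerivedCategory.isLE_iff G b).2 hz
  obtain ⟨K₀, hK₀, ⟨e⟩⟩ := DerivedCategory.exists_iso_Q_obj_of_isLE G b
  obtain ⟨R, ρ, hρ, hR, hR'⟩ := exists_flat_rep K₀ b
  haveI := hρ
  haveI := isIso_Q_map ρ inferInstance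
  haveI := isIso_lpullComparison i hR'
  let eR : DerivedCategory.Q.obj R ≅ G := asIso (DerivedCategory.Q.map ρ) ≪≫ e.symm
  have hg : (R.sc b).g = 0 := (R.isZero_of_isStrictlyLE b ((ComplexShape.up ℤ).next b) (by simp)).eq_of_tgt _ _
  haveI : (Scheme.Modules.pullback i).IsLeftAdjoint := (Scheme.Modules.pullbackPushforwardAdjunction i).isLeftAdjoint
  haveI := Functor.preservesRightHomology_of_zero_g (Scheme.Modules.pullback i) (R.sc b) hg
  exact ⟨(DerivedCategory.homologyFunctor _ b).mapIso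
      ((DCoh.Lpull i).mapIso eR.symm ≪≫ asIso ((lpullComparison i).app R)) ≪≫
    (DerivedCategory.homologyFunctorFactors _ b).app _ ≪≫ (R.sc b).mapHomologyIso' (Scheme.Modules.pullback i) ≪≫
    (Scheme.Modules.pullback i).mapIso (((DerivedCategory.homologyFunctorFactors _ b).app R).symm ≪≫
      (DerivedCategory.homologyFunctor _ b).mapIso eR)⟩

/-- Stalks of finite type modules are finite. -/
theorem finite_stalk_of_ft {N : X.Modules} (hN : CohB1.IsFT N) (x : X) :
    Module.Finite (X.presheaf.stalk x) ((DerSch.stalkFunctor X x).obj N : Type u) := by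
  obtain ⟨σ, hσ⟩ := hN.exists_localGeneratorsData
  obtain ⟨k, hk⟩ := ((Opens.coversTop_iff _ σ.X).1 σ.coversTop).exists_mem x
  haveI : Finite (σ.generators k).I := (hσ.isFiniteType k).finite
  exact ⟨Submodule.fg_def.2 ⟨_, Set.finite_range _, RefX.gens_span_eq_top N (σ.generators k) x hk⟩⟩

/-- A module over a ring modulo a nilpotent ideal vanishes if its reduction does. -/
lemma subsingleton_of_ext {A B : Type u} [CommRing A] [CommRing B] (φ : A →+* B) (hφ : Function.Surjective φ)
    (hnil : IsNilpotent (RingHom.ker φ)) (M : ModuleCat.{u} A)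
    (h : Subsingleton ((ModuleCat.extendScalars.{u, u, u} φ).obj M)) : Subsingleton M := by
  let I := RingHom.ker φ
  let p : Submodule A M := I • ⊤
  let q : M ⟶ ModuleCat.of A (M ⧸ p) := ModuleCat.ofHom p.mkQ
  haveI := H9Misc.DRingNilp.isIso_unit φ hφ (ModuleCat.of A (M ⧸ p)) fun r hr y => by
    obtain ⟨z, rfl⟩ := Submodule.mkQ_surjective p y
    exact (Submodule.Quotient.mk_eq_zero p).2 (Submodule.smul_mem_smul hr Submodule.mem_top)
  have hinj := ((ConcreteCategory.isIso_iff_bijective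
    ((ModuleCat.extendRestrictScalarsAdj φ).unit.app (ModuleCat.of A (M ⧸ p)))).1 inferInstance).1
  have hp : p = ⊤ := eq_top_iff.2 fun x _ => by
    refine (Submodule.Quotient.mk_eq_zero p).1 (hinj ?_)
    have hn := congrArg (fun f => f.hom x) ((ModuleCat.extendRestrictScalarsAdj φ).unit.naturality q)
    refine (show (ModuleCat.extendRestrictScalarsAdj φ).unit.app (ModuleCat.of A (M ⧸ p)) (q x) = _ from hn).trans ?_
    refine ((congrArg ((ModuleCat.extendScalars.{u, u, u} φ).map q).hom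
      (@Subsingleton.elim ((ModuleCat.extendScalars.{u, u, u} φ).obj M : Type u) h
        (((ModuleCat.extendRestrictScalarsAdj φ).unit.app M).hom x) 0)).trans
      (map_zero ((ModuleCat.extendScalars.{u, u, u} φ).map q).hom)).trans
      (map_zero ((ModuleCat.extendRestrictScalarsAdj φ).unit.app (ModuleCat.of A (M ⧸ p))).hom).symm
  have hk : ∀ k : ℕ, I ^ k • (⊤ : Submodule A M) = ⊤ := by
    intro k
    induction k with
    | zero => rw [pow_zero, Ideal.one_eq_top, Submodule.top_smul]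
    | succ k ih => rw [pow_succ, Submodule.mul_smul, show I • (⊤ : Submodule A M) = ⊤ from hp, ih]
  obtain ⟨k, hk0⟩ := hnil
  have h0 := hk k
  rw [show I ^ k = (⊥ : Ideal A) from hk0, Submodule.bot_smul] at h0
  exact (Submodule.subsingleton_iff A).1 (subsingleton_of_bot_eq_top h0)

/-- Finite type is detected on a thickening. -/
theorem isFT_of_isFT_pullback (i : X ⟶ X') [IsClosedImmersion i] [Surjective i] (hi : NilThick i)
    (M : X'.Modules) (h : CohB1.IsFT ((Scheme.Modules.pullback i).obj M)) : CohB1.IsFT M := by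
  refine isFT_of_local fun y => ?_
  obtain ⟨x, rfl⟩ := i.surjective y
  let S := DerSch.stalkFunctor X' (i x)
  have hfx : Module.Finite (X.presheaf.stalk x)
      ((Scheme.Modules.pullback i ⋙ DerSch.stalkFunctor X x).obj M : Type u) := finite_stalk_of_ft h x
  have hfin : Module.Finite (X'.presheaf.stalk (i x)) (S.obj M : Type u) :=
    H9Misc.DRingNilp.finite_of_extendScalars (i.stalkMap x).hom (i.stalkMap_surjective x) (hi x) _
      (@Module.Finite.equiv _ _ _ _ _ _ _ _ hfx ((stalkPullbackIso i x).app M).toLinearEquiv)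
  obtain ⟨n, v, hv⟩ := Module.Finite.exists_fin (R := X'.presheaf.stalk (i x)) (M := (S.obj M : Type u))
  obtain ⟨W, hxW, hW⟩ := exists_of_germs M (i x) v
  obtain ⟨g, hg⟩ := hW W hxW le_rfl
  let x₀ : (W : Scheme.{u}) := ⟨i x, hxW⟩
  let C := cokernel g
  let π : M.restrict W.ι ⟶ C := cokernel.π g
  let adj := Scheme.Modules.restrictAdjunction W.ι
  let π' : M ⟶ (Scheme.Modules.pushforward W.ι).obj C := unitW W M ≫ (Scheme.Modules.pushforward W.ι).map π
  have hπ' : S.map π' = 0 := by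
    haveI := isIso_stalk_unitW hxW M
    have hs : Function.Surjective (stalkAt hxW g) := by
      intro m
      have hm : m ∈ Submodule.span (X'.presheaf.stalk (i x)) (Set.range v) := hv ▸ Submodule.mem_top
      have : Submodule.span (X'.presheaf.stalk (i x)) (Set.range v) ≤ LinearMap.range (stalkAt hxW g).hom :=
        Submodule.span_le.2 (by rintro _ ⟨k, rfl⟩; exact ⟨_, hg k⟩)
      exact this hm
    haveI : Epi (stalkAt hxW g) := (ModuleCat.epi_iff_surjective _).2 hs
    rw [← cancel_epi (stalkAt hxW g), comp_zero, Functor.map_comp, ← Category.assoc, stalkAt_spec,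
      ← Functor.map_comp, Category.assoc, ← Functor.map_comp, show g ≫ π = 0 from cokernel.condition g,
      Functor.map_zero, comp_zero, Functor.map_zero]
  have hC : Subsingleton (C.presheaf.stalk x₀) := by
    let R := Scheme.Modules.restrictFunctor W.ι
    have h1 : (TopCat.Presheaf.stalkFunctor Ab.{u} (i x)).map ((Scheme.Modules.toPresheaf X').map π') = 0 := by
      ext z
      exact congrArg (fun q => q.hom z) hπ'
    have h2 : (TopCat.Presheaf.stalkFunctor Ab.{u} x₀).map ((Scheme.Modules.toPresheaf _).map (R.map π')) = 0 := by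
      let e := Scheme.Modules.restrictStalkNatIso W.ι x₀
      have hn := e.hom.naturality π'
      refine (cancel_mono (e.hom.app ((Scheme.Modules.pushforward W.ι).obj C))).1
        ((hn.trans ?_).trans zero_comp.symm)
      exact (congrArg (e.hom.app M ≫ ·) h1).trans comp_zero
    have hπ : R.map π' ≫ adj.counit.app C = π := by
      exact (adj.homEquiv_counit ..).symm.trans ((congrArg (adj.homEquiv M C).symm
        (show π' = adj.homEquiv M C π from (adj.homEquiv_unit ..).symm)).trans ((adj.homEquiv M C).symm_apply_apply π))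
    have h3 : (DerSch.stalkFunctor (W : Scheme.{u}) x₀).map π = 0 := by
      rw [← hπ, Functor.map_comp]
      convert zero_comp
      ext z
      exact congrArg (fun q => q.hom z) h2
    have hsurj := (ModuleCat.epi_iff_surjective ((DerSch.stalkFunctor (W : Scheme.{u}) x₀).map π)).1 inferInstance
    refine ⟨fun a b => ?_⟩
    obtain ⟨a', ha⟩ := hsurj a
    obtain ⟨b', hb⟩ := hsurj b
    rw [← ha, ← hb, h3]; rfl
  -- the cokernel vanishes near the point
  let iW := i ∣_ W
  haveI : Surjective iW := surjective_restrict i W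
  have hiW := hi.restrict W
  let T := (Scheme.Modules.pullback iW).obj C
  have hT : CohB1.IsFT T := by
    refine isFT_of_epi' ((Scheme.Modules.pullback iW).map π) (isFT_of_iso' ?_ (isFT_restrict (i ⁻¹ᵁ W).ι h))
    exact (Scheme.Modules.restrictFunctorIsoPullback (i ⁻¹ᵁ W).ι).app _ ≪≫
      (Scheme.Modules.pullbackComp (i ⁻¹ᵁ W).ι i).app M ≪≫
      (Scheme.Modules.pullbackCongr (morphismRestrict_ι i W).symm).app M ≪≫
      ((Scheme.Modules.pullbackComp iW W.ι).app M).symm ≪≫
      (Scheme.Modules.pullback iW).mapIso ((Scheme.Modules.restrictFunctorIsoPullback W.ι).app M).symm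
  let x₁ : (i ⁻¹ᵁ W : Scheme.{u}) := ⟨x, hxW⟩
  have hsub : ∀ z : (i ⁻¹ᵁ W : Scheme.{u}), Subsingleton (T.presheaf.stalk z) ↔
      Subsingleton (C.presheaf.stalk (iW z)) := fun z => by
    let e := ((stalkPullbackIso iW z).app C).toLinearEquiv.toEquiv
    refine ⟨fun hz => subsingleton_of_ext (iW.stalkMap z).hom (iW.stalkMap_surjective z) (hiW z) _
      (@Equiv.subsingleton _ _ e.symm hz), fun hz => ?_⟩
    refine @Equiv.subsingleton _ _ e ?_
    haveI : Subsingleton ((DerSch.stalkFunctor (W : Scheme.{u}) (iW z)).obj C : Type u) := hz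
    exact ModuleCat.subsingleton_of_isZero ((ModuleCat.extendScalars.{u, u, u} (iW.stalkMap z).hom).map_isZero
      (ModuleCat.isZero_of_subsingleton _))
  have hx₁ : iW x₁ = x₀ := Subtype.ext (morphismRestrict_base_coe i W x₁)
  let U₁ : (i ⁻¹ᵁ W : Scheme.{u}).Opens := ⟨(CohB1.support T)ᶜ, (QCoh.isClosed_support_of_ft hT).isOpen_compl⟩
  have hx₁U : x₁ ∈ U₁ := fun hns => hns ((hsub x₁).2 (hx₁.symm ▸ hC))
  obtain ⟨V, hV⟩ := KZ.ClosedDev.exists_preimage_eq iW U₁
  have hx₀V : x₀ ∈ V := by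
    rw [← hx₁]
    exact (SetLike.ext_iff.1 hV x₁).2 hx₁U
  have hCV : IsZero (C.restrict V.ι) := isZero_of_stalk _ fun y => by
    obtain ⟨z, hz⟩ := iW.surjective y.1
    have hzU : z ∈ U₁ := (SetLike.ext_iff.1 hV z).1 (show iW z ∈ V from hz.symm ▸ y.2)
    have h2 : Subsingleton (C.presheaf.stalk y.1) := hz ▸ (hsub z).1 (not_not.1 hzU)
    exact @ModuleCat.isZero_of_subsingleton _ _ _ (@Equiv.subsingleton _ _
      ((Scheme.Modules.restrictStalkNatIso V.ι y).app _).addCommGroupIsoToAddEquiv.toEquiv h2)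
  refine ⟨_, V.ι ≫ W.ι, inferInstance, ⟨⟨x₀, hx₀V⟩, rfl⟩, ?_⟩
  let RV := Scheme.Modules.restrictFunctor V.ι
  haveI : Epi (RV.map g) := Preadditive.epi_of_isZero_cokernel _ (hCV.of_iso (PreservesCokernel.iso RV g).symm)
  exact isFT_of_iso' ((Scheme.Modules.restrictFunctorComp V.ι W.ι).app M).symm
    (isFT_of_epi' (RV.map g) (isFT_restrict V.ι (isFT_restrict W.ι (isFT_freeMod n))))

/-- Pseudo-coherence descends along thickenings, by induction on the amplitude. -/
theorem locPC_of_lpull_aux : ∀ (d : ℕ) (m : ℤ) {X X' : Scheme.{u}} (i : X ⟶ X') [IsClosedImmersion i]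
    [Surjective i] [DCoh.HasLpull i], NilThick i → ∀ G : DCoh.D X', (∀ n, m + d ≤ n → IsZero (DCoh.HD G n)) →
      LocPC m ((DCoh.Lpull i).obj G) → LocPC m G := by
  intro d
  induction d with
  | zero => exact fun m _ _ i _ _ _ _ G hz _ => locPC_of_isZero m G fun n hn => hz n (by omega)
  | succ d ih =>
    intro m X X' i _ _ _ hi G hz hF
    let b : ℤ := m + d
    have hzb : ∀ n, b < n → IsZero (DCoh.HD G n) := fun n hn => hz n (by omega)
    haveI : G.IsLE b := (DerivedCategory.isLE_iff G b).2 hzb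
    haveI := isLE_lpull i G b
    obtain ⟨et⟩ := nonempty_hd_lpull_top i G b hzb
    have hft : CohB1.IsFT (DCoh.HD G b) := isFT_of_isFT_pullback i hi _ (isFT_of_iso' et
      (isFT_top (hF.mono (by omega : m ≤ b)) ((DerivedCategory.isLE_iff _ b).1 inferInstance)))
    refine LocPC.of_local fun y => ?_
    obtain ⟨U, j, _, hyj, S, φ, hS, hSb, hφ⟩ := exists_top_cover hzb hft y
    let O := j.opensRange
    haveI : IsIso (j.isoOpensRange.inv) := inferInstance
    let c : (O : Scheme.{u}) ⟶ U := j.isoOpensRange.inv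
    have hc : c ≫ j = O.ι := Scheme.Hom.isoOpensRange_inv_comp j
    refine ⟨_, O.ι, inferInstance, ⟨⟨y, hyj⟩, rfl⟩, ?_⟩
    let S' := (rCx c).obj S
    let φ' : DerivedCategory.Q.obj S' ⟶ (rho O.ι).obj G :=
      ((rhoQ c).app S).inv ≫ (rho c).map φ ≫ (rhoComp c j _ hc G).hom
    have hSb' : ∀ k, k ≠ b → IsZero (S'.X k) := fun k hk =>
      (Scheme.Modules.restrictFunctor c).map_isZero (hSb k hk)
    let H := DerivedCategory.homologyFunctor (O : Scheme.{u}).Modules
    haveI : Epi ((H b).map φ') := by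
      haveI : Epi ((rho c ⋙ H b).map φ) := by
        rw [← NatIso.naturality_2 (mapDCHomologyIso (Scheme.Modules.restrictFunctor c) b) φ]
        haveI := hφ
        exact epi_comp' inferInstance (epi_comp'
          (inferInstanceAs (Epi ((Scheme.Modules.restrictFunctor c).map
            ((DerivedCategory.homologyFunctor U.Modules b).map φ)))) inferInstance)
      rw [Functor.map_comp, Functor.map_comp]
      exact epi_comp' inferInstance (epi_comp' this inferInstance)
    obtain ⟨C, u, δ, hT⟩ := distinguished_cocone_triangle φ'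
    have hzS : ∀ k, k ≠ b → IsZero ((H k).obj (DerivedCategory.Q.obj S')) := fun k hk =>
      (ShortComplex.isZero_homology_of_isZero_X₂ _ (hSb' k hk)).of_iso
        ((DerivedCategory.homologyFunctorFactors _ k).app _)
    have hzC : ∀ k, m + d ≤ k → IsZero ((H k).obj C) := fun k hk => by
      haveI : Epi ((H k).map u) :=
        (DerivedCategory.HomologySequence.exact₃ _ hT k (k + 1) rfl).epi_f
          ((hzS (k + 1) (by omega)).eq_of_tgt _ _)
      refine IsZero.of_epi_eq_zero ((H k).map u) ?_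
      rcases eq_or_lt_of_le hk with h | h
      · obtain rfl : b = k := h
        refine (cancel_epi ((H b).map φ')).1 ?_
        rw [← Functor.map_comp]
        exact ((congrArg (H b).map (comp_distTriang_mor_zero₁₂ _ hT)).trans (Functor.map_zero _ _ _)).trans
          comp_zero.symm
      · exact (((Scheme.Modules.restrictFunctor O.ι).map_isZero (hzb k h)).of_iso
          (hdRhoIso O.ι G k)).eq_of_src _ _
    have hS' := isStrictlyPerfect_restrict c hS
    have hQS : ∀ r : ℤ, LocPC r (DerivedCategory.Q.obj S') := fun r => LocSP.locPC (fun z' => by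
      exact ⟨_, (⊤ : (O : Scheme.{u}).Opens).ι, inferInstance, ⟨⟨z', trivial⟩, rfl⟩, _,
        isStrictlyPerfect_restrict _ hS', ⟨((rhoQ _).app S').symm⟩⟩) r
    haveI := hasLpull (i ∣_ O)
    haveI := surjective_restrict i O
    obtain ⟨er⟩ := nonempty_lpull_restrict i O G
    have hFO : LocPC m ((DCoh.Lpull (i ∣_ O)).obj ((rho O.ι).obj G)) :=
      (hF.restrict (i ⁻¹ᵁ O).ι).of_iso er.symm
    obtain ⟨T', hT', ⟨e₁⟩, ⟨e₂⟩, ⟨e₃⟩⟩ := exists_lpull_triangle (i ∣_ O) _ hT
    have hC : LocPC m C := ih m (i ∣_ O) (hi.restrict O) C hzC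
      (((locPC_two_of_three m T' hT').1
        (((isPseudoCoherentD_iff _ _).1 (isPseudoCoherentD_lpull (i ∣_ O)
          ((isPseudoCoherentD_iff _ _).2 (hQS (m + 1))))).of_iso e₁.symm)
        (hFO.of_iso e₂.symm)).of_iso e₃)
    exact (locPC_two_of_three m _ hT).2.1 (hQS m) hC

/-- Pseudo-coherence descends along finite order thickenings. -/
theorem locPC_of_lpull (i : X ⟶ X') (hi : MoreMor.IsFiniteOrderThickening i) [DCoh.HasLpull i]
    (G : DCoh.D X') (m : ℤ) (h : LocPC m ((DCoh.Lpull i).obj G)) : LocPC m G := by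
  haveI := hi.1.1
  haveI := hi.1.2
  refine LocPC.of_local fun y => ?_
  obtain ⟨O, hO, hyO, -⟩ := exists_isAffineOpen_mem_and_subset (U := ⊤) (x := y) trivial
  haveI : CompactSpace (i ⁻¹ᵁ O : X.Opens) := isCompact_iff_compactSpace.1 (hO.preimage i).isCompact
  haveI := hasLpull (i ∣_ O)
  haveI := surjective_restrict i O
  obtain ⟨er⟩ := nonempty_lpull_restrict i O G
  have hF : LocPC m ((DCoh.Lpull (i ∣_ O)).obj ((rho O.ι).obj G)) := (h.restrict (i ⁻¹ᵁ O).ι).of_iso er.symm
  have hn := (nilThick_of_finiteOrder hi).restrict O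
  obtain ⟨b, hb⟩ := exists_bound_of_locPC hF
  have hzb := isZero_HD_of_lpull (i ∣_ O) hn _ b hb
  exact ⟨_, O.ι, inferInstance, ⟨⟨y, hyO⟩, rfl⟩, locPC_of_lpull_aux (b + 1 - m).toNat m (i ∣_ O) hn _
    (fun n hn' => hzb n (by omega)) hF⟩

end Groth.Agent.RelPC17
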