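import Groth.Agent.H23.CohTensor
import Groth.Agent.KFlatLib.Scheme.TensorOver
import Groth.Agent.KFlatLib.Scheme.RpushCoherent
import Groth.Agent.KFlatLib.Scheme.Generator

/-!
# Supports and lower bounds of derived tensor products
-/

set_option linter.style.haveILetI false
set_option backward.isDefEq.respectTransparency false

universe u

open CategoryTheory CategoryTheory.Limits AlgebraicGeometry ZeroObject

attribute [local instance] HasDerivedCategory.standard

namespace Groth.Agent.RelPC17.PerfTensorBd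

open Groth.Agent Groth.Agent.KFlatLib Groth.Agent.H23.CohTensor

variable {X : Scheme.{u}}

lemma isZero_tensorCx_of_isZero (L : CochainComplex X.Modules ℤ) {K : CochainComplex X.Modules ℤ}
    (hK : IsZero K) : IsZero ((DCoh.tensorCx.obj L).obj K) := by
  rw [IsZero.iff_id_eq_zero]
  refine HomologicalComplex.hom_ext _ _ fun n => ?_
  refine HomologicalComplex.mapBifunctor.hom_ext fun p q (_ : p + q = n) => ?_
  exact ((DCoh.tensorBi.obj _).map_isZero
    ((HomologicalComplex.eval X.Modules (ComplexShape.up ℤ) q).map_isZero hK)).eq_of_src _ _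

/-- Where `K` vanishes, `L ⊗ K` does. -/
lemma isZero_rho_ltensorCx {U : Scheme.{u}} (j : U ⟶ X) [IsOpenImmersion j]
    (K : CochainComplex X.Modules ℤ) [DCoh.HasLTensorCx K] (L : DCoh.D X)
    (h : IsZero ((rho j).obj (DCoh.toD X K))) : IsZero ((rho j).obj ((DCoh.LTensorCx K).obj L)) := by
  haveI := (flatCover X).quasiIso_ψ K
  haveI := isIso_Q_map ((flatCover X).ψ.app K) inferInstance
  have hC : IsZero (DCoh.toD U ((pullCx j).obj ((kRes X).obj K))) := h.of_iso (DerivedCategory.Q.mapIso ((restrictPullCxIso j).app _).symm ≪≫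
    ((rhoQ j).app _).symm ≪≫ (rho j).mapIso (asIso (DerivedCategory.Q.map ((flatCover X).ψ.app K))))
  have hz : ∀ i, IsZero (((pullCx j).obj ((kRes X).obj K)).homology i) := fun i =>
    ((DerivedCategory.homologyFunctor _ i).map_isZero hC).of_iso
      ((DerivedCategory.homologyFunctorFactors _ i).app ((pullCx j).obj ((kRes X).obj K))).symm
  haveI : QuasiIso (0 : ((pullCx j).obj ((kRes X).obj K)) ⟶ 0) := ⟨fun i => (quasiIsoAt_iff_isIso_homologyMap _ i).2
    ⟨0, (hz i).eq_of_src _ _,
      ((HomologicalComplex.homologyFunctor _ _ i).map_isZero (isZero_zero _)).eq_of_src _ _⟩⟩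
  obtain ⟨g⟩ := nonempty_tensorCx_congr ((pullCx j).obj (repK L)) (isKFlat_pullback j (isKFlat_repK L)) (0 : ((pullCx j).obj ((kRes X).obj K)) ⟶ 0)
  have h0 : IsZero (DerivedCategory.Q.obj ((DCoh.tensorCx.obj ((pullCx j).obj (repK L))).obj ((pullCx j).obj ((kRes X).obj K)))) :=
    (DerivedCategory.Q.map_isZero (isZero_tensorCx_of_isZero _ (isZero_zero _))).of_iso g
  exact h0.of_iso ((rho j).mapIso (ltensorRepIso K (isKFlat_repK L) (repKIso L)).symm ≪≫
    (rhoQ j).app _ ≪≫ DerivedCategory.Q.mapIso (((restrictPullCxIso j).app _) ≪≫ (pullTensorCxIso j (repK L) ((kRes X).obj K)).symm))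

lemma isZero_tensorCx_X_of_lt (L K : CochainComplex X.Modules ℤ) (a k i : ℤ)
    (hL : ∀ p, p < a → IsZero (L.X p)) (hK : ∀ q, q < k → IsZero (K.X q)) (hi : i < a + k) :
    IsZero (((DCoh.tensorCx.obj L).obj K).X i) := by
  rw [IsZero.iff_id_eq_zero]
  refine HomologicalComplex.mapBifunctor.hom_ext fun p q (h : p + q = i) => ?_
  by_cases hp : p < a
  · exact ((DCoh.tensorBi.map_isZero (hL p hp)).obj _).eq_of_src _ _
  · exact ((DCoh.tensorBi.obj _).map_isZero (hK q (by omega))).eq_of_src _ _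

/-- A perfect object tensored with an object bounded below is bounded below. -/
theorem exists_ge_ltensorCx [CompactSpace X] (K : CochainComplex X.Modules ℤ) [DCoh.HasLTensorCx K]
    (k : ℤ) (hK : ∀ i, i < k → IsZero (DCoh.HD (DCoh.toD X K) i)) {L : DCoh.D X} (hL : LocSP L) :
    ∃ a : ℤ, ∀ i, i < a → IsZero (DCoh.HD ((DCoh.LTensorCx K).obj L) i) := by
  choose U j hj hx P hP e using hL
  choose a b hab using fun x => (hP x).1
  obtain ⟨t, ht⟩ := isCompact_univ.elim_finite_subcover (fun x : X => Set.range (j x).base)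
    (fun x => (haveI := hj x; (j x).isOpenEmbedding.isOpen_range))
    (fun x _ => Set.mem_iUnion.2 ⟨x, hx x⟩)
  obtain ⟨m, hm⟩ := (t.image a).finite_toSet.bddBelow
  refine ⟨m + k, fun i hi => isZero_of_stalk _ fun y => ?_⟩
  obtain ⟨x, hxt, v, hv⟩ : ∃ x ∈ t, y ∈ Set.range (j x).base := by
    simpa using ht (Set.mem_univ y)
  haveI := hj x
  obtain ⟨e'⟩ := e x
  haveI := (flatCover X).quasiIso_ψ K
  haveI := isIso_Q_map ((flatCover X).ψ.app K) inferInstance
  haveI := hasLTensorCx ((kRes X).obj K)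
  haveI hq : QuasiIso (show (kRes X).obj K ⟶ K from (flatCover X).ψ.app K) :=
    inferInstanceAs (QuasiIso ((flatCover X).ψ.app K))
  obtain ⟨cg⟩ := nonempty_LTensorCx_congr (show (kRes X).obj K ⟶ K from (flatCover X).ψ.app K)
  have hPk := isKFlat_of_isStrictlyPerfect (hP x)
  obtain ⟨r⟩ := nonempty_rho_ltensorCx (j x) ((kRes X).obj K) (isKFlat_kRes K) L (P x) hPk e'
  haveI : ((pullCx (j x)).obj ((kRes X).obj K)).IsGE k := (CochainComplex.isGE_iff _ _).2 fun q hq => by
    rw [HomologicalComplex.exactAt_iff_isZero_homology]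
    refine IsZero.of_iso ?_ ((DerivedCategory.homologyFunctorFactors _ q).app ((pullCx (j x)).obj ((kRes X).obj K))).symm
    exact ((Scheme.Modules.restrictFunctor (j x)).map_isZero (hK q hq)).of_iso
      ((DerivedCategory.homologyFunctor _ q).mapIso
        (DerivedCategory.Q.mapIso ((restrictPullCxIso (j x)).app ((kRes X).obj K)).symm ≪≫
          ((rhoQ (j x)).app _).symm ≪≫
          (rho (j x)).mapIso (asIso (DerivedCategory.Q.map ((flatCover X).ψ.app K)))) ≪≫
        restrictHDIso (j x) (DCoh.toD X K) q)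
  obtain ⟨s⟩ := nonempty_tensorCx_congr (P x) hPk (((pullCx (j x)).obj ((kRes X).obj K)).πTruncGE k)
  have hz : IsZero (DCoh.HD ((rho (j x)).obj ((DCoh.LTensorCx K).obj L)) i) := by
    refine IsZero.of_iso ?_ ((DerivedCategory.homologyFunctor _ i).mapIso
      ((rho (j x)).mapIso (cg.app L).symm ≪≫ r ≪≫ s) ≪≫
      (DerivedCategory.homologyFunctorFactors _ i).app _)
    refine ShortComplex.isZero_homology_of_isZero_X₂ _ (isZero_tensorCx_X_of_lt _ _ (a x) k i
      (fun p hp => hab x p (Or.inl hp)) (fun q hq => ?_) ?_)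
    · exact CochainComplex.isZero_of_isStrictlyGE _ k q hq
    · have := hm (Finset.mem_coe.2 (Finset.mem_image.2 ⟨x, hxt, rfl⟩))
      omega
  rw [← hv]
  exact isZero_stalk_of_restrict (j x) v
    ((DerSch.stalkFunctor _ v).map_isZero (hz.of_iso (restrictHDIso (j x) _ i).symm))

end Groth.Agent.RelPC17.PerfTensorBd
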