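import Groth.Agent.Approx.ProperModel
import Groth.Agent.Approx.FP

/-!
# A proper morphism is a limit of proper morphisms over schemes of finite type over the integers, with closed immersions
-/

set_option autoImplicit false
set_option backward.isDefEq.respectTransparency false
set_option backward.isDefEq.respectTransparency.types false
universe u

namespace Groth.Agent.RelPC17

open AlgebraicGeometry CategoryTheory Limits TopologicalSpace Opposite
open Groth.Agent.MorLib Groth.Agent.Approx

/-- A proper morphism is a limit of proper morphisms between stages. -/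
theorem exists_proper_system_of_setup {X S : Scheme.{u}} (f : X ⟶ S) [IsProper f] [CompactSpace S]
    [QuasiSeparatedSpace S] (σ : Setup f) :
    ∃ (I : Type u) (_ : SmallCategory I) (_ : IsCofiltered I) (DX DS : I ⥤ Scheme.{u}) (φ : DX ⟶ DS)
      (cX : Cone DX) (cS : Cone DS) (_ : IsLimit cX) (_ : IsLimit cS) (eX : cX.pt ≅ X) (eS : cS.pt ≅ S),
      (∀ (i j : I) (a : i ⟶ j), IsAffineHom (DX.map a) ∧ IsAffineHom (DS.map a)) ∧
      (∀ i, IsProper (φ.app i) ∧ CompactSpace (DS.obj i) ∧ FTZ (DS.obj i)) ∧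
      (∀ i, cX.π.app i ≫ φ.app i = eX.hom ≫ f ≫ eS.inv ≫ cS.π.app i) ∧
      (∀ (i j : I) (a : i ⟶ j),
        IsClosedImmersion (pullback.lift (DX.map a) (φ.app i) (φ.naturality a))) ∧
      (IsAffine σ.PS → ∀ i, IsAffine (DS.obj i)) := by
  haveI : CompactSpace X := QuasiCompact.compactSpace_of_compactSpace f
  haveI : QuasiSeparatedSpace X := quasiSeparatedSpace_of_quasiSeparated f
  obtain ⟨p0, hp0⟩ := σ.eventually_closedImmersion
  obtain ⟨p1, hp1⟩ := σ.eventually_separated
  obtain ⟨p, h0, h1⟩ := exists_ge_ge p0 p1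
  haveI := hp0 p h0
  haveI := hp1 p h1
  haveI : IsProper (σ.yProj p ≫ σ.yS p) := by rw [σ.yProj_snd]; infer_instance
  obtain ⟨hS⟩ := nonempty_isLimit_sch σ.gS
  let D := sysSch σ.gS
  let i : (Idx σ.gS)ᵒᵖ := op p.1.1
  haveI : ∀ k, CompactSpace (D.obj k) := fun k => compactSpace_spec σ.gS k.unop
  haveI : ∀ k, QuasiSeparatedSpace (D.obj k) := fun k => quasiSeparatedSpace_spec σ.gS k.unop
  haveI : ∀ {k l : (Idx σ.gS)ᵒᵖ} (a : k ⟶ l), IsAffineHom (D.map a) := fun a => isAffineHom_trans σ.gS _
  let xi : (alg σ.gX p.1.2).spec ⟶ D.obj i := σ.hom p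
  haveI : LocallyOfFiniteType xi := by
    haveI := σ.lfp_hom p
    exact (inferInstance : LocallyOfFiniteType (σ.hom p))
  haveI : CompactSpace (alg σ.gX p.1.2).spec := compactSpace_spec σ.gX p.1.2
  haveI : QuasiSeparatedSpace (alg σ.gX p.1.2).spec := quasiSeparatedSpace_spec σ.gX p.1.2
  have hY : IsPullback (pullback.fst (σ.hom p) (proj σ.gS p.1.1)) (σ.yS p) xi ((coneSch σ.gS).π.app i) :=
    IsPullback.of_hasPullback _ _
  haveI : IsSeparated (σ.yS p) := hp1 p h1
  haveI : CompactSpace (coneSch σ.gS).pt := ‹CompactSpace S›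
  haveI : QuasiSeparatedSpace (coneSch σ.gS).pt := ‹QuasiSeparatedSpace S›
  haveI : CompactSpace (σ.Y p) := σ.compactSpace_Y p
  haveI : QuasiSeparatedSpace (σ.Y p) := σ.quasiSeparatedSpace_Y p
  let bc := BC.cone (c := coneSch σ.gS) D xi hY
  let j : X ⟶ bc.pt := σ.yProj p
  haveI : IsClosedImmersion j := hp0 p h0
  haveI : IsProper (j ≫ σ.yS p) := ‹IsProper (σ.yProj p ≫ σ.yS p)›
  obtain ⟨k1, hk1⟩ := exists_proper_stage D hS xi hY j
  haveI : ∀ {k l : Over i} (a : k ⟶ l), IsAffineHom ((BC.diag D xi).map a) := fun a => BC.isAffineHom_map D xi a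
  haveI : ∀ k : Over i, CompactSpace ((BC.diag D xi).obj k) := fun k => BC.compactSpace_obj D xi k
  haveI : ∀ k : Over i, QuasiSeparatedSpace ((BC.diag D xi).obj k) := fun k => BC.quasiSeparatedSpace_obj D xi k
  haveI : CompactSpace bc.pt := ‹CompactSpace (σ.Y p)›
  haveI : QuasiSeparatedSpace bc.pt := ‹QuasiSeparatedSpace (σ.Y p)›
  obtain ⟨hX⟩ := nonempty_isLimit_imCone (c := bc) j (BC.isLimitCone (c := coneSch σ.gS) D xi hY hS)
  let φ : Over.forget k1 ⋙ imSys (c := bc) j ⟶ Over.forget k1 ⋙ Over.forget i ⋙ D :=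
    { app := fun k => (imI (c := bc) j k.left).subschemeι ≫ pullback.snd xi (D.map k.left.hom)
      naturality := fun k l a => by
        show (imSys (c := bc) j).map a.left ≫ _ ≫ _ = (_ ≫ _) ≫ D.map a.left.left
        rw [← Category.assoc, imSys_map_ι, Category.assoc, Category.assoc, BC.map_snd] }
  refine ⟨Over k1, inferInstance, inferInstance, _, _, φ, (imCone (c := bc) j).whisker (Over.forget k1),
    (coneSch σ.gS).whisker (Over.forget k1 ⋙ Over.forget i),
    (Functor.Initial.isLimitWhiskerEquiv (Over.forget k1) _).symm hX,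
    (Functor.Initial.isLimitWhiskerEquiv (Over.forget k1 ⋙ Over.forget i) _).symm hS,
    Iso.refl _, Iso.refl _, fun k l a => ⟨isAffineHom_imSys (c := bc) j a.left, ?_⟩,
    fun k => ⟨hk1 k.left k.hom, ?_, ?_⟩, fun k => ?_, fun k l a => ?_,
    fun hPS k => @isAffine_of_isAffineHom _ _ (alg σ.gS k.left.left.unop).π inferInstance hPS⟩
  · exact isAffineHom_trans σ.gS _
  · exact compactSpace_spec σ.gS k.left.left.unop
  · exact ftz_system σ.gS σ.ftS _
  · show (j ≫ bc.π.app k.left).toImage ≫ (imI (c := bc) j k.left).subschemeι ≫ pullback.snd xi (D.map k.left.hom) =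
      𝟙 _ ≫ f ≫ 𝟙 _ ≫ (coneSch σ.gS).π.app k.left.left
    rw [← Category.assoc, toImage_ι, Category.assoc]
    simp only [Category.id_comp]
    show j ≫ BC.proj (c := coneSch σ.gS) D xi hY k.left ≫ _ = _
    rw [BC.proj_snd, ← Category.assoc]
    exact congrArg (· ≫ (coneSch σ.gS).π.app k.left.left) (σ.yProj_snd p)
  · have hp := hk1 l.left l.hom
    have hbc := BC.isPullback_map D xi a.left
    let ιl := (imI (c := bc) j l.left).subschemeι
    let ιk := (imI (c := bc) j k.left).subschemeι
    let u := pullback.fst (φ.app l) (D.map a.left.left)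
    let v := pullback.snd (φ.app l) (D.map a.left.left)
    have hw : (u ≫ ιl) ≫ pullback.snd xi (D.map l.left.hom) = v ≫ D.map a.left.left := by
      rw [Category.assoc]; exact pullback.condition
    let m := hbc.lift (u ≫ ιl) v hw
    have hv : IsSeparated v := by
      haveI : IsProper (φ.app l) := hp
      exact MorphismProperty.pullback_snd _ _ inferInstance
    haveI : IsSeparated (m ≫ pullback.snd xi (D.map k.left.hom)) := by
      rw [hbc.lift_snd]; exact hv
    haveI : IsSeparated m := IsSeparated.of_comp m (pullback.snd xi (D.map k.left.hom))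
    show IsClosedImmersion (pullback.lift (f := φ.app l) (g := D.map a.left.left)
      ((imSys (c := bc) j).map a.left) (φ.app k) _)
    let c' := pullback.lift (f := φ.app l) (g := D.map a.left.left)
      ((imSys (c := bc) j).map a.left) (φ.app k) (φ.naturality a)
    have hc : c' ≫ m = ιk := hbc.hom_ext
      (by rw [Category.assoc, hbc.lift_fst, ← Category.assoc, pullback.lift_fst]; exact imSys_map_ι _ _)
      (by rw [Category.assoc, hbc.lift_snd, pullback.lift_snd])
    haveI : IsClosedImmersion (c' ≫ m) := by rw [hc]; infer_instance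
    exact IsClosedImmersion.of_comp c' m

/-- Setups with affine target model, over an affine base. -/
theorem exists_setup_affine {X S : Scheme.{u}} (f : X ⟶ S) [CompactSpace X] [QuasiSeparatedSpace X]
    [IsAffine S] : ∃ σ : Setup f, IsAffine σ.PS := by
  obtain ⟨σ⟩ := nonempty_setup f
  let B : Scheme.{u} := Spec (CommRingCat.of (ULift.{u} ℤ))
  haveI : IsAffineHom (specULiftZIsTerminal.from S) := inferInstance
  have hB : FTZ B := by
    rw [FTZ, specULiftZIsTerminal.hom_ext (IsTerminal.from specULiftZIsTerminal B) (𝟙 B)]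
    infer_instance
  let σ' : Setup f :=
    { P := σ.P
      PS := B
      gX := σ.gX
      gS := specULiftZIsTerminal.from S
      ψ := specULiftZIsTerminal.from σ.P
      comm := specULiftZIsTerminal.hom_ext _ _
      affX := σ.affX
      affS := inferInstance
      compX := σ.compX
      compS := inferInstance
      ftX := σ.ftX
      ftS := hB }
  have hA : IsAffine B := inferInstance
  exact ⟨σ', hA⟩

/-- A proper morphism is a limit of proper morphisms between stages, with closed immersions. -/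
theorem exists_proper_system_closed {X S : Scheme.{u}} (f : X ⟶ S) [IsProper f] [IsAffine S] :
    ∃ (I : Type u) (_ : SmallCategory I) (_ : IsCofiltered I) (DX DS : I ⥤ Scheme.{u}) (φ : DX ⟶ DS)
      (cX : Cone DX) (cS : Cone DS) (_ : IsLimit cX) (_ : IsLimit cS) (eX : cX.pt ≅ X) (eS : cS.pt ≅ S),
      (∀ (i j : I) (a : i ⟶ j), IsAffineHom (DX.map a) ∧ IsAffineHom (DS.map a)) ∧
      (∀ i, IsProper (φ.app i) ∧ CompactSpace (DS.obj i) ∧ FTZ (DS.obj i)) ∧
      (∀ i, cX.π.app i ≫ φ.app i = eX.hom ≫ f ≫ eS.inv ≫ cS.π.app i) ∧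
      (∀ (i j : I) (a : i ⟶ j),
        IsClosedImmersion (pullback.lift (DX.map a) (φ.app i) (φ.naturality a))) ∧
      (∀ i, IsAffine (DS.obj i)) := by
  haveI : CompactSpace X := QuasiCompact.compactSpace_of_compactSpace f
  haveI : QuasiSeparatedSpace X := quasiSeparatedSpace_of_quasiSeparated f
  obtain ⟨σ, hσ⟩ := exists_setup_affine f
  obtain ⟨I, i1, i2, DX, DS, φ, cX, cS, hX, hS, eX, eS, h1, h2, h3, h4, h5⟩ :=
    exists_proper_system_of_setup f σ
  exact ⟨I, i1, i2, DX, DS, φ, cX, cS, hX, hS, eX, eS, h1, h2, h3, h4, h5 hσ⟩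

end Groth.Agent.RelPC17
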