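import Groth.Agent.KFlatLib.Perfect.Retract
import Groth.Agent.KFlatLib.Perfect.Top
import Groth.Agent.KFlatLib.Scheme.ProjModule
import Groth.Agent.KZ.ClosedDev
import Groth.Prelude.Def_DerSch2

/-!
# Direct image along closed immersions in the derived category
-/

set_option autoImplicit false
set_option linter.style.haveILetI false
set_option backward.isDefEq.respectTransparency false
set_option backward.isDefEq.respectTransparency.types false

universe u

open CategoryTheory CategoryTheory.Limits AlgebraicGeometry TopologicalSpace Opposite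

attribute [local instance] HasDerivedCategory.standard

namespace Groth.Agent.RelPC17

open KFlatLib

variable {X P Q W Z : Scheme.{u}}

instance preservesFiniteColimits_push (i : Z ⟶ P) [IsClosedImmersion i] :
    PreservesFiniteColimits (Scheme.Modules.pushforward i) :=
  ⟨fun J _ _ => preservesColimitsOfShape_push i J⟩

instance preservesFiniteLimits_push (i : Z ⟶ P) :
    PreservesFiniteLimits (Scheme.Modules.pushforward i) :=
  haveI := (Scheme.Modules.pullbackPushforwardAdjunction i).rightAdjoint_preservesLimits
  inferInstance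

/-- Direct image along a closed immersion in the derived category. -/
noncomputable abbrev pD (i : Z ⟶ P) [IsClosedImmersion i] : DCoh.D Z ⥤ DCoh.D P :=
  (Scheme.Modules.pushforward i).mapDerivedCategory

/-- Direct image commutes with `Q`. -/
noncomputable def pQ (i : Z ⟶ P) [IsClosedImmersion i] :
    DerivedCategory.Q ⋙ pD i ≅ DerSch.pushCx i ⋙ DerivedCategory.Q :=
  (Scheme.Modules.pushforward i).mapDerivedCategoryFactors

/-- A composite of closed immersions. -/
noncomputable def pDComp (i : Z ⟶ P) [IsClosedImmersion i] (j : P ⟶ Q) [IsClosedImmersion j]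
    (l : Z ⟶ Q) [IsClosedImmersion l] (h : i ≫ j = l) (K : DCoh.D Z) :
    (pD j).obj ((pD i).obj K) ≅ (pD l).obj K :=
  (pD j).mapIso ((pD i).mapIso (repIso K).symm ≪≫ (pQ i).app _) ≪≫ (pQ j).app _ ≪≫
    DerivedCategory.Q.mapIso ((NatIso.mapHomologicalComplex
      (Scheme.Modules.pushforwardComp i j ≪≫ Scheme.Modules.pushforwardCongr h)
      (ComplexShape.up ℤ)).app _) ≪≫
    ((pQ l).app _).symm ≪≫ (pD l).mapIso (repIso K)

/-- Direct images along equal morphisms. -/
noncomputable def pDCongr {i i' : Z ⟶ P} [IsClosedImmersion i] [IsClosedImmersion i'] (h : i = i')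
    (K : DCoh.D Z) : (pD i).obj K ≅ (pD i').obj K := by
  subst h
  exact Iso.refl _

section Square

variable (i : Z ⟶ P) (j : W ⟶ P) [IsOpenImmersion j] {V : Scheme.{u}} (k : V ⟶ Z)
  [IsOpenImmersion k] (i' : V ⟶ W) (hsq : k ≫ i = i' ≫ j)

/-- The two ways around the square. -/
noncomputable def pushSq :
    Scheme.Modules.pushforward i' ⋙ Scheme.Modules.pushforward j ≅
      Scheme.Modules.pushforward k ⋙ Scheme.Modules.pushforward i :=
  Scheme.Modules.pushforwardComp i' j ≪≫ Scheme.Modules.pushforwardCongr hsq.symm ≪≫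
    (Scheme.Modules.pushforwardComp k i).symm

/-- The base change map along an open immersion. -/
noncomputable def pushRes :
    Scheme.Modules.pushforward i ⋙ Scheme.Modules.restrictFunctor j ⟶
      Scheme.Modules.restrictFunctor k ⋙ Scheme.Modules.pushforward i' where
  app N := (Scheme.Modules.restrictFunctor j).map
      ((Scheme.Modules.pushforward i).map ((Scheme.Modules.restrictAdjunction k).unit.app N) ≫
        (pushSq i j k i' hsq).inv.app _) ≫ (Scheme.Modules.restrictAdjunction j).counit.app _
  naturality {N N'} φ := by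
    let η := (Scheme.Modules.restrictAdjunction k).unit
    let c := (Scheme.Modules.restrictAdjunction j).counit
    let ψ := (Scheme.Modules.pushforward i').map ((Scheme.Modules.restrictFunctor k).map φ)
    have h1 : φ ≫ η.app N' = η.app N ≫ (Scheme.Modules.pushforward k).map
        ((Scheme.Modules.restrictFunctor k).map φ) := η.naturality φ
    have h2 := (pushSq i j k i' hsq).inv.naturality ((Scheme.Modules.restrictFunctor k).map φ)
    have kk : (Scheme.Modules.pushforward i).map φ ≫
        ((Scheme.Modules.pushforward i).map (η.app N') ≫ (pushSq i j k i' hsq).inv.app _) =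
        ((Scheme.Modules.pushforward i).map (η.app N) ≫ (pushSq i j k i' hsq).inv.app _) ≫
          (Scheme.Modules.pushforward j).map ψ := by
      rw [← Category.assoc, ← Functor.map_comp, h1, Functor.map_comp, Category.assoc, Category.assoc]
      exact congrArg (_ ≫ ·) h2
    have k2 := congrArg (fun t => (Scheme.Modules.restrictFunctor j).map t ≫ c.app _) kk
    simp only [Functor.map_comp, Category.assoc] at k2
    simp only [Functor.comp_map, Functor.map_comp, Category.assoc]
    exact k2.trans (congrArg (_ ≫ ·) (congrArg (_ ≫ ·) (c.naturality ψ)))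

variable (hr : k.opensRange = i ⁻¹ᵁ j.opensRange)

include hr in
lemma isIso_pushRes_app (N : Z.Modules) : IsIso ((pushRes i j k i' hsq).app N) := by
  refine Scheme.Modules.Hom.isIso_iff_isIso_app.mpr fun O => ?_
  have : k ''ᵁ (k ⁻¹ᵁ (i ⁻¹ᵁ (j ''ᵁ O))) = i ⁻¹ᵁ (j ''ᵁ O) := by
    rw [Scheme.Hom.image_preimage_eq_opensRange_inf, hr, inf_eq_right]
    exact (Opens.map i.base).monotone ((j.image_mono le_top).trans (by simp))
  have h1 : IsIso (((Scheme.Modules.restrictAdjunction k).unit.app N).app (i ⁻¹ᵁ (j ''ᵁ O))) := by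
    rw [Scheme.Modules.restrictAdjunction_unit_app_app]
    rw [show homOfLE (k.image_preimage_le _) = eqToHom this from Subsingleton.elim _ _]
    exact Functor.map_isIso N.presheaf _
  have h2 : IsIso (((pushSq i j k i' hsq).inv.app (N.restrict k)).app (j ''ᵁ O)) := inferInstance
  have h3 : IsIso (((Scheme.Modules.restrictAdjunction j).counit.app
      ((Scheme.Modules.pushforward i').obj (N.restrict k))).app O) := inferInstance
  simp only [pushRes]
  rw [Scheme.Modules.Hom.comp_app]
  refine IsIso.comp_isIso' ?_ h3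
  change IsIso (((Scheme.Modules.restrictAdjunction k).unit.app N).app (i ⁻¹ᵁ (j ''ᵁ O)) ≫
    ((pushSq i j k i' hsq).inv.app (N.restrict k)).app (j ''ᵁ O))
  exact IsIso.comp_isIso' h1 h2

/-- Direct image commutes with restriction, on modules. -/
noncomputable def pushResIso :
    Scheme.Modules.pushforward i ⋙ Scheme.Modules.restrictFunctor j ≅
      Scheme.Modules.restrictFunctor k ⋙ Scheme.Modules.pushforward i' :=
  haveI : ∀ N, IsIso ((pushRes i j k i' hsq).app N) := isIso_pushRes_app i j k i' hsq hr
  haveI := NatIso.isIso_of_isIso_app (pushRes i j k i' hsq)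
  asIso (pushRes i j k i' hsq)

/-- Direct image commutes with restriction, in the derived category. -/
noncomputable def rhoPD [IsClosedImmersion i] [IsClosedImmersion i'] (K : DCoh.D Z) :
    (rho j).obj ((pD i).obj K) ≅ (pD i').obj ((rho k).obj K) :=
  (rho j).mapIso ((pD i).mapIso (repIso K).symm ≪≫ (pQ i).app _) ≪≫ (rhoQ j).app _ ≪≫
    DerivedCategory.Q.mapIso (show ((Scheme.Modules.pushforward i ⋙
        Scheme.Modules.restrictFunctor j).mapHomologicalComplex (ComplexShape.up ℤ)).obj
          (DerivedCategory.Q.objPreimage K) ≅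
        (DerSch.pushCx i').obj ((rCx k).obj (DerivedCategory.Q.objPreimage K)) from
      (NatIso.mapHomologicalComplex (pushResIso i j k i' hsq hr) (ComplexShape.up ℤ)).app _) ≪≫
    ((pQ i').app _).symm ≪≫ (pD i').mapIso (((rhoQ k).app _).symm ≪≫ (rho k).mapIso (repIso K))

end Square

/-- The special case of the inverse image of an open. -/
noncomputable def rhoPDOpen (i : Z ⟶ P) [IsClosedImmersion i] (O : P.Opens) (K : DCoh.D Z) :
    (rho O.ι).obj ((pD i).obj K) ≅ (pD (i ∣_ O)).obj ((rho (i ⁻¹ᵁ O).ι).obj K) :=
  rhoPD i O.ι (i ⁻¹ᵁ O).ι (i ∣_ O) (morphismRestrict_ι i O).symm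
    (by rw [Scheme.Opens.opensRange_ι, Scheme.Opens.opensRange_ι]) K

variable (i : Z ⟶ P) [IsClosedImmersion i]

lemma isZero_of_isZero_push {M : Z.Modules} (h : IsZero ((Scheme.Modules.pushforward i).obj M)) :
    IsZero M := by
  rw [IsZero.iff_id_eq_zero]
  exact KZ.ClosedDev.push_map_injective i _ _ (h.eq_of_src _ _)

/-- The cohomology of a direct image. -/
noncomputable def hdPD (K : DCoh.D Z) (n : ℤ) :
    DCoh.HD ((pD i).obj K) n ≅ (Scheme.Modules.pushforward i).obj (DCoh.HD K n) :=
  (mapDCHomologyIso (Scheme.Modules.pushforward i) n).app K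

lemma isZero_HD_pD_iff (K : DCoh.D Z) (n : ℤ) :
    IsZero (DCoh.HD ((pD i).obj K) n) ↔ IsZero (DCoh.HD K n) :=
  ⟨fun h => isZero_of_isZero_push i (h.of_iso (hdPD i K n).symm),
    fun h => ((Scheme.Modules.pushforward i).map_isZero h).of_iso (hdPD i K n)⟩

end Groth.Agent.RelPC17
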