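import Groth.Agent.PerfMor.SrcDescent
import Groth.Agent.RelPC17.RingDescent
import Groth.Agent.H9Misc.DRingRelPC5
import Groth.Agent.KFlatLib.Ring.DualizingFibre
import Groth.Agent.KFlatLib.Ring.DualizingFlat
import Groth.Agent.S6987
import Groth.Agent.S7022

/-!
# fppf descent on the source of relative pseudo-coherence: rings
-/

set_option autoImplicit false
set_option linter.style.haveILetI false
set_option backward.isDefEq.respectTransparency.types false
set_option maxHeartbeats 800000

universe u

open CategoryTheory CategoryTheory.Limits TensorProduct CategoryTheory.Pretriangulated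

attribute [local instance] HasDerivedCategory.standard

namespace Groth.Agent.RelPC17

open H9Misc H9Misc.DRingTor H9Misc.DRingRestrict H9Misc.DRingLTensor H9Misc.DRingRelPC KFlatLib

variable {R A B C : Type u} [CommRing R] [CommRing A] [CommRing B] [CommRing C]

/-- A pseudo-coherent ring map is pseudo-coherent as a relative module. -/
theorem all_of_q [Algebra A B] (h : PCMor.Q (algebraMap A B)) :
    DerCA.IsRelPseudoCoherentModuleAll A B B := by
  obtain ⟨n, ψ, hψC, hψ, hp⟩ := h
  let α : MvPolynomial (Fin n) A →ₐ[A] B :=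
    { toRingHom := ψ, commutes' := fun r => RingHom.congr_fun hψC r }
  exact (all_iff_via α hψ _).2 (DRingPC.of_iso' (restrictInDIso ψ (ModuleCat.of B B)).symm hp)

/-- Relative pseudo-coherence of isomorphic objects. -/
theorem relPC_of_iso [Algebra R A] {K K' : Dual.D A} (e : K ≅ K') {m : ℤ}
    (h : DerCA.IsRelPseudoCoherent R A m K) : DerCA.IsRelPseudoCoherent R A m K' := by
  obtain ⟨n, α, hα, hp⟩ := h
  exact ⟨n, α, hα, DRingPC.of_iso ((DRing.restrictD _).mapIso e) hp⟩

/-- Base change along a pseudo-coherent map of algebras. -/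
theorem relPC_lbase [Algebra R A] [Algebra A B] [Algebra R B] [IsScalarTower R A B] [Algebra.FiniteType R A]
    (hB : PCMor.Q (algebraMap A B)) [DTen.HasLBase (algebraMap A B)] (K : Dual.D A) {m : ℤ}
    (hK : DerCA.IsRelPseudoCoherent R A m K) :
    DerCA.IsRelPseudoCoherent R B m ((DTen.LBase (algebraMap A B)).obj K) := by
  haveI : Algebra.FiniteType A B := RingHom.finiteType_algebraMap.1 hB.finiteType
  haveI := DRingLBase.hasLBaseChange (algebraMap A B)
  obtain ⟨e⟩ := nonempty_LBaseChange_iso (algebraMap A B)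
  exact relPC_of_iso (e.app K) (lbase_of_relPC (all_of_q hB) K m hK)

/-- A retract of a relatively pseudo-coherent object. -/
theorem relPC_of_retract [Algebra R A] [Algebra.FiniteType R A] {K L : Dual.D A} (i : K ⟶ L) (r : L ⟶ K)
    (h : i ≫ r = 𝟙 K) {m : ℤ} (hL : DerCA.IsRelPseudoCoherent R A m L) :
    DerCA.IsRelPseudoCoherent R A m K := by
  obtain ⟨Z, g, d, hT⟩ := distinguished_cocone_triangle i
  have hd : d = 0 := by
    have h0 : d ≫ i⟦(1 : ℤ)⟧' = 0 := comp_distTriang_mor_zero₃₁ _ hT
    have h1 : i⟦(1 : ℤ)⟧' ≫ r⟦(1 : ℤ)⟧' = 𝟙 _ := by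
      rw [← Functor.map_comp, h]
      exact (shiftFunctor (Dual.D A) (1 : ℤ)).map_id K
    rw [← Category.comp_id d, ← h1, ← Category.assoc, h0, zero_comp]
  obtain ⟨e, -, -⟩ := exists_iso_binaryBiproduct_of_distTriang _ hT hd
  haveI : HasBinaryBiproduct K Z := inferInstance
  exact ((Groth.Agent.S7022.result m K Z).1 (relPC_of_iso e hL)).1

section FiniteProjective

variable [Algebra B C] [Module.Finite B C] [Module.Projective B C] [Module.FaithfullyFlat B C]

/-- A faithfully flat finite projective algebra has a linear retraction. -/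
theorem exists_retraction : ∃ ψ : C →ₗ[B] B, ψ 1 = 1 := by
  obtain ⟨s, hs⟩ := Module.projective_def.1 (inferInstance : Module.Projective B C)
  let I : Ideal B := Ideal.span (Set.range fun t : C => s 1 t)
  have hI : I = ⊤ := by
    by_contra hne
    obtain ⟨m, hm, hIm⟩ := Ideal.exists_le_maximal I hne
    have h1 : (1 : C) ∈ m • (⊤ : Submodule B C) := by
      rw [← hs 1, Finsupp.linearCombination_apply, Finsupp.sum]
      exact Submodule.sum_mem _ fun t _ =>
        Submodule.smul_mem_smul (hIm (Ideal.subset_span ⟨t, rfl⟩)) trivial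
    refine Module.FaithfullyFlat.submodule_ne_top (M := C) hm (eq_top_iff.2 fun t _ => ?_)
    have h2 := Submodule.mem_map_of_mem (f := LinearMap.mulLeft B t) h1
    rw [Submodule.map_smul''] at h2
    simpa using Submodule.smul_mono le_rfl le_top h2
  have h1 : (1 : B) ∈ I := hI ▸ trivial
  obtain ⟨c, hc⟩ := (Finsupp.mem_span_range_iff_exists_finsupp (R := B)).1 h1
  refine ⟨c.sum fun t b => b • ((Finsupp.lapply t).comp s), ?_⟩
  rw [← hc]
  simp [Finsupp.sum, LinearMap.sum_apply]

/-- The retraction of `M → C ⊗ M`. -/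
theorem exists_natTrans_retraction :
    ∃ (η : 𝟭 (ModuleCat.{u} B) ⟶
        ModuleCat.extendScalars.{u, u, u} (algebraMap B C) ⋙ ModuleCat.restrictScalars.{u} (algebraMap B C))
      (ν : ModuleCat.extendScalars.{u, u, u} (algebraMap B C) ⋙ ModuleCat.restrictScalars.{u} (algebraMap B C) ⟶
        𝟭 (ModuleCat.{u} B)), η ≫ ν = 𝟙 _ := by
  rename_i i1 i2 i3 i4
  revert i2 i3 i4
  have he : (algebraMap B C).toAlgebra = i1 := Algebra.algebra_ext _ _ fun _ => rfl
  generalize algebraMap B C = φ at he
  subst he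
  intro i2 i3 i4
  letI := φ.toAlgebra
  obtain ⟨ψ, hψ⟩ := exists_retraction (B := B) (C := C)
  refine ⟨(ModuleCat.extendRestrictScalarsAdj φ).unit,
    { app := fun M => ModuleCat.ofHom
        (X := (ModuleCat.restrictScalars.{u} φ).obj ((ModuleCat.extendScalars.{u, u, u} φ).obj M)) (Y := M)
        { toFun := fun x => (TensorProduct.lid B M) (LinearMap.rTensor M ψ (show C ⊗[B] M from x))
          map_add' := fun x y => map_add ((TensorProduct.lid B M).toLinearMap ∘ₗ LinearMap.rTensor M ψ)
            (show C ⊗[B] M from x) (show C ⊗[B] M from y)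
          map_smul' := fun c x => ?_ }
      naturality := fun M N f => ?_ }, ?_⟩
  · show (TensorProduct.lid B M) (LinearMap.rTensor M ψ (φ c • (show C ⊗[B] M from x))) =
      c • (TensorProduct.lid B M) (LinearMap.rTensor M ψ (show C ⊗[B] M from x))
    rw [show φ c • (show C ⊗[B] M from x) = c • (show C ⊗[B] M from x) from algebraMap_smul C c _,
      map_smul, map_smul]
  · have key : ∀ x : C ⊗[B] M, (TensorProduct.lid B N) (LinearMap.rTensor N ψ (LinearMap.lTensor C f.hom x)) =
        f.hom ((TensorProduct.lid B M) (LinearMap.rTensor M ψ x)) := fun x => by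
      induction x with
      | zero => simp
      | add x y hx hy => simp only [map_add, hx, hy]
      | tmul c z => simp
    exact ModuleCat.hom_ext (LinearMap.ext key)
  · refine NatTrans.ext (funext fun M => ModuleCat.hom_ext (LinearMap.ext fun z => ?_))
    show (TensorProduct.lid B M) (LinearMap.rTensor M ψ ((1 : C) ⊗ₜ[B] z)) = z
    simp [hψ]

/-- Descent along a finite projective faithfully flat algebra. -/
theorem relPC_of_finite_projective [Algebra R B] [Algebra R C] [IsScalarTower R B C] [Algebra.FiniteType R B]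
    [DTen.HasLBase (algebraMap B C)] (K : Dual.D B) {m : ℤ}
    (h : DerCA.IsRelPseudoCoherent R C m ((DTen.LBase (algebraMap B C)).obj K)) :
    DerCA.IsRelPseudoCoherent R B m K := by
  let φ := algebraMap B C
  let L := DerivedCategory.Q.objPreimage K
  let eL : DerivedCategory.Q.obj L ≅ K := DerivedCategory.Q.objObjPreimageIso K
  haveI := isIso_baseCmp_of_flat φ (RingHom.flat_algebraMap_iff.2 inferInstance) L
  let res := (ModuleCat.restrictScalars.{u} φ).mapHomologicalComplex (ComplexShape.up ℤ)
  have h1 : DerCA.IsRelPseudoCoherent R B m (DerivedCategory.Q.obj (res.obj ((extC' φ).obj L))) :=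
    relPC_of_iso ((DRing.restrictD φ).mapIso
        ((DTen.LBase φ).mapIso eL.symm ≪≫ asIso ((DTen.baseCmp φ).app L)) ≪≫
      (ModuleCat.restrictScalars.{u} φ).mapDerivedCategoryFactors.app _) ((finite_iff _ m).1 h)
  obtain ⟨η, ν, hην⟩ := exists_natTrans_retraction (B := B) (C := C)
  let ηL : L ⟶ res.obj ((extC' φ).obj L) :=
    { f := fun i => η.app (L.X i), comm' := fun i j _ => (η.naturality (L.d i j)).symm }
  let νL : res.obj ((extC' φ).obj L) ⟶ L :=
    { f := fun i => ν.app (L.X i), comm' := fun i j _ => (ν.naturality (L.d i j)).symm }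
  refine relPC_of_iso eL (relPC_of_retract (DerivedCategory.Q.map ηL) (DerivedCategory.Q.map νL) ?_ h1)
  rw [← Functor.map_comp, show ηL ≫ νL = 𝟙 L from
    HomologicalComplex.hom_ext _ _ fun i => NatTrans.congr_app hην (L.X i)]
  exact DerivedCategory.Q.map_id L

end FiniteProjective

/-- The descent step near a point. -/
theorem relPC_of_lift_step {Pb Bb Db : Type u} [CommRing Pb] [CommRing Bb] [CommRing Db]
    [Algebra R B] [Algebra R C] [Algebra B C] [IsScalarTower R B C] [Algebra.FiniteType R C] [Module.Flat B C]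
    [Algebra.FinitePresentation B C] [Algebra R Pb] [Algebra R Bb] [Algebra Pb Bb] [IsScalarTower R Pb Bb]
    [Algebra B Bb] [IsScalarTower R B Bb] [Algebra.FiniteType Pb Bb]
    [Algebra Pb Db] [Module.FaithfullyFlat Pb Db] [Algebra.FinitePresentation Pb Db]
    [DTen.HasLBase (algebraMap B C)] [DTen.HasLBase (algebraMap B Bb)]
    (hP : PCMor.Q (algebraMap R Pb)) (hβ : PCMor.Q (algebraMap B Bb))
    (hγ : ∃ γ : C →+* Db ⊗[Pb] Bb, γ.comp (algebraMap B C) =
      (Algebra.TensorProduct.includeRight (R := Pb) (A := Db) (B := Bb)).toRingHom.comp (algebraMap B Bb))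
    (K : Dual.D B) {m : ℤ} (h : DerCA.IsRelPseudoCoherent R C m ((DTen.LBase (algebraMap B C)).obj K)) :
    DerCA.IsRelPseudoCoherent R Bb m ((DTen.LBase (algebraMap B Bb)).obj K) := by
  obtain ⟨γ, hγ⟩ := hγ
  let E := Db ⊗[Pb] Bb
  let α := (Algebra.TensorProduct.includeRight (R := Pb) (A := Db) (B := Bb)).toRingHom
  haveI : Algebra.FiniteType R Pb := RingHom.finiteType_algebraMap.1 hP.finiteType
  letI : Algebra R Db := ((algebraMap Pb Db).comp (algebraMap R Pb)).toAlgebra
  haveI : IsScalarTower R Pb Db := .of_algebraMap_eq fun _ => rfl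
  haveI : Algebra.FiniteType R Db := Algebra.FiniteType.trans ‹_› inferInstance
  letI : Algebra C E := γ.toAlgebra
  have hsc : ∀ r : R, α (algebraMap R Bb r) = algebraMap R E r := fun r => by
    rw [IsScalarTower.algebraMap_apply R Pb Bb]
    exact (Algebra.TensorProduct.includeRight (R := Pb) (A := Db) (B := Bb)).commutes _
  haveI : IsScalarTower R C E := .of_algebraMap_eq fun r => by
    show algebraMap R E r = γ (algebraMap R C r)
    rw [IsScalarTower.algebraMap_apply R B C, ← RingHom.comp_apply, hγ, RingHom.comp_apply,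
      ← IsScalarTower.algebraMap_apply R B Bb, hsc]
  have hCE : PCMor.Q (algebraMap C E) := (PerfMor.q_of_flat_fp B C).cancel (by
    show PCMor.Q (γ.comp (algebraMap B C))
    rw [hγ]
    exact hβ.comp PerfMor.q_base_flat_fp)
  haveI : DTen.HasLBase (algebraMap C E) := hasLBase _
  haveI : DTen.HasLBase α := hasLBase _
  haveI := hasLBase (γ.comp (algebraMap B C))
  obtain ⟨c₁⟩ := nonempty_LBase_comp (algebraMap B C) (algebraMap C E) (γ.comp (algebraMap B C)) rfl
  obtain ⟨c₂⟩ := nonempty_LBase_comp (algebraMap B Bb) α (γ.comp (algebraMap B C)) hγ.symm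
  have h1 : DerCA.IsRelPseudoCoherent R E m ((DTen.LBase α).obj ((DTen.LBase (algebraMap B Bb)).obj K)) :=
    relPC_of_iso (c₁.app K ≪≫ (c₂.app K).symm) (relPC_lbase hCE _ h)
  have h2 := (intermediate_iff (R := R) (A := Db) (B := E)
    (all_of_q (hP.comp (PerfMor.q_of_flat_fp Pb Db))) _ m).2 h1
  haveI : DRing.HasLBaseChange α := DRingLBase.hasLBaseChange α
  obtain ⟨e⟩ := nonempty_LBaseChange_iso α
  exact (intermediate_iff (R := R) (A := Pb) (B := Bb) (all_of_q hP) _ m).1
    (relPC_descent (R := Pb) (A := Bb) (R' := Db) _ m (relPC_of_iso (e.app _).symm h2))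

/-- Descent along a standard étale algebra, near a point of the image. -/
theorem exists_away_relPC_of_standardEtale [Algebra R B] [Algebra R C] [Algebra B C] [IsScalarTower R B C]
    [Algebra.IsStandardEtale B C] [Algebra.FiniteType R B] [DTen.HasLBase (algebraMap B C)] (K : Dual.D B) {m : ℤ}
    (h : DerCA.IsRelPseudoCoherent R C m ((DTen.LBase (algebraMap B C)).obj K)) (Q : PrimeSpectrum C) :
    ∃ b : B, b ∉ Q.asIdeal.comap (algebraMap B C) ∧
      ∀ [DTen.HasLBase (algebraMap B (Localization.Away b))], DerCA.IsRelPseudoCoherent R (Localization.Away b) m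
        ((DTen.LBase (algebraMap B (Localization.Away b))).obj K) := by
  haveI : Nontrivial B := (Ideal.Quotient.mk (Q.asIdeal.comap (algebraMap B C))).domain_nontrivial
  haveI : Algebra.FiniteType R C := Algebra.FiniteType.trans (A := C) ‹Algebra.FiniteType R B› inferInstance
  obtain ⟨n, π₀, hπ⟩ := exists_presentation R B
  let P := MvPolynomial (Fin n) R
  let π : P →+* B := π₀
  letI : Algebra P B := π.toAlgebra
  letI : Algebra P C := ((algebraMap B C).comp π).toAlgebra
  haveI : IsScalarTower P B C := .of_algebraMap_eq fun _ => rfl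
  obtain ⟨D, _, _, _, _, ⟨δ⟩, huniv⟩ := PerfMor.exists_flat_lift (P := P) (B := B) (C := C) hπ
  obtain ⟨b, hb, hff⟩ := PerfMor.exists_ff_away P D ⟨Q.asIdeal.comap δ.toRingHom, Ideal.comap_isPrime _ _⟩
  refine ⟨π b, fun hm => hb ?_, ?_⟩
  · show δ (algebraMap P D b) ∈ Q.asIdeal
    rw [δ.commutes]
    exact hm
  intro _
  let Pb := Localization.Away b
  let Bb := Localization.Away (π b)
  letI : Algebra Pb Bb := (IsLocalization.Away.map Pb Bb π b).toAlgebra
  haveI := hff
  have hmap : (algebraMap Pb Bb).comp (algebraMap P Pb) = (algebraMap B Bb).comp π := by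
    rw [RingHom.algebraMap_toAlgebra, IsLocalization.Away.map, IsLocalization.map_comp]
  haveI : IsScalarTower R Pb Bb := .of_algebraMap_eq fun r => by
    rw [IsScalarTower.algebraMap_apply R P Pb, ← RingHom.comp_apply (algebraMap Pb Bb), hmap,
      RingHom.comp_apply, show π (algebraMap R P r) = algebraMap R B r from π₀.commutes r,
      ← IsScalarTower.algebraMap_apply R B Bb]
  haveI : Algebra.FiniteType Pb Bb := by
    refine RingHom.finiteType_algebraMap.1 (RingHom.FiniteType.of_comp_finiteType (f := algebraMap P Pb) ?_)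
    rw [hmap]
    exact (RingHom.finiteType_algebraMap.2 inferInstance).comp (RingHom.FiniteType.of_surjective π hπ)
  refine relPC_of_lift_step (C := C) (Pb := Pb) (Db := Pb ⊗[P] D) ?_ (PCMor.Q.away (π b)) ?_ K h
  · rw [IsScalarTower.algebraMap_eq R P Pb]
    exact (PerfMor.q_of_flat_fp R P).comp (PCMor.Q.away b)
  refine huniv _ _ ((Algebra.TensorProduct.includeLeftRingHom (R := Pb) (A := Pb ⊗[P] D) (B := Bb)).comp
      (Algebra.TensorProduct.includeRight (R := P) (A := Pb) (B := D)).toRingHom) ?_
  refine RingHom.ext fun p => ?_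
  have h1 : Algebra.TensorProduct.includeRight (R := P) (A := Pb) (B := D) (algebraMap P D p) =
      algebraMap Pb (Pb ⊗[P] D) (algebraMap P Pb p) := by
    rw [AlgHom.commutes]
    exact IsScalarTower.algebraMap_apply P Pb _ p
  show Algebra.TensorProduct.includeLeftRingHom (Algebra.TensorProduct.includeRight (R := P)
    (A := Pb) (algebraMap P D p)) = _
  rw [h1]
  refine Eq.trans ?_ (congrArg (Algebra.TensorProduct.includeRight (R := Pb)
    (A := Pb ⊗[P] D) (B := Bb)) (RingHom.congr_fun hmap p))
  exact ((Algebra.TensorProduct.includeRight (R := Pb) (A := Pb ⊗[P] D) (B := Bb)).commutes _).symm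

/-- fppf descent on the source of relative pseudo-coherence. -/
theorem relPC_of_fppf [Algebra R B] [Algebra R C] [Algebra B C] [IsScalarTower R B C] [Algebra.FiniteType R B]
    [Module.FaithfullyFlat B C] [Algebra.FinitePresentation B C] [DTen.HasLBase (algebraMap B C)]
    (K : Dual.D B) {m : ℤ} (h : DerCA.IsRelPseudoCoherent R C m ((DTen.LBase (algebraMap B C)).obj K)) :
    DerCA.IsRelPseudoCoherent R B m K := by
  haveI : Algebra.FiniteType R C := Algebra.FiniteType.trans (A := C) ‹Algebra.FiniteType R B› inferInstance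
  -- replace `C` by a quasi-finite cover
  obtain ⟨S, _, _, hqf, hft, hSff, hSfp, ⟨σ⟩⟩ := Groth.Agent.S9432.result B C
  letI : Algebra R S := ((algebraMap B S).comp (algebraMap R B)).toAlgebra
  haveI : IsScalarTower R B S := .of_algebraMap_eq fun _ => rfl
  haveI : DTen.HasLBase (algebraMap B S) := hasLBase _
  have hS : DerCA.IsRelPseudoCoherent R S m ((DTen.LBase (algebraMap B S)).obj K) := by
    letI : Algebra C S := σ.toRingHom.toAlgebra
    haveI : IsScalarTower R C S := .of_algebraMap_eq fun r => by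
      show algebraMap R S r = σ (algebraMap R C r)
      rw [IsScalarTower.algebraMap_apply R B C, σ.commutes]; rfl
    haveI : DTen.HasLBase (algebraMap C S) := hasLBase _
    obtain ⟨c⟩ := nonempty_LBase_comp (algebraMap B C) (algebraMap C S) (algebraMap B S) σ.comp_algebraMap
    refine relPC_of_iso (c.app K) (relPC_lbase ((PerfMor.q_of_flat_fp B C).cancel ?_) _ h)
    show PCMor.Q ((σ : C →+* S).comp (algebraMap B C))
    rw [σ.comp_algebraMap]
    exact PerfMor.q_of_flat_fp B S
  clear h σ
  have key : ∀ p : PrimeSpectrum B, ∃ b : B, b ∉ p.asIdeal ∧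
      ∀ [DTen.HasLBase (algebraMap B (Localization.Away b))], DerCA.IsRelPseudoCoherent R (Localization.Away b) m
        ((DTen.LBase (algebraMap B (Localization.Away b))).obj K) := by
    intro p
    obtain ⟨q, hq⟩ := PrimeSpectrum.comap_surjective_of_faithfullyFlat (A := B) (B := S) p
    haveI : q.asIdeal.LiesOver p.asIdeal := ⟨(congrArg PrimeSpectrum.asIdeal hq).symm⟩
    obtain ⟨R', _, _, _, P', _, hP'p, e, he, M, _, hMP, -, heM, -, hfin, -⟩ :=
      Algebra.exists_etale_isIdempotentElem_forall_liesOver_eq p.asIdeal q.asIdeal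
    let T := Localization.Away e
    haveI : Module.Finite R' T := hfin
    haveI : Algebra.FinitePresentation (R' ⊗[B] S) T := IsLocalization.Away.finitePresentation e
    haveI : Algebra.FinitePresentation R' T := Algebra.FinitePresentation.trans R' (R' ⊗[B] S) T
    haveI : Module.Flat (R' ⊗[B] S) T := IsLocalization.flat T (Submonoid.powers e)
    haveI : Module.Flat R' T := Module.Flat.trans R' (R' ⊗[B] S) T
    haveI hdisj : (M.map (algebraMap (R' ⊗[B] S) T)).IsPrime :=
      IsLocalization.isPrime_of_isPrime_disjoint (Submonoid.powers e) _ _ ‹_›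
        ((Ideal.disjoint_powers_iff_notMem_of_isPrime _).2 heM)
    obtain ⟨r, hr, hrff⟩ := PerfMor.exists_ff_away R' T ⟨_, hdisj⟩
    let R₁ := Localization.Away r
    let T₁ := R₁ ⊗[R'] T
    haveI : Module.FaithfullyFlat R₁ T₁ := hrff
    haveI : Algebra.FinitePresentation R₁ T₁ := inferInstance
    haveI : Module.Finite R₁ T₁ := inferInstance
    haveI : Module.FinitePresentation R₁ T₁ := Module.FinitePresentation.of_finite_of_finitePresentation R₁ T₁
    haveI : Module.Projective R₁ T₁ := Module.Flat.projective_of_finitePresentation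
    haveI : Algebra.Etale R' R₁ := Algebra.Etale.of_isLocalizationAway r
    haveI : Algebra.Etale B R₁ := Algebra.Etale.comp B R' R₁
    letI : Algebra B T₁ := ((algebraMap R₁ T₁).comp (algebraMap B R₁)).toAlgebra
    let j : S →+* T₁ := (Algebra.TensorProduct.includeRight (R := R') (A := R₁) (B := T)).toRingHom.comp
      ((algebraMap (R' ⊗[B] S) T).comp (Algebra.TensorProduct.includeRight (R := B) (A := R') (B := S)).toRingHom)
    have hj : j.comp (algebraMap B S) = algebraMap B T₁ := RingHom.ext fun x => by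
      have h1 : Algebra.TensorProduct.includeRight (R := B) (A := R') (B := S) (algebraMap B S x) =
          algebraMap R' (R' ⊗[B] S) (algebraMap B R' x) := by
        rw [AlgHom.commutes]
        rfl
      show Algebra.TensorProduct.includeRight (R := R') (A := R₁) (B := T) (algebraMap (R' ⊗[B] S) T
        (Algebra.TensorProduct.includeRight (R := B) (A := R') (algebraMap B S x))) = _
      rw [h1, ← IsScalarTower.algebraMap_apply R' (R' ⊗[B] S) T, AlgHom.commutes,
        IsScalarTower.algebraMap_apply R' R₁ T₁, ← IsScalarTower.algebraMap_apply B R' R₁]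
      rfl
    letI : Algebra R R₁ := ((algebraMap B R₁).comp (algebraMap R B)).toAlgebra
    haveI : IsScalarTower R B R₁ := .of_algebraMap_eq fun _ => rfl
    haveI : Algebra.FiniteType R R₁ := Algebra.FiniteType.trans (A := R₁) ‹Algebra.FiniteType R B› inferInstance
    haveI : IsScalarTower R R₁ T₁ := inferInstance
    haveI : Algebra.FiniteType R S := Algebra.FiniteType.trans (A := S) ‹Algebra.FiniteType R B› inferInstance
    letI : Algebra S T₁ := j.toAlgebra
    haveI : IsScalarTower R S T₁ := .of_algebraMap_eq fun x => by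
      show algebraMap R T₁ x = j (algebraMap B S (algebraMap R B x))
      rw [← RingHom.comp_apply j, hj, IsScalarTower.algebraMap_apply R R₁ T₁]; rfl
    have hqj : PCMor.Q (algebraMap S T₁) := (PerfMor.q_of_flat_fp B S).cancel (by
      show PCMor.Q (j.comp _)
      rw [hj]
      exact (PerfMor.q_of_flat_fp B R₁).comp (PerfMor.q_of_flat_fp R₁ T₁))
    haveI : DTen.HasLBase (algebraMap S T₁) := hasLBase _
    haveI : DTen.HasLBase (algebraMap B R₁) := hasLBase _
    haveI : DTen.HasLBase (algebraMap R₁ T₁) := hasLBase _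
    haveI : DTen.HasLBase (algebraMap B T₁) := hasLBase _
    obtain ⟨c₁⟩ := nonempty_LBase_comp (algebraMap B S) (algebraMap S T₁) (algebraMap B T₁) hj
    obtain ⟨c₂⟩ := nonempty_LBase_comp (algebraMap B R₁) (algebraMap R₁ T₁) (algebraMap B T₁) rfl
    have hR₁ := relPC_of_finite_projective (R := R) (B := R₁) (C := T₁) _
      (relPC_of_iso (c₁.app K ≪≫ (c₂.app K).symm) (relPC_lbase hqj _ hS))
    have hrP : r ∉ P' := fun hm => hr (by
      have h3 : Ideal.comap (algebraMap R' (R' ⊗[B] S)) M = P' := (hMP.over).symm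
      rw [IsScalarTower.algebraMap_eq R' (R' ⊗[B] S) T, ← Ideal.comap_comap]
      exact Ideal.comap_mono Ideal.le_comap_map (h3.symm ▸ hm))
    let P₁ := P'.map (algebraMap R' R₁)
    haveI : P₁.IsPrime := IsLocalization.isPrime_of_isPrime_disjoint (Submonoid.powers r) _ _ ‹_›
      ((Ideal.disjoint_powers_iff_notMem_of_isPrime _).2 hrP)
    obtain ⟨g, hg, hstd⟩ := Algebra.IsEtaleAt.exists_isStandardEtale (R := B) P₁
    haveI := hstd
    let C₁ := Localization.Away g
    haveI : (P₁.map (algebraMap R₁ C₁)).IsPrime := IsLocalization.isPrime_of_isPrime_disjoint (Submonoid.powers g) _ _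
      ‹_› ((Ideal.disjoint_powers_iff_notMem_of_isPrime _).2 hg)
    have hRC : ∀ x : R, algebraMap R C₁ x = algebraMap B C₁ (algebraMap R B x) := fun x => by
      rw [IsScalarTower.algebraMap_apply R R₁ C₁, IsScalarTower.algebraMap_apply B R₁ C₁]; rfl
    haveI : IsScalarTower R B C₁ := IsScalarTower.of_algebraMap_eq (R := R) (S := B) (A := C₁) hRC
    haveI : DTen.HasLBase (algebraMap R₁ C₁) := hasLBase _
    haveI : DTen.HasLBase (algebraMap B C₁) := hasLBase _
    obtain ⟨c₃⟩ := nonempty_LBase_comp (algebraMap B R₁) (algebraMap R₁ C₁) (algebraMap B C₁)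
      (IsScalarTower.algebraMap_eq B R₁ C₁).symm
    obtain ⟨b, hb, hbQ⟩ := exists_away_relPC_of_standardEtale (C := C₁) K
      (relPC_of_iso (c₃.app K) (relPC_lbase (PCMor.Q.away g) _ hR₁)) ⟨P₁.map (algebraMap R₁ C₁), ‹_›⟩
    refine ⟨b, fun hm => hb ?_, hbQ⟩
    have h4 : algebraMap B R' b ∈ P' := by
      have := hP'p.over ▸ hm
      exact this
    rw [Ideal.mem_comap, IsScalarTower.algebraMap_apply B R₁ C₁, IsScalarTower.algebraMap_apply B R' R₁]
    exact Ideal.mem_map_of_mem _ (Ideal.mem_map_of_mem _ h4)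
  choose b hb hbQ using key
  have hspan : Ideal.span (Set.range b) = ⊤ := by
    by_contra hne
    obtain ⟨m, hm, hle⟩ := Ideal.exists_le_maximal _ hne
    exact hb ⟨m, hm.isPrime⟩ (hle (Ideal.subset_span ⟨_, rfl⟩))
  obtain ⟨s, hs, hs1⟩ := (Ideal.span_eq_top_iff_finite _).1 hspan
  choose p hp using fun i : Fin s.card => hs (s.equivFin.symm i).2
  let L := DerivedCategory.Q.objPreimage K
  let eL : DerivedCategory.Q.obj L ≅ K := DerivedCategory.Q.objObjPreimageIso K
  have hrange : Set.range (fun i => b (p i)) = (s : Set B) := by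
    ext x
    refine ⟨?_, fun hx => ⟨s.equivFin ⟨x, hx⟩, ?_⟩⟩
    · rintro ⟨i, rfl⟩
      show b (p i) ∈ (s : Set B)
      rw [hp i]
      exact (s.equivFin.symm i).2
    · show b (p _) = x
      rw [hp, Equiv.symm_apply_apply]
  refine relPC_of_iso eL ((Groth.Agent.S6987.result L m (fun i => b (p i)) (by rw [hrange]; exact hs1)).2
    fun i => ?_)
  haveI : DTen.HasLBase (algebraMap B (Localization.Away (b (p i)))) := hasLBase _
  haveI := isIso_baseCmp_of_flat (algebraMap B (Localization.Away (b (p i))))
    (RingHom.flat_algebraMap_iff.2 (IsLocalization.flat (Localization.Away (b (p i))) (Submonoid.powers (b (p i))))) L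
  exact relPC_of_iso ((DTen.LBase _).mapIso eL.symm ≪≫ asIso ((DTen.baseCmp _).app L)) (hbQ (p i))

end Groth.Agent.RelPC17
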