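import Groth.Agent.RelPC17.BaseChange
import Groth.Agent.RelPC17.SrcRing
import Mathlib.RingTheory.Finiteness.FinitePresentationLocal

/-!
# fppf descent on the source of relative pseudo-coherence: schemes
-/

set_option autoImplicit false
set_option linter.style.haveILetI false
set_option backward.isDefEq.respectTransparency false
set_option backward.isDefEq.respectTransparency.types false
set_option maxHeartbeats 800000

universe u

open CategoryTheory CategoryTheory.Limits AlgebraicGeometry TopologicalSpace Opposite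
open scoped TensorProduct

attribute [local instance] HasDerivedCategory.standard

namespace Groth.Agent.RelPC17

open KFlatLib H9Misc.DRingRelPC

variable {X S Y : Scheme.{u}} (f : X ⟶ S) [LocallyOfFiniteType f] (g : Y ⟶ X)

/-- Pullback to a source which is flat and locally of finite presentation. -/
theorem rel_lpull_fppf [Flat g] [LocallyOfFinitePresentation g] [DCoh.HasLpull g] {m : ℤ} {E : DCoh.D X}
    (hq : DCoh.IsQCohD E) (hE : DerSch.IsPseudoCoherentRel f m E) :
    DerSch.IsPseudoCoherentRel (g ≫ f) m ((DCoh.Lpull g).obj E) := by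
  refine rel_of_local fun z => ?_
  obtain ⟨V, hV, hsV, -⟩ := exists_isAffineOpen_mem_and_subset (U := ⊤) (x := f (g z)) trivial
  obtain ⟨U, hU, hxU, hUle⟩ := exists_isAffineOpen_mem_and_subset (U := f ⁻¹ᵁ V) (x := g z) hsV
  obtain ⟨W, hW, hzW, hWle⟩ := exists_isAffineOpen_mem_and_subset (U := g ⁻¹ᵁ U) (x := z) hxU
  let R := Γ(S, V)
  let A := Γ(X, U)
  let B := Γ(Y, W)
  letI : Algebra R A := (f.appLE V U hUle).hom.toAlgebra
  letI : Algebra A B := (g.appLE U W hWle).hom.toAlgebra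
  letI : Algebra R B := ((algebraMap A B).comp (algebraMap R A)).toAlgebra
  haveI : IsScalarTower R A B := .of_algebraMap_eq fun _ => rfl
  haveI : Algebra.FiniteType R A := finiteType_appLE hU hV hUle
  haveI : Module.Flat A B := HasRingHomProperty.appLE @Flat g ‹_› ⟨U, hU⟩ ⟨W, hW⟩ hWle
  haveI : Algebra.FinitePresentation A B :=
    HasRingHomProperty.appLE @LocallyOfFinitePresentation g ‹_› ⟨U, hU⟩ ⟨W, hW⟩ hWle
  haveI : Algebra.FiniteType R B := Algebra.FiniteType.trans (A := B) ‹Algebra.FiniteType R A› inferInstance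
  haveI : PreservesFiniteLimits (tilde.functor (CommRingCat.of A)) := QCoh.tilde_preservesFiniteLimits
  haveI : PreservesFiniteLimits (tilde.functor (CommRingCat.of B)) := QCoh.tilde_preservesFiniteLimits
  haveI := H9Misc.DRingLBase.hasLBaseChange (algebraMap A B)
  obtain ⟨M, ⟨eM⟩⟩ := exists_tildeD_iso (R := CommRingCat.of A) (isQCohD_rho hU.fromSpec hq)
  have hk : Spec.map (CommRingCat.ofHom (algebraMap R A)) ≫ hV.fromSpec = hU.fromSpec ≫ f :=
    IsAffineOpen.SpecMap_appLE_fromSpec f hV hU hUle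
  have hk' : Spec.map (CommRingCat.ofHom (algebraMap A B)) ≫ hU.fromSpec = hW.fromSpec ≫ g :=
    IsAffineOpen.SpecMap_appLE_fromSpec g hU hW hWle
  obtain ⟨e'⟩ := RelPerfectBC.nonempty_rho_lpull_iso (algebraMap A B) g hU.fromSpec hW.fromSpec hk'.symm M eM.symm
  have hM := (chartOK_spec_iff (f := f) (R := R) (A := A) hU.fromSpec hV.fromSpec hk M eM.symm m).1
    (chartOK_of_rel hE (isAffineOpen_opensRange hU.fromSpec) (isAffineOpen_opensRange hV.fromSpec) _)
  have hj : Spec.map (CommRingCat.ofHom (algebraMap R B)) ≫ hV.fromSpec = hW.fromSpec ≫ g ≫ f := by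
    rw [← reassoc_of% hk', ← hk, ← Category.assoc, ← Spec.map_comp]
    rfl
  refine ⟨_, _, le_preimage_chart hW.fromSpec hV.fromSpec hj, isAffineOpen_opensRange hW.fromSpec,
    isAffineOpen_opensRange hV.fromSpec, ?_, (chartOK_spec_iff (f := g ≫ f) (R := R) (A := B) hW.fromSpec
      hV.fromSpec hj _ e' m).2 (lbase_of_relPC (all_of_q (PerfMor.q_of_flat_fp A B)) M m hM)⟩
  show z ∈ Set.range hW.fromSpec
  rw [hW.range_fromSpec]; exact hzW

/-- Descent along an fppf family of the source. -/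
theorem rel_of_lpull_source_family {ι : Type u} (Xi : ι → Scheme.{u}) (g : ∀ i, Xi i ⟶ X) [∀ i, Flat (g i)]
    [∀ i, LocallyOfFinitePresentation (g i)] [∀ i, DCoh.HasLpull (g i)]
    (hcov : ∀ x : X, ∃ (i : ι) (y : Xi i), (g i).base y = x) {m : ℤ} {E : DCoh.D X} (hq : DCoh.IsQCohD E)
    (H : ∀ i, DerSch.IsPseudoCoherentRel (g i ≫ f) m ((DCoh.Lpull (g i)).obj E)) :
    DerSch.IsPseudoCoherentRel f m E := by
  refine rel_of_local fun x => ?_
  obtain ⟨V, hV, hsV, -⟩ := exists_isAffineOpen_mem_and_subset (U := ⊤) (x := f x) trivial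
  obtain ⟨U, hU, hxU, hUle⟩ := exists_isAffineOpen_mem_and_subset (U := f ⁻¹ᵁ V) (x := x) hsV
  let R := Γ(S, V)
  let A := Γ(X, U)
  letI : Algebra R A := (f.appLE V U hUle).hom.toAlgebra
  haveI : Algebra.FiniteType R A := finiteType_appLE hU hV hUle
  haveI : PreservesFiniteLimits (tilde.functor (CommRingCat.of A)) := QCoh.tilde_preservesFiniteLimits
  obtain ⟨M, ⟨eM⟩⟩ := exists_tildeD_iso (R := CommRingCat.of A) (isQCohD_rho hU.fromSpec hq)
  have hk : Spec.map (CommRingCat.ofHom (algebraMap R A)) ≫ hV.fromSpec = hU.fromSpec ≫ f :=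
    IsAffineOpen.SpecMap_appLE_fromSpec f hV hU hUle
  obtain ⟨L, _, i, W, hW, hWle, hcovU⟩ := exists_lifts_fppf Xi g hcov U hU
  letI (l : L) : Algebra A Γ(Xi (i l), W l) := ((g (i l)).appLE U (W l) (hWle l)).hom.toAlgebra
  haveI (l : L) : Module.Flat A Γ(Xi (i l), W l) :=
    HasRingHomProperty.appLE @Flat (g (i l)) inferInstance ⟨U, hU⟩ ⟨W l, hW l⟩ (hWle l)
  haveI (l : L) : Algebra.FinitePresentation A Γ(Xi (i l), W l) :=
    HasRingHomProperty.appLE @LocallyOfFinitePresentation (g (i l)) inferInstance ⟨U, hU⟩ ⟨W l, hW l⟩ (hWle l)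
  letI (l : L) : Algebra R Γ(Xi (i l), W l) :=
    ((algebraMap A Γ(Xi (i l), W l)).comp (algebraMap R A)).toAlgebra
  haveI (l : L) : IsScalarTower R A Γ(Xi (i l), W l) := .of_algebraMap_eq fun _ => rfl
  let C := (l : L) → Γ(Xi (i l), W l)
  letI : Fintype L := Fintype.ofFinite L
  haveI : Module.Flat A C := by
    classical
    exact Module.Flat.of_linearEquiv (DFinsupp.linearEquivFunOnFintype
      (R := A) (M := fun l : L => Γ(Xi (i l), W l))).symm
  haveI : Module.FaithfullyFlat A C := .of_comap_surjective fun p => by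
    obtain ⟨l, t, ht, hts⟩ := hcovU (hU.fromSpec p) (hU.range_fromSpec.le ⟨p, rfl⟩)
    obtain ⟨q, rfl⟩ := (hW l).range_fromSpec.ge ht
    refine ⟨PrimeSpectrum.comap (Pi.evalRingHom (fun l : L => (Γ(Xi (i l), W l) : Type u)) l) q, ?_⟩
    apply hU.fromSpec.isOpenEmbedding.injective
    rw [← hts, ← Scheme.Hom.comp_apply, ← IsAffineOpen.SpecMap_appLE_fromSpec (g (i l)) hU (hW l) (hWle l)]
    rfl
  haveI : Algebra.FinitePresentation A C := inferInstance
  haveI : Algebra.FiniteType R C := Algebra.FiniteType.trans (A := C) ‹Algebra.FiniteType R A› inferInstance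
  haveI : DTen.HasLBase (algebraMap A C) := hasLBase _
  haveI := H9Misc.DRingLBase.hasLBaseChange (algebraMap A C)
  obtain ⟨eB⟩ := nonempty_LBaseChange_iso (algebraMap A C)
  haveI : PreservesFiniteLimits (tilde.functor (CommRingCat.of C)) := QCoh.tilde_preservesFiniteLimits
  refine ⟨_, _, le_preimage_chart hU.fromSpec hV.fromSpec hk, isAffineOpen_opensRange hU.fromSpec,
    isAffineOpen_opensRange hV.fromSpec, ?_,
    (chartOK_spec_iff (f := f) (R := R) (A := A) hU.fromSpec hV.fromSpec hk M eM.symm m).2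
      (relPC_of_fppf (C := C) M (relPC_of_iso (eB.app M) ?_))⟩
  · show x ∈ Set.range hU.fromSpec
    rw [hU.range_fromSpec]; exact hxU
  let g₀ : Spec (CommRingCat.of C) ⟶ Spec (CommRingCat.of A) := Spec.map (CommRingCat.ofHom (algebraMap A C))
  let f₀ : Spec (CommRingCat.of C) ⟶ Spec (CommRingCat.of R) := Spec.map (CommRingCat.ofHom (algebraMap R C))
  haveI : LocallyOfFiniteType f₀ := (HasRingHomProperty.Spec_iff (P := @LocallyOfFiniteType)).2
    (RingHom.finiteType_algebraMap.2 inferInstance)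
  haveI := hasLpull g₀
  let T := (DCoh.Lpull g₀).obj ((DCoh.tildeD (CommRingCat.of A)).obj M)
  let e₀ : (rho (𝟙 (Spec (CommRingCat.of A)))).obj ((DCoh.tildeD (CommRingCat.of A)).obj M) ≅
      (DCoh.tildeD (CommRingCat.of A)).obj M :=
    (rho (𝟙 _)).mapIso eM ≪≫ rhoComp (𝟙 _) hU.fromSpec hU.fromSpec (Category.id_comp _) E ≪≫ eM.symm
  have hT : DerSch.IsPseudoCoherentRel f₀ m T := by
    refine rel_of_local fun z => ?_
    let σ := sigmaSpec (fun l : L => Γ(Xi (i l), W l))
    obtain ⟨y, hy⟩ := (Scheme.homeoOfIso (asIso σ)).surjective z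
    obtain ⟨l, q, rfl⟩ := (sigmaOpenCover fun l : L => Spec Γ(Xi (i l), W l)).exists_eq y
    let π : Spec (Γ(Xi (i l), W l)) ⟶ Spec (CommRingCat.of C) :=
      Spec.map (CommRingCat.ofHom (Pi.evalRingHom (fun l : L => (Γ(Xi (i l), W l) : Type u)) l))
    haveI : IsOpenImmersion π := by
      rw [show π = Sigma.ι (fun l : L => Spec Γ(Xi (i l), W l)) l ≫ σ from (ι_sigmaSpec _ l).symm]
      infer_instance
    haveI : Algebra.FiniteType R Γ(Xi (i l), W l) :=
      Algebra.FiniteType.trans (A := Γ(Xi (i l), W l)) ‹Algebra.FiniteType R A› inferInstance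
    haveI : PreservesFiniteLimits (tilde.functor (CommRingCat.of Γ(Xi (i l), W l))) :=
      QCoh.tilde_preservesFiniteLimits
    haveI := H9Misc.DRingLBase.hasLBaseChange (algebraMap A Γ(Xi (i l), W l))
    obtain ⟨e₁⟩ := RelPerfectBC.nonempty_rho_lpull_iso (algebraMap A Γ(Xi (i l), W l)) g₀ (𝟙 _) π
      (by rw [Category.comp_id, ← Spec.map_comp]; rfl) M e₀
    have hk' : Spec.map (CommRingCat.ofHom (algebraMap A Γ(Xi (i l), W l))) ≫ hU.fromSpec =
        (hW l).fromSpec ≫ g (i l) := IsAffineOpen.SpecMap_appLE_fromSpec (g (i l)) hU (hW l) (hWle l)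
    obtain ⟨e₂⟩ := RelPerfectBC.nonempty_rho_lpull_iso (algebraMap A Γ(Xi (i l), W l)) (g (i l))
      hU.fromSpec (hW l).fromSpec hk'.symm M eM.symm
    have hj : Spec.map (CommRingCat.ofHom (algebraMap R Γ(Xi (i l), W l))) ≫ hV.fromSpec =
        (hW l).fromSpec ≫ g (i l) ≫ f := by
      rw [← reassoc_of% hk', ← hk, ← Category.assoc, ← Spec.map_comp]
      rfl
    have hπ : Spec.map (CommRingCat.ofHom (algebraMap R Γ(Xi (i l), W l))) ≫ 𝟙 _ = π ≫ f₀ := by
      rw [Category.comp_id, ← Spec.map_comp]; rfl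
    refine ⟨_, _, le_preimage_chart π (𝟙 _) hπ, isAffineOpen_opensRange π, isAffineOpen_opensRange _, ?_,
      (chartOK_spec_iff (f := f₀) (R := R) (A := Γ(Xi (i l), W l)) π (𝟙 _) hπ _ e₁ m).2
        ((chartOK_spec_iff (f := g (i l) ≫ f) (R := R) (A := Γ(Xi (i l), W l)) (hW l).fromSpec hV.fromSpec hj
          _ e₂ m).1 (chartOK_of_rel (H (i l)) (isAffineOpen_opensRange _) (isAffineOpen_opensRange _) _))⟩
    refine ⟨q, ?_⟩
    rw [← hy, show π = Sigma.ι (fun l : L => Spec Γ(Xi (i l), W l)) l ≫ σ from (ι_sigmaSpec _ l).symm]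
    rfl
  obtain ⟨e₃⟩ := RelPerfectBC.nonempty_rho_lpull_iso (algebraMap A C) g₀ (𝟙 _) (𝟙 _)
    (by rw [Category.comp_id, Category.id_comp]) M e₀
  exact (chartOK_spec_iff (f := f₀) (R := R) (A := C) (𝟙 _) (𝟙 _)
    (by rw [Category.comp_id, Category.id_comp]) _ e₃ m).1
    (chartOK_of_rel hT (isAffineOpen_opensRange _) (isAffineOpen_opensRange _) _)

end Groth.Agent.RelPC17
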