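import Groth.Agent.RelPC17.NilpBase
import Groth.Agent.LimModLib.Kernel
import Groth.Agent.KFlatLib.Scheme.RelPerfectFP
import Groth.Agent.FPEnough.Descend
import Mathlib.RingTheory.Flat.Equalizer

/-!
# Finite presentation of modules flat over a thickened base
-/

set_option autoImplicit false
set_option linter.style.haveILetI false
set_option backward.isDefEq.respectTransparency false
set_option backward.isDefEq.respectTransparency.types false

universe u

open CategoryTheory CategoryTheory.Limits AlgebraicGeometry TopologicalSpace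

namespace Groth.Agent.RelPC17.ThickFP

open Groth.Agent KFlatLib

/-- Extension along a square keeps a short exact sequence with flat quotient injective. -/
theorem injective_extend_of_flat {A B A' B' : Type u} [CommRing A] [CommRing B] [CommRing A'] [CommRing B']
    (φ : A' →+* B') (β : A' →+* A) (ψ : B' →+* B) (φ₀ : A →+* B) (hsq : ψ.comp φ = φ₀.comp β)
    (hβ : Function.Surjective β) (hψ : Function.Surjective ψ)
    (hker : RingHom.ker ψ ≤ (RingHom.ker β).map φ) {K P M : ModuleCat.{u} B'} (ι : K ⟶ P) (π : P ⟶ M)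
    (hι : Function.Injective ι) (hπ : Function.Surjective π) (hex : Function.Exact ι.hom π.hom)
    (hM : Module.Flat A' ((ModuleCat.restrictScalars.{u} φ).obj M)) :
    Function.Injective ((ModuleCat.extendScalars.{u, u, u} ψ).map ι).hom := by
  haveI := isIso_sqCmp φ β ψ φ₀ hsq hβ hψ hker K
  haveI := isIso_sqCmp φ β ψ φ₀ hsq hβ hψ hker P
  have h1 : Function.Injective ((ModuleCat.extendScalars.{u, u, u} β).map
      ((ModuleCat.restrictScalars.{u} φ).map ι)).hom := by
    letI := β.toAlgebra
    haveI := hM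
    exact LinearMap.lTensor_injective_of_exact_of_flat ((ModuleCat.restrictScalars.{u} φ).map π).hom hπ
      ((ModuleCat.restrictScalars.{u} φ).map ι).hom hι hex A
  have hn := sqCmp_natural φ β ψ φ₀ hsq ι
  intro x y hxy
  obtain ⟨x', rfl⟩ := ((ConcreteCategory.isIso_iff_bijective (sqCmp φ β ψ φ₀ hsq K)).1 inferInstance).2 x
  obtain ⟨y', rfl⟩ := ((ConcreteCategory.isIso_iff_bijective (sqCmp φ β ψ φ₀ hsq K)).1 inferInstance).2 y
  refine congrArg _ (h1 (((ConcreteCategory.isIso_iff_bijective (sqCmp φ β ψ φ₀ hsq P)).1 inferInstance).1 ?_))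
  exact (congrArg (fun g => g.hom x') hn).trans (hxy.trans (congrArg (fun g => g.hom y') hn).symm)

variable {X X' T T' : Scheme.{u}}

/-- Pullback along a thickening of a short exact sequence with flat quotient. -/
theorem mono_pullback_kernel_ι {i : X ⟶ X'} {q : X ⟶ T} {q' : X' ⟶ T'} {t : T ⟶ T'}
    (sq : IsPullback i q q' t) [IsClosedImmersion t] [IsClosedImmersion i] {P M : X'.Modules} (π : P ⟶ M) [Epi π]
    (hM : FlatMod.IsFlatOver q' M) : Mono ((Scheme.Modules.pullback i).map (kernel.ι π)) := by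
  refine Preadditive.mono_of_isZero_kernel _ (isZero_of_stalk _ fun x => ?_)
  let Φ := DerSch.stalkFunctor X' (i x)
  have hS : (ShortComplex.mk (kernel.ι π) π (kernel.condition π)).ShortExact :=
    { exact := ShortComplex.exact_kernel π, mono_f := inferInstance, epi_g := inferInstance }
  have hS' : (ShortComplex.mk (Φ.map (kernel.ι π)) (Φ.map π)
      (by rw [← Functor.map_comp, kernel.condition, Φ.map_zero])).ShortExact := hS.map_of_exact Φ
  have he : t (q x) = q' (i x) := (congrArg (fun g : X ⟶ T' => g x) sq.w).symm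
  have hsurj : Function.Surjective (sqBase q q' i t sq.w x).hom := by
    refine (t.stalkMap_surjective (q x)).comp ?_
    rw [← TopCat.Presheaf.stalkCongr_hom _ (Inseparable.of_eq he.symm)]
    exact (ConcreteCategory.bijective_of_isIso _).2
  have hinj := injective_extend_of_flat (q'.stalkMap (i x)).hom (sqBase q q' i t sq.w x).hom (i.stalkMap x).hom
    (q.stalkMap x).hom (sqBase_comm q q' i t sq.w x) hsurj (i.stalkMap_surjective x)
    (ker_sq_le_iso q q' i t (a := sq.isoPullback.hom) sq.isoPullback_hom_fst sq.isoPullback_hom_snd sq.w x)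
    (Φ.map (kernel.ι π)) (Φ.map π) ((ModuleCat.mono_iff_injective _).1 hS'.mono_f)
    ((ModuleCat.epi_iff_surjective _).1 hS'.epi_g)
    ((ShortComplex.ShortExact.moduleCat_exact_iff_function_exact _).1 hS'.exact) (hM (i x))
  haveI hm : Mono ((DerSch.stalkFunctor X' (i x) ⋙ ModuleCat.extendScalars.{u, u, u} (i.stalkMap x).hom).map (kernel.ι π)) :=
    (ModuleCat.mono_iff_injective _).2 hinj
  haveI : Mono ((Scheme.Modules.pullback i ⋙ DerSch.stalkFunctor X x).map (kernel.ι π)) :=
    (ModuleCat.mono_iff_injective _).2 fun a b hab => by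
      have hn := (stalkPullbackIso i x).hom.naturality (kernel.ι π)
      refine ((ConcreteCategory.isIso_iff_bijective ((stalkPullbackIso i x).hom.app (kernel π))).1 inferInstance).1
        (hinj ?_)
      exact (congrArg (fun g => g.hom a) hn).symm.trans
        ((congrArg (((stalkPullbackIso i x).hom.app _).hom) hab).trans (congrArg (fun g => g.hom b) hn))
  haveI : Mono ((DerSch.stalkFunctor X x).map ((Scheme.Modules.pullback i).map (kernel.ι π))) := this
  exact (isZero_kernel_of_mono ((DerSch.stalkFunctor X x).map ((Scheme.Modules.pullback i).map (kernel.ι π)))).of_iso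
    (PreservesKernel.iso (DerSch.stalkFunctor X x) ((Scheme.Modules.pullback i).map (kernel.ι π)))

/-- Finite presentation descends along thickenings of the base for flat modules. -/
theorem isFP_of_isFP_pullback {i : X ⟶ X'} {q : X ⟶ T} {q' : X' ⟶ T'} {t : T ⟶ T'} (sq : IsPullback i q q' t)
    [IsClosedImmersion t] (hi : MoreMor.IsFiniteOrderThickening i) (F' : X'.Modules)
    (hflat : FlatMod.IsFlatOver q' F') (h : CohB1.IsFP ((Scheme.Modules.pullback i).obj F')) : CohB1.IsFP F' := by
  haveI := hi.1.1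
  haveI := hi.1.2
  have hn := nilThick_of_finiteOrder hi
  have hq := QCoh.isQCoh_of_isFP h
  have hft := isFT_of_isFT_pullback i hn F' (QCoh.isFT_of_isFP h)
  -- locally finitely presented
  have key : ∀ y : X', ∃ O : X'.Opens, y ∈ O ∧ CohB1.IsFP (F'.restrict O.ι) := fun y => by
    obtain ⟨W, n, r, hy, hr⟩ := exists_epi_free_of_isFT hft y
    haveI := hr
    have sqW : IsPullback (i ∣_ W) ((i ⁻¹ᵁ W).ι ≫ q) (W.ι ≫ q') t :=
      (isPullback_morphismRestrict i W).paste_vert sq
    haveI := surjective_restrict i W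
    let iW := i ∣_ W
    let e : (Scheme.Modules.pullback iW).obj (F'.restrict W.ι) ≅
        ((Scheme.Modules.pullback i).obj F').restrict (i ⁻¹ᵁ W).ι :=
      (Scheme.Modules.pullback iW).mapIso ((Scheme.Modules.restrictFunctorIsoPullback W.ι).app F') ≪≫
        (Scheme.Modules.pullbackComp iW W.ι).app F' ≪≫
        (Scheme.Modules.pullbackCongr (morphismRestrict_ι i W)).app F' ≪≫
        ((Scheme.Modules.pullbackComp (i ⁻¹ᵁ W).ι i).app F').symm ≪≫
        ((Scheme.Modules.restrictFunctorIsoPullback (i ⁻¹ᵁ W).ι).app _).symm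
    have hFPW := KFlatLib.RelPerfectSch.isFP_restrict (i ⁻¹ᵁ W).ι h
    have hqW := QCoh.isQCoh_restrict (i ⁻¹ᵁ W).ι hq
    have hflatW : FlatMod.IsFlatOver (W.ι ≫ q') (F'.restrict W.ι) := fun v =>
      (RelTor.flatOverAt_restrict_iff W.ι q' F' v).1 (hflat _)
    haveI := mono_pullback_kernel_ι sqW r hflatW
    haveI : (Scheme.Modules.pullback iW).IsLeftAdjoint :=
      (Scheme.Modules.pullbackPushforwardAdjunction iW).isLeftAdjoint
    let p : FlatMod.freeMod (i ⁻¹ᵁ W : Scheme.{u}) n ⟶ ((Scheme.Modules.pullback i).obj F').restrict (i ⁻¹ᵁ W).ι :=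
      (pullFreeIso iW n).inv ≫ (Scheme.Modules.pullback iW).map r ≫ e.hom
    haveI : Epi p := epi_comp' inferInstance (epi_comp' inferInstance inferInstance)
    -- the kernel
    have hK : CohB1.IsFT (kernel r) := by
      refine isFT_of_isFT_pullback iW (hn.restrict W) _ ?_
      have hex : (ShortComplex.mk ((Scheme.Modules.pullback iW).map (kernel.ι r))
          ((Scheme.Modules.pullback iW).map r)
          (by rw [← Functor.map_comp, kernel.condition, Functor.map_zero])).Exact :=
        ShortComplex.exact_of_g_is_cokernel _ (CokernelCofork.mapIsColimit _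
          (Abelian.epiIsCokernelOfKernel (KernelFork.ofι (kernel.ι r) (kernel.condition r)) (kernelIsKernel r)) (Scheme.Modules.pullback iW))
      haveI : Mono (ShortComplex.mk ((Scheme.Modules.pullback iW).map (kernel.ι r))
          ((Scheme.Modules.pullback iW).map r)
          (by rw [← Functor.map_comp, kernel.condition, Functor.map_zero])).f :=
        inferInstanceAs (Mono ((Scheme.Modules.pullback iW).map (kernel.ι r)))
      refine isFT_of_iso' ?_ (LimModLib.isFT_kernel (QCoh.isQCoh_of_isFinLocFree (isFinLocFree_freeMod n))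
        (isFT_freeMod n) hqW hFPW p)
      exact kernel.mapIso p ((Scheme.Modules.pullback iW).map r) (pullFreeIso iW n).symm e.symm (by simp [p]) ≪≫
        ((kernelIsKernel _).conePointUniqueUpToIso hex.fIsKernel)
    obtain ⟨W₂, m, s, hy₂, hs⟩ := exists_epi_free_of_isFT hK ⟨y, hy⟩
    haveI := hs
    let R := Scheme.Modules.restrictFunctor W₂.ι
    let g : FlatMod.freeMod (W₂ : Scheme.{u}) m ⟶ FlatMod.freeMod (W₂ : Scheme.{u}) n :=
      s ≫ R.map (kernel.ι r) ≫ ((Scheme.Modules.restrictFunctorIsoPullback W₂.ι).app _).hom ≫ (pullFreeIso W₂.ι n).hom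
    let g' : (kernel r).restrict W₂.ι ⟶ R.obj (FlatMod.freeMod (W : Scheme.{u}) n) := R.map (kernel.ι r)
    have hqn : Coh.IsQCoh (FlatMod.freeMod (W₂ : Scheme.{u}) n) :=
      QCoh.isQCoh_of_isFinLocFree (isFinLocFree_freeMod n)
    have hqm : Coh.IsQCoh (FlatMod.freeMod (W₂ : Scheme.{u}) m) :=
      QCoh.isQCoh_of_isFinLocFree (isFinLocFree_freeMod m)
    have hC := FPEnough.isFP_cokernel hqm (isFT_freeMod m) hqn
      (QCoh.isFP_of_isFinLocFree (isFinLocFree_freeMod n)) g
    haveI : PreservesFiniteColimits R := ⟨fun _ => inferInstance⟩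
    let ec : cokernel g ≅ (F'.restrict W.ι).restrict W₂.ι :=
      cokernelEpiComp s _ ≪≫
        cokernelCompIsIso (R.map (kernel.ι r)) _ ≪≫
        (PreservesCokernel.iso R (kernel.ι r)).symm ≪≫
        R.mapIso ((cokernelIsCokernel (kernel.ι r)).coconePointUniqueUpToIso
          (Abelian.epiIsCokernelOfKernel (KernelFork.ofι (kernel.ι r) (kernel.condition r)) (kernelIsKernel r)))
    refine ⟨(W₂.ι ≫ W.ι).opensRange, ⟨⟨⟨y, hy⟩, hy₂⟩, rfl⟩, ?_⟩
    let c := (W₂.ι ≫ W.ι).isoOpensRange.inv
    let e' : ((cokernel g).restrict c) ≅ F'.restrict (W₂.ι ≫ W.ι).opensRange.ι :=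
      (Scheme.Modules.restrictFunctor c).mapIso (ec ≪≫ QCoh.restrictRestrict F' W₂.ι W.ι) ≪≫
        QCoh.restrictRestrict F' c (W₂.ι ≫ W.ι) ≪≫
        (Scheme.Modules.restrictFunctorCongr (Scheme.Hom.isoOpensRange_inv_comp (W₂.ι ≫ W.ι))).app F'
    have hc := KFlatLib.RelPerfectSch.isFP_restrict c hC
    exact FPEnough.isFP_of_retract (QCoh.isQCoh_of_isFP hc) hc
      ((QCoh.isQCoh_iff_iso e').1 (QCoh.isQCoh_of_isFP hc)) e'.hom e'.inv e'.inv_hom_id
  choose O hO hFP using key
  have hcov : TopologicalSpace.IsOpenCover O := top_le_iff.1 fun y _ => Opens.mem_iSup.2 ⟨y, hO y⟩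
  have hqF : Coh.IsQCoh F' := QCoh.isQCoh_of_isOpenCover O hcov fun y => QCoh.isQCoh_of_isFP (hFP y)
  choose V hV hyV hVO using fun y : X' =>
    exists_isAffineOpen_mem_and_subset (x := y) (U := O y) (hO y)
  refine QCoh.isFP_of_finitePresentation hqF V (top_le_iff.1 fun y _ => Opens.mem_iSup.2 ⟨y, hyV y⟩) hV fun y => ?_
  let c := IsOpenImmersion.lift (O y).ι (hV y).fromSpec
    (by rw [Scheme.Opens.range_ι, (hV y).range_fromSpec]; exact hVO y)
  let e : (F'.restrict (O y).ι).restrict c ≅ F'.restrict (hV y).fromSpec :=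
    QCoh.restrictRestrict F' c (O y).ι ≪≫
      (Scheme.Modules.restrictFunctorCongr (IsOpenImmersion.lift_fac _ _ _)).app F'
  have hc := KFlatLib.RelPerfectSch.isFP_restrict c (hFP y)
  have hfp : CohB1.IsFP (F'.restrict (hV y).fromSpec) := FPEnough.isFP_of_retract (QCoh.isQCoh_of_isFP hc) hc
    (QCoh.isQCoh_restrict _ hqF) e.hom e.inv e.inv_hom_id
  have := (QCoh.isFP_iff_finitePresentation _ (QCoh.isQCoh_restrict _ hqF)).1 hfp
  exact Module.FinitePresentation.of_equiv (QCoh.chartEquiv (hV y) F').symm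

end Groth.Agent.RelPC17.ThickFP
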