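import Groth.Agent.RelPC17.CechBound
import Groth.Agent.H23.Frame
import Groth.Agent.QCoh.LocFree
import Groth.Agent.QCoh.Qcqs
import Groth.Agent.S1297
import Groth.Prelude.Def_FrameBundle
import Mathlib.RingTheory.DiscreteValuationRing.Basic
import Mathlib.LinearAlgebra.Determinant
import Mathlib.LinearAlgebra.FreeModule.PID

/-!
# Lifting a frame modulo a high power of the uniformizer

On a proper scheme over a discrete valuation ring, a locally free module that has a frame on the
generic fibre and compatible frames modulo a high power of the uniformizer has global sections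
congruent to the latter frames modulo the uniformizer.
-/

set_option autoImplicit false
set_option backward.isDefEq.respectTransparency false
set_option backward.isDefEq.respectTransparency.types false
set_option linter.style.haveILetI false

universe u

open CategoryTheory CategoryTheory.Limits AlgebraicGeometry TopologicalSpace Opposite

namespace Groth.Agent.RelPC17.TruncLift

open CechBound

/-- A map between free modules of the same rank injective modulo a power of the uniformizer is
surjective. -/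
theorem surjective_of_mod_injective {R : Type*} [CommRing R] [IsDomain R] [IsLocalRing R] (ϖ : R)
    (hm : IsLocalRing.maximalIdeal R = Ideal.span {ϖ}) (hϖ : ϖ ≠ 0) {κ : Type*} [Fintype κ]
    [DecidableEq κ] {P Q : Type*} [AddCommGroup P] [Module R P] [AddCommGroup Q] [Module R Q]
    (bP : Module.Basis κ R P) (bQ : Module.Basis κ R Q) (T : P →ₗ[R] Q) {j : ℕ} (hj : 0 < j)
    (h : ∀ (s : P) (q : Q), T s = ϖ ^ j • q → ∃ p : P, s = ϖ ^ j • p) : Function.Surjective T := by
  let M := LinearMap.toMatrix bP bQ T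
  suffices hu : IsUnit M.det from
    (LinearEquiv.ofIsUnitDet (f := T) (v := bP) (v' := bQ) hu).surjective
  by_contra hu
  let π := IsLocalRing.residue R
  have h0 : (M.map π).det = 0 := by
    rw [← RingHom.mapMatrix_apply, ← RingHom.map_det]
    exact (IsLocalRing.residue_eq_zero_iff _).2 ((IsLocalRing.mem_maximalIdeal _).2 hu)
  obtain ⟨w, hw0, hw⟩ := Matrix.exists_mulVec_eq_zero_iff.2 h0
  choose v hv using fun i => IsLocalRing.residue_surjective (R := R) (w i)
  let s : P := bP.equivFun.symm v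
  have hsv : ∀ i, bP.repr s i = v i := fun i => by
    have := congrFun (bP.equivFun.apply_symm_apply v) i
    rwa [Module.Basis.equivFun_apply] at this
  have hTs : ∀ i, π (bQ.repr (T s) i) = 0 := fun i => by
    have h1 : bQ.repr (T s) i = (M.mulVec v) i := by
      have := congrFun (LinearMap.toMatrix_mulVec_repr bP bQ T s) i
      rw [show (⇑(bP.repr s) : κ → R) = v from funext hsv] at this
      exact this.symm
    rw [h1, RingHom.map_mulVec]
    have hfun : (⇑π ∘ v) = w := funext hv
    rw [hfun]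
    exact congrFun hw i
  have hd : ∀ i, ∃ q, bQ.repr (T s) i = ϖ * q := fun i => by
    have := (IsLocalRing.residue_eq_zero_iff _).1 (hTs i)
    rw [hm, Ideal.mem_span_singleton] at this
    exact this
  choose q hq using hd
  have hT : T s = ϖ • bQ.equivFun.symm q := bQ.repr.injective (Finsupp.ext fun i => by
    rw [hq i, map_smul, Finsupp.smul_apply, smul_eq_mul]
    congr 1
    have := congrFun (bQ.equivFun.apply_symm_apply q) i
    rw [Module.Basis.equivFun_apply] at this
    exact this.symm)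
  obtain ⟨j, rfl⟩ : ∃ i, j = i + 1 := ⟨j - 1, by omega⟩
  obtain ⟨p, hp⟩ := h (ϖ ^ j • s) (bQ.equivFun.symm q) (by rw [map_smul, hT, smul_smul, pow_succ])
  refine hw0 (funext fun i => ?_)
  have h2 := congrArg (fun x => bP.repr x i) hp
  simp only [map_smul, Finsupp.smul_apply, smul_eq_mul, hsv, pow_succ, mul_assoc] at h2
  have h3 := mul_left_cancel₀ (pow_ne_zero j hϖ) h2
  rw [← hv i, h3, Pi.zero_apply, map_mul,
    (IsLocalRing.residue_eq_zero_iff ϖ).2 (hm ▸ Ideal.mem_span_singleton_self ϖ), zero_mul]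

variable {X : Scheme.{u}}

/-- Restriction of sections. -/
noncomputable abbrev res {M : X.Modules} {V W : X.Opens} (h : W ≤ V) (x : Γ(M, V)) : Γ(M, W) :=
  M.presheaf.map (homOfLE h).op x

theorem res_res {M : X.Modules} {V W W' : X.Opens} (h : W ≤ V) (h' : W' ≤ W) (x : Γ(M, V)) :
    res h' (res h x) = res (h'.trans h) x :=
  (QCoh.map_map _ _ _).trans rfl

theorem res_self {M : X.Modules} {V : X.Opens} (h : V ≤ V) (x : Γ(M, V)) : res h x = x :=
  QCoh.map_id' _ _

theorem res_smul {M : X.Modules} {V W : X.Opens} (h : W ≤ V) (a : Γ(X, V)) (x : Γ(M, V)) :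
    res h (a • x) = X.presheaf.map (homOfLE h).op a • res h x :=
  QCoh.map_smul' _ _ _

variable (c : Γ(X, ⊤))

theorem res_pow_smul {M : X.Modules} {V W : X.Opens} (h : W ≤ V) (k : ℕ) (x : Γ(M, V)) :
    res h (cr c V ^ k • x) = cr c W ^ k • res h x := by
  rw [res_smul, map_pow, res_cr]

theorem res_sum_smul {M : X.Modules} {V W : X.Opens} (h : W ≤ V) {r : ℕ} (a : Fin r → Γ(X, V))
    (e : Fin r → Γ(M, V)) :
    res h (∑ l, a l • e l) = ∑ l, X.presheaf.map (homOfLE h).op (a l) • res h (e l) := by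
  rw [show res h (∑ l, a l • e l) = ∑ l, res h (a l • e l) from
    map_sum (M.presheaf.map (homOfLE h).op).hom _ _]
  exact Finset.sum_congr rfl fun l _ => res_smul h _ _

/-- Divisibility of a section by a power of `c`. -/
def Div (M : X.Modules) (k : ℕ) (V : X.Opens) (x : Γ(M, V)) : Prop := ∃ y, cr c V ^ k • y = x

section Div

variable {c} {M : X.Modules} {k : ℕ} {V : X.Opens}

theorem Div.zero : Div c M k V 0 := ⟨0, smul_zero _⟩

theorem Div.add {x y : Γ(M, V)} (hx : Div c M k V x) (hy : Div c M k V y) : Div c M k V (x + y) := by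
  obtain ⟨a, rfl⟩ := hx
  obtain ⟨b, rfl⟩ := hy
  exact ⟨a + b, smul_add _ _ _⟩

theorem Div.neg {x : Γ(M, V)} (hx : Div c M k V x) : Div c M k V (-x) := by
  obtain ⟨a, rfl⟩ := hx
  exact ⟨-a, smul_neg _ _⟩

theorem Div.sub {x y : Γ(M, V)} (hx : Div c M k V x) (hy : Div c M k V y) : Div c M k V (x - y) := by
  rw [sub_eq_add_neg]
  exact hx.add hy.neg

theorem Div.smul {x : Γ(M, V)} (hx : Div c M k V x) (a : Γ(X, V)) : Div c M k V (a • x) := by
  obtain ⟨y, rfl⟩ := hx
  exact ⟨a • y, smul_comm _ _ _⟩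

theorem Div.of_dvd {a : Γ(X, V)} (ha : cr c V ^ k ∣ a) (x : Γ(M, V)) : Div c M k V (a • x) := by
  obtain ⟨b, rfl⟩ := ha
  exact ⟨b • x, (mul_smul _ _ _).symm⟩

theorem Div.sum {ι : Type*} (s : Finset ι) {x : ι → Γ(M, V)} (hx : ∀ i ∈ s, Div c M k V (x i)) :
    Div c M k V (∑ i ∈ s, x i) :=
  Finset.sum_induction x (Div c M k V) (fun _ _ => Div.add) Div.zero hx

theorem Div.pow_smul (k : ℕ) (x : Γ(M, V)) : Div c M k V (cr c V ^ k • x) := ⟨x, rfl⟩

theorem Div.mono {x : Γ(M, V)} {l : ℕ} (hx : Div c M k V x) (h : l ≤ k) : Div c M l V x := by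
  obtain ⟨y, rfl⟩ := hx
  obtain ⟨d, rfl⟩ := Nat.exists_eq_add_of_le h
  exact ⟨cr c V ^ d • y, by rw [smul_smul, pow_add]⟩

theorem Div.pow_add {x : Γ(M, V)} {l : ℕ} (hx : Div c M k V x) : Div c M (l + k) V (cr c V ^ l • x) := by
  obtain ⟨y, rfl⟩ := hx
  exact ⟨y, by rw [smul_smul, _root_.pow_add]⟩

theorem Div.res {x : Γ(M, V)} (hx : Div c M k V x) {W : X.Opens} (h : W ≤ V) :
    Div c M k W (TruncLift.res h x) := by
  obtain ⟨y, rfl⟩ := hx
  exact ⟨TruncLift.res h y, (res_pow_smul c h k y).symm⟩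

end Div

/-- A frame modulo `c ^ n`. -/
structure ModFrame (M : X.Modules) (n : ℕ) (V : X.Opens) {r : ℕ} (e : Fin r → Γ(M, V)) : Prop where
  span : ∀ x, ∃ a : Fin r → Γ(X, V), Div c M n V (x - ∑ l, a l • e l)
  indep : ∀ a : Fin r → Γ(X, V), Div c M n V (∑ l, a l • e l) → ∀ l, cr c V ^ n ∣ a l

variable {c}

theorem ModFrame.indep_le {M : X.Modules} {n m : ℕ} {V : X.Opens} {r : ℕ} {e : Fin r → Γ(M, V)}
    (he : ModFrame c M n V e) (hm : m ≤ n) (a : Fin r → Γ(X, V)) (ha : Div c M m V (∑ l, a l • e l))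
    (l : Fin r) : cr c V ^ m ∣ a l := by
  obtain ⟨y, hy⟩ := ha
  obtain ⟨b, hb⟩ := he.span y
  have h : Div c M n V (∑ l, (a l - cr c V ^ m * b l) • e l) := by
    have h1 : Div c M n V (cr c V ^ m • (y - ∑ l, b l • e l)) := hb.smul _
    convert h1 using 1
    rw [smul_sub, hy, Finset.smul_sum, ← Finset.sum_sub_distrib]
    exact Finset.sum_congr rfl fun l _ => by rw [sub_smul, mul_smul]
  have h2 := (pow_dvd_pow (cr c V) hm).trans (he.indep _ h l)
  have h3 := dvd_add h2 (dvd_mul_right (cr c V ^ m) (b l))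
  rwa [sub_add_cancel] at h3

/-- The torsion of a locally free module is bounded as that of the functions. -/
theorem torBound_mod {E : X.Modules} (hE : FlatMod.IsFinLocFree E) {t : ℕ} (ht : TorBound c t)
    {V : X.Opens} (x : Γ(E, V)) {k : ℕ} (hk : cr c V ^ k • x = 0) : cr c V ^ t • x = 0 := by
  refine QCoh.eq_zero_of_locally V _ fun p hp => ?_
  obtain ⟨U, n, hpU, ⟨e⟩⟩ := hE p
  obtain ⟨s, hs⟩ := H23.Frame.exists_frame e
  refine ⟨V ⊓ U, homOfLE inf_le_left, ⟨hp, hpU⟩, ?_⟩
  show res inf_le_left (cr c V ^ t • x) = 0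
  obtain ⟨a, ha⟩ := (hs (V ⊓ U) inf_le_right).2 (res inf_le_left x)
  have hlin : ∀ m : ℕ, H23.Frame.comb E s (V ⊓ U) inf_le_right (fun i => cr c (V ⊓ U) ^ m * a i) =
      res (inf_le_left : V ⊓ U ≤ V) (cr c V ^ m • x) := fun m => by
    rw [res_pow_smul, ← ha]
    simp only [H23.Frame.comb, Finset.smul_sum, mul_smul]
  have h0 : (fun i => cr c (V ⊓ U) ^ k * a i) = 0 := (hs (V ⊓ U) inf_le_right).1 (by
    rw [hlin, hk]
    refine (map_zero (E.presheaf.map (homOfLE (inf_le_left : V ⊓ U ≤ V)).op).hom).trans ?_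
    simp [H23.Frame.comb])
  rw [← hlin, show (fun i => cr c (V ⊓ U) ^ t * a i) = fun _ => 0 from
    funext fun i => ht _ _ k (congrFun h0 i)]
  simp [H23.Frame.comb]

/-- A torsion section divisible by a high power vanishes. -/
theorem eq_zero_of_div_of_torsion {E : X.Modules} (hE : FlatMod.IsFinLocFree E) {t : ℕ}
    (ht : TorBound c t) {V : X.Opens} {x : Γ(E, V)} {j : ℕ} (hj : t ≤ j) (hd : Div c E j V x)
    (hx : cr c V ^ t • x = 0) : x = 0 := by
  obtain ⟨y, rfl⟩ := hd
  rw [smul_smul, ← pow_add] at hx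
  have hy := torBound_mod hE ht y hx
  obtain ⟨d, rfl⟩ := Nat.exists_eq_add_of_le hj
  rw [pow_add, mul_comm, mul_smul, hy, smul_zero]

/-- The scalars as global functions. -/
noncomputable def gl {A : Type u} [CommRing A] (g : X ⟶ Spec (CommRingCat.of A)) : A →+* Γ(X, ⊤) :=
  Coh.toGlobal g

/-- Gluing of sections on a cover. -/
theorem exists_glue {M : X.Modules} {ι : Type u} {U : ι → X.Opens} (hcov : ⨆ i, U i = ⊤)
    (s : ∀ i, Γ(M, U i))
    (h : ∀ i k, res (inf_le_left : U i ⊓ U k ≤ U i) (s i) = res inf_le_right (s k)) :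
    ∃ x : Γ(M, ⊤), ∀ i, res le_top x = s i := by
  obtain ⟨x, hx, -⟩ := TopCat.Sheaf.existsUnique_gluing' ⟨M.presheaf, Scheme.Modules.isSheaf M⟩ U ⊤
    (fun i => homOfLE le_top) hcov.ge s h
  exact ⟨x, hx⟩

theorem top_ext {M : X.Modules} {ι : Type u} {U : ι → X.Opens} (hcov : ⨆ i, U i = ⊤)
    {x y : Γ(M, ⊤)} (h : ∀ i, res (le_top : U i ≤ ⊤) x = res le_top y) : x = y :=
  TopCat.Sheaf.eq_of_locally_eq' ⟨M.presheaf, Scheme.Modules.isSheaf M⟩ U ⊤ (fun _ => homOfLE le_top)
    hcov.ge _ _ h

section Main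

variable {R : Type u} [CommRing R] [IsDomain R] [IsDiscreteValuationRing R] {ϖ : R} (hϖ : Irreducible ϖ)
  (f : X ⟶ Spec (CommRingCat.of R)) [IsProper f]

/-- Global sections of a coherent module on a proper scheme are finite. -/
theorem finite_topSections {A : Type u} [CommRing A] [IsNoetherianRing A]
    (g : X ⟶ Spec (CommRingCat.of A)) [IsProper g] {M : X.Modules} (hM : Coh.IsCoh M) :
    letI := Module.compHom Γ(M, ⊤) (gl g)
    Module.Finite A Γ(M, ⊤) := by
  letI := Module.compHom Γ(M, ⊤) (gl g)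
  letI : X.Over (Spec (CommRingCat.of A)) := ⟨g⟩
  haveI : IsProper (X ↘ Spec (CommRingCat.of A)) := ‹IsProper g›
  haveI := S0002.result A X M hM 0
  let e : Coh.HH X M 0 ≃+ Γ(M, ⊤) := Sheaf.H.equiv₀ (Coh.toAb M) isTerminalTop
  have he : ∀ (r : Coh.Γtop X) (x : Coh.HH X M 0), e (r • x) = (show Γ(X, ⊤) from r) • e x := by
    intro r x
    have h := (Sheaf.H.equiv₀_naturality isTerminalTop (Coh.smulAb M r) x).symm
    refine (show e (r • x) = _ from h).trans ?_
    show (show Γ(X, ⊤) from Coh.resTop X (Opposite.op ⊤) r) • e x = _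
    congr 1
    show (X.presheaf.map (homOfLE le_top).op).hom r = r
    rw [show (homOfLE le_top).op = 𝟙 (Opposite.op (⊤ : X.Opens)) from rfl, X.presheaf.map_id]
    rfl
  exact Module.Finite.equiv
    ({ e with map_smul' := fun a x => he _ x } : Coh.HH X M 0 ≃ₗ[A] Γ(M, ⊤))

variable (ϖ) in
/-- Global sections divisible by `c ^ t` on the members of the cover. -/
def tSub (M : X.Modules) (t : ℕ) {ι : Type u} (U : ι → X.Opens) :
    letI := Module.compHom Γ(M, ⊤) (gl f)
    Submodule R Γ(M, ⊤) :=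
  letI := Module.compHom Γ(M, ⊤) (gl f)
  { carrier := {s | ∀ i, Div (gl f ϖ) M t (U i) (res le_top s)}
    add_mem' := fun {x y} hx hy i => by
      rw [show res le_top (x + y) = res le_top x + res le_top y from
        map_add (M.presheaf.map (homOfLE (le_top : U i ≤ ⊤)).op).hom x y]
      exact (hx i).add (hy i)
    zero_mem' := fun i => by
      rw [show res (le_top : U i ≤ ⊤) (0 : Γ(M, ⊤)) = 0 from
        map_zero (M.presheaf.map (homOfLE (le_top : U i ≤ ⊤)).op).hom]
      exact Div.zero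
    smul_mem' := fun a x hx i => by
      rw [show res le_top (a • x) = _ from res_smul (le_top : U i ≤ ⊤) (gl f a) x]
      exact (hx i).smul _ }

theorem res_scalar_smul (M : X.Modules) {V : X.Opens} (k : ℕ) (x : Γ(M, ⊤)) :
    letI := Module.compHom Γ(M, ⊤) (gl f)
    res (le_top : V ≤ ⊤) (ϖ ^ k • x) = cr (gl f ϖ) V ^ k • res le_top x := by
  letI := Module.compHom Γ(M, ⊤) (gl f)
  rw [show (ϖ ^ k • x : Γ(M, ⊤)) = gl f (ϖ ^ k) • x from rfl, res_smul, map_pow, map_pow]

set_option maxHeartbeats 4000000 in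
include hϖ in
/-- **Lifting frames.** -/
theorem exists_global_sections {t c₀ : ℕ} (ht : TorBound (gl f ϖ) t) {ι : Type u} [Finite ι]
    {U : ι → X.Opens} (hcov : ⨆ i, U i = ⊤)
    (happ : ∀ (N : ℕ) (a : ∀ i, Γ(X, U i)), c₀ ≤ N →
      (∀ i j, cr (gl f ϖ) (U i ⊓ U j) ^ N ∣
        X.presheaf.map (homOfLE (inf_le_right : U i ⊓ U j ≤ U j)).op (a j) -
          X.presheaf.map (homOfLE (inf_le_left : U i ⊓ U j ≤ U i)).op (a i)) →
      ∃ g : Γ(X, ⊤), ∀ i, cr (gl f ϖ) (U i) ^ (N - c₀) ∣ cr g (U i) - a i)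
    {E : X.Modules} (hE : FlatMod.IsFinLocFree E) {r : ℕ}
    (σ : Fin r → Γ(E, X.basicOpen (gl f ϖ))) (hσ : H23.Frame.IsFrame E σ)
    (e : ∀ i, Fin r → Γ(E, U i))
    (he : ∀ i, ModFrame (gl f ϖ) E (t + (t + 1) + c₀) (U i) (e i))
    (he2 : ∀ i k, ModFrame (gl f ϖ) E (t + (t + 1) + c₀) (U i ⊓ U k)
      fun l => res inf_le_left (e i l))
    (hcompat : ∀ i k l, Div (gl f ϖ) E (t + (t + 1) + c₀) (U i ⊓ U k)
      (res inf_le_left (e i l) - res inf_le_right (e k l))) :
    ∃ s : Fin r → Γ(E, ⊤), ∀ i l, Div (gl f ϖ) E 1 (U i) (res le_top (s l) - e i l) := by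
  classical
  haveI : CompactSpace X := QuasiCompact.compactSpace_of_compactSpace f
  haveI : IsLocallyNoetherian X := LocallyOfFiniteType.isLocallyNoetherian f
  haveI : X.IsSeparated := ⟨by
    rw [← terminal.comp_from f]
    infer_instance⟩
  let c : Γ(X, ⊤) := gl f ϖ
  let O := Coh.structureModule X
  have hO : Coh.IsCoh O := QCoh.isCoh_structureModule'
  have hEq : Coh.IsQCoh E := QCoh.isQCoh_of_isFinLocFree hE
  have hEc : Coh.IsCoh E := ⟨hEq, QCoh.isFT_of_isFP (QCoh.isFP_of_isFinLocFree hE)⟩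
  letI iE := Module.compHom Γ(E, ⊤) (gl f)
  letI iO := Module.compHom Γ(O, ⊤) (gl f)
  haveI := finite_topSections f hEc
  haveI := finite_topSections f hO
  haveI : IsNoetherian R Γ(E, ⊤) := isNoetherian_of_isNoetherianRing_of_finite R _
  haveI : IsNoetherian R Γ(O, ⊤) := isNoetherian_of_isNoetherianRing_of_finite R _
  let PE := tSub ϖ f E t U
  let PO := tSub ϖ f O t U
  -- torsion-freeness
  have tfree : ∀ {M : X.Modules} (_ : FlatMod.IsFinLocFree M),
      letI := Module.compHom Γ(M, ⊤) (gl f)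
      ∀ x ∈ tSub ϖ f M t U, ∀ k : ℕ, ϖ ^ k • x = 0 → x = 0 := by
    intro M hM
    letI := Module.compHom Γ(M, ⊤) (gl f)
    intro x hx k hk
    refine top_ext hcov fun i => ?_
    obtain ⟨y, hy⟩ := hx i
    rw [← hy, show res (le_top : U i ≤ ⊤) (0 : Γ(M, ⊤)) = 0 from
      map_zero (M.presheaf.map (homOfLE (le_top : U i ≤ ⊤)).op).hom]
    refine torBound_mod hM ht y (k := k + t) ?_
    have h2 : cr c (U i) ^ k • res (le_top : U i ≤ ⊤) x = 0 := by
      rw [← res_scalar_smul f M, hk]
      exact map_zero (M.presheaf.map (homOfLE (le_top : U i ≤ ⊤)).op).hom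
    rwa [← hy, smul_smul, ← pow_add] at h2
  have hOlf : FlatMod.IsFinLocFree O := fun _ =>
    ⟨⊤, 1, trivial, ⟨(Scheme.Modules.restrictFunctorIsoPullback _).app _ ≪≫
      PicLoc.pullbackStructureIso (⊤ : X.Opens).ι ≪≫
      (coproductUniqueIso fun _ : Fin 1 => Coh.structureModule ((⊤ : X.Opens) : Scheme.{u})).symm⟩⟩
  have tf : ∀ {M : X.Modules} (_ : FlatMod.IsFinLocFree M),
      letI := Module.compHom Γ(M, ⊤) (gl f)
      Module.IsTorsionFree R (tSub ϖ f M t U) := by
    intro M hM
    letI := Module.compHom Γ(M, ⊤) (gl f)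
    refine ⟨fun a ha x y hxy => ?_⟩
    obtain ⟨k, hk⟩ := IsDiscreteValuationRing.associated_pow_irreducible ha.ne_zero hϖ
    obtain ⟨w, hw⟩ := hk
    rw [← sub_eq_zero]
    refine Subtype.ext (tfree hM _ (x - y).2 k ?_)
    have h : ((w : R) * a) • (x - y) = 0 := by
      rw [mul_smul, smul_sub, show a • x = a • y from hxy, sub_self, smul_zero]
    rw [mul_comm, hw] at h
    exact congrArg Subtype.val h
  haveI : Module.IsTorsionFree R PE := tf hE
  haveI : Module.IsTorsionFree R PO := tf hOlf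
  haveI : Module.Free R PE := Module.free_of_finite_type_torsion_free'
  haveI : Module.Free R PO := Module.free_of_finite_type_torsion_free'
  have hW : IsCompact ((⊤ : X.Opens) : Set X) := by rw [Opens.coe_top]; exact isCompact_univ
  have hW₂ : IsQuasiSeparated ((⊤ : X.Opens) : Set X) := by
    rw [Opens.coe_top]; exact isQuasiSeparated_univ
  -- global sections spanning on the generic fibre
  choose mS S hS using fun l => QCoh.exists_pow_smul_eq_map_of_isQuasiSeparated hEq hW hW₂ c (σ l)
  have resc : ∀ {W : X.Opens} (h : W ≤ (⊤ : X.Opens)),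
      X.presheaf.map (homOfLE h).op c = cr c W := fun _ => rfl
  have hunit : IsUnit (cr c (X.basicOpen c)) := RingedSpace.isUnit_res_basicOpen X.toRingedSpace c
  have hvanish : ∀ {M : X.Modules} (_ : FlatMod.IsFinLocFree M) (x : Γ(M, ⊤)),
      res (X.basicOpen_le c) x = 0 → ∃ L : ℕ, c ^ L • x = 0 := fun hM x hx =>
    QCoh.exists_pow_smul_eq_zero_of_isCompact (QCoh.isQCoh_of_isFinLocFree hM) hW c x hx
  have hsumPE : ∀ a : Fin r → PO, ∑ l, (show Γ(X, ⊤) from (a l).1) • S l ∈ PE := fun a i => by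
    rw [res_sum_smul]
    refine Div.sum _ fun l _ => Div.of_dvd ?_ _
    obtain ⟨y, hy⟩ := (a l).2 i
    exact ⟨y, hy.symm⟩
  let Ψ : (Fin r → PO) →ₗ[R] PE :=
    { toFun := fun a => ⟨∑ l, (show Γ(X, ⊤) from (a l).1) • S l, hsumPE a⟩
      map_add' := fun a b => Subtype.ext <| by
        show ∑ l, ((show Γ(X, ⊤) from (a l).1) + (show Γ(X, ⊤) from (b l).1)) • S l = _
        rw [Finset.sum_congr rfl fun l _ => add_smul _ _ (S l), Finset.sum_add_distrib]
        rfl
      map_smul' := fun x a => Subtype.ext <| by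
        show ∑ l, ((gl f x) * (show Γ(X, ⊤) from (a l).1)) • S l = _
        rw [Finset.sum_congr rfl fun l _ => mul_smul _ _ (S l), ← Finset.smul_sum]
        rfl }
  have hΨ : Function.Injective Ψ := by
    rw [← LinearMap.ker_eq_bot, LinearMap.ker_eq_bot']
    intro a ha
    funext l
    refine Subtype.ext ?_
    have h := congrArg (res (X.basicOpen_le c)) (congrArg Subtype.val ha)
    simp only [ZeroMemClass.coe_zero] at h
    have h' : H23.Frame.comb E σ (X.basicOpen c) le_rfl
        (fun l => X.presheaf.map (homOfLE (X.basicOpen_le c)).op (show Γ(X, ⊤) from (a l).1) *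
          cr c (X.basicOpen c) ^ mS l) = 0 := by
      have h2 : res (X.basicOpen_le c) (∑ l, (show Γ(X, ⊤) from (a l).1) • S l) = 0 :=
        h.trans (map_zero (E.presheaf.map (homOfLE (X.basicOpen_le c)).op).hom)
      rw [res_sum_smul] at h2
      refine Eq.trans (Finset.sum_congr rfl fun l _ => ?_) h2
      rw [mul_smul, show E.presheaf.map (homOfLE (le_refl (X.basicOpen c))).op (σ l) = σ l from
        QCoh.map_id' _ _, show res (X.basicOpen_le c) (S l) = _ from hS l, resc]
    have h0 := congrFun ((hσ (X.basicOpen c) le_rfl).1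
      (h'.trans (show (0 : Γ(E, X.basicOpen c)) = H23.Frame.comb E σ (X.basicOpen c) le_rfl 0 by
        simp [H23.Frame.comb]))) l
    obtain ⟨L, hL⟩ := hvanish hOlf (a l).1 ((hunit.pow _).mul_left_eq_zero.1 h0)
    refine tfree hOlf _ (a l).2 L ?_
    show (gl f (ϖ ^ L)) * (show Γ(X, ⊤) from (a l).1) = 0
    rw [map_pow]
    exact hL
  have hcok : ∀ s : PE, ∃ (K : ℕ) (a : Fin r → PO), Ψ a = ϖ ^ K • s := by
    intro s
    obtain ⟨b, hb⟩ := (hσ (X.basicOpen c) le_rfl).2 (res (X.basicOpen_le c) s.1)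
    let m := Finset.univ.sup mS
    choose N A hA using fun l => QCoh.exists_pow_smul_eq_map_of_isQuasiSeparated hO.1 hW hW₂ c
      (show Γ(O, X.basicOpen c) from b l)
    let K := Finset.univ.sup fun l => N l + mS l
    have hK : ∀ l, N l + mS l ≤ K := fun l =>
      Finset.le_sup (f := fun l => N l + mS l) (Finset.mem_univ l)
    let A' : Fin r → Γ(X, ⊤) := fun l => c ^ (K - (N l + mS l)) * (show Γ(X, ⊤) from A l)
    have hdiff : res (X.basicOpen_le c) ((∑ l, A' l • S l) - c ^ K • s.1) = 0 := by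
      rw [show res (X.basicOpen_le c) ((∑ l, A' l • S l) - c ^ K • s.1) =
        res (X.basicOpen_le c) (∑ l, A' l • S l) - res (X.basicOpen_le c) (c ^ K • s.1) from
          map_sub (E.presheaf.map (homOfLE (X.basicOpen_le c)).op).hom _ _, sub_eq_zero, res_sum_smul,
        res_smul, map_pow, resc, ← hb]
      simp only [H23.Frame.comb, Finset.smul_sum]
      refine Finset.sum_congr rfl fun l _ => ?_
      rw [show E.presheaf.map (homOfLE (le_refl (X.basicOpen c))).op (σ l) = σ l from QCoh.map_id' _ _,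
        show res (X.basicOpen_le c) (S l) = _ from hS l, resc, smul_smul, smul_smul]
      congr 1
      have hA' : X.presheaf.map (homOfLE (X.basicOpen_le c)).op (show Γ(X, ⊤) from A l) =
          cr c (X.basicOpen c) ^ N l * b l := hA l
      show X.presheaf.map (homOfLE (X.basicOpen_le c)).op (A' l) * _ = _
      rw [map_mul, map_pow, hA', resc]
      obtain ⟨d, hd⟩ := Nat.exists_eq_add_of_le (hK l)
      rw [hd, Nat.add_sub_cancel_left, pow_add, pow_add]
      ring
    obtain ⟨L, hL⟩ := hvanish hE _ hdiff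
    rw [smul_sub, sub_eq_zero] at hL
    refine ⟨t + L + K, fun l => ⟨(show Γ(O, ⊤) from c ^ (t + L) * A' l), fun i => ?_⟩, Subtype.ext ?_⟩
    · refine ⟨(show Γ(O, U i) from X.presheaf.map (homOfLE le_top).op (c ^ L * A' l)), ?_⟩
      show cr c (U i) ^ t * X.presheaf.map (homOfLE le_top).op (c ^ L * A' l) =
        X.presheaf.map (homOfLE le_top).op (c ^ (t + L) * A' l)
      simp only [pow_add, map_mul, map_pow, resc, mul_assoc]
    · show ∑ l, (c ^ (t + L) * A' l) • S l = gl f (ϖ ^ (t + L + K)) • s.1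
      rw [Finset.sum_congr rfl fun l _ => mul_smul _ _ (S l), ← Finset.smul_sum, map_pow, pow_add,
        mul_smul, hL, smul_smul, smul_smul, ← pow_add, ← pow_add, add_assoc]
  -- equality of ranks
  have hrank : Module.finrank R PE = Module.finrank R (Fin r → PO) := by
    refine le_antisymm ?_ (LinearMap.finrank_le_finrank_of_injective hΨ)
    let b := Module.Free.chooseBasis R PE
    choose K a ha using fun p => hcok (b p)
    refine LinearMap.finrank_le_finrank_of_injective (f := b.constr R a) ?_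
    rw [← LinearMap.ker_eq_bot, LinearMap.ker_eq_bot']
    intro s hs
    have h := congrArg Ψ hs
    rw [map_zero, Module.Basis.constr_apply_fintype, map_sum] at h
    simp only [map_smul, ha, smul_smul] at h
    refine b.ext_elem fun p => ?_
    have h2 := congrArg (fun x => b.repr x p) h
    simp only [map_sum, map_smul, map_zero, Finsupp.coe_finsetSum, Finset.sum_apply, Finsupp.smul_apply,
      Module.Basis.repr_self, smul_eq_mul, Finsupp.single_apply, mul_ite, mul_one, mul_zero,
      Finset.sum_ite_eq', Finset.mem_univ, if_true, Finsupp.coe_zero, Pi.zero_apply,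
      Module.Basis.equivFun_apply] at h2
    rw [map_zero, Finsupp.coe_zero, Pi.zero_apply]
    exact (mul_eq_zero.1 h2).resolve_right (pow_ne_zero _ hϖ.ne_zero)
  let bE := Module.finBasis R PE
  let bO := (Module.finBasis R (Fin r → PO)).reindex (finCongr hrank.symm)
  -- the relation
  let j := t + 1
  let n := t + (t + 1) + c₀
  let eRes : ∀ (i : ι), PE × (Fin r → PO) → Γ(E, U i) := fun i p =>
    res le_top p.1.1 - ∑ l, cr (show Γ(X, ⊤) from (p.2 l).1) (U i) • e i l
  have eadd : ∀ i p q, eRes i (p + q) = eRes i p + eRes i q := fun i p q => by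
    show res le_top (p.1.1 + q.1.1) - ∑ l, cr ((show Γ(X, ⊤) from (p.2 l).1) + (show Γ(X, ⊤) from (q.2 l).1)) (U i) • e i l = _
    rw [show res le_top (p.1.1 + q.1.1) = res le_top p.1.1 + res le_top q.1.1 from
      map_add (E.presheaf.map (homOfLE (le_top : U i ≤ ⊤)).op).hom _ _,
      Finset.sum_congr rfl fun l _ => (congrArg (· • e i l) (map_add _ _ _)).trans (add_smul _ _ _),
      Finset.sum_add_distrib, add_sub_add_comm]
  have esmul : ∀ i (x : R) p, eRes i (x • p) = cr (gl f x) (U i) • eRes i p :=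
    fun i x p => by
    show res le_top ((gl f x) • p.1.1) -
      ∑ l, cr ((gl f x) * (show Γ(X, ⊤) from (p.2 l).1)) (U i) • e i l = _
    rw [res_smul, smul_sub, Finset.smul_sum]
    exact congrArg _ (Finset.sum_congr rfl fun l _ => (congrArg (· • e i l) (map_mul _ _ _)).trans (mul_smul _ _ _))
  let Rel : Submodule R (PE × (Fin r → PO)) :=
    { carrier := {p | ∀ i, Div c E (t + j) (U i) (eRes i p)}
      add_mem' := fun {p q} hp hq i => by rw [eadd]; exact (hp i).add (hq i)
      zero_mem' := fun i => by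
        have h0 : eRes i ((0 : R) • 0) = _ := esmul i 0 0
        rw [zero_smul, map_zero, show cr (0 : Γ(X, ⊤)) (U i) = 0 from map_zero _, zero_smul] at h0
        rw [h0]
        exact Div.zero
      smul_mem' := fun x p hp i => by rw [esmul]; exact (hp i).smul _ }
  have hex : ∀ s : PE, ∃ g : Fin r → PO, (s, g) ∈ Rel := by
    intro s
    choose u hu using fun i => s.2 i
    choose a ha using fun i => (he i).span (u i)
    let α : ∀ i, Fin r → Γ(X, U i) := fun i l => cr c (U i) ^ t * a i l
    have hα : ∀ i k l, cr c (U i ⊓ U k) ^ n ∣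
        X.presheaf.map (homOfLE (inf_le_right : U i ⊓ U k ≤ U k)).op (α k l) -
          X.presheaf.map (homOfLE (inf_le_left : U i ⊓ U k ≤ U i)).op (α i l) := by
      intro i k
      refine (he2 i k).indep _ ?_
      have hi := ((ha i).smul (cr c (U i) ^ t)).res (inf_le_left : U i ⊓ U k ≤ U i)
      have hk := ((ha k).smul (cr c (U k) ^ t)).res (inf_le_right : U i ⊓ U k ≤ U k)
      rw [smul_sub, hu, Finset.smul_sum] at hi hk
      simp only [smul_smul] at hi hk
      rw [show ∀ x y : Γ(E, U i), res (inf_le_left : U i ⊓ U k ≤ U i) (x - y) =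
          res inf_le_left x - res inf_le_left y from
          map_sub (E.presheaf.map (homOfLE (inf_le_left : U i ⊓ U k ≤ U i)).op).hom,
        res_sum_smul, res_res] at hi
      rw [show ∀ x y : Γ(E, U k), res (inf_le_right : U i ⊓ U k ≤ U k) (x - y) =
          res inf_le_right x - res inf_le_right y from
          map_sub (E.presheaf.map (homOfLE (inf_le_right : U i ⊓ U k ≤ U k)).op).hom,
        res_sum_smul, res_res] at hk
      have hc' : Div c E n (U i ⊓ U k) (∑ l, X.presheaf.map (homOfLE (inf_le_right : U i ⊓ U k ≤ U k)).op (α k l) •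
          (res inf_le_left (e i l) - res inf_le_right (e k l))) :=
        Div.sum _ fun l _ => (hcompat i k l).smul _
      have h := (hi.sub hk).add hc'
      convert h using 1
      simp only [smul_sub, sub_smul, Finset.sum_sub_distrib, α]
      abel
    choose g hg using fun l => happ n (fun i => α i l) (Nat.le_add_left _ _) fun i k => hα i k l
    have hn : n - c₀ = t + j := Nat.add_sub_cancel _ _
    simp only [hn] at hg
    refine ⟨fun l => ⟨(show Γ(O, ⊤) from g l), fun i => ?_⟩, fun i => ?_⟩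
    · obtain ⟨z, hz⟩ := hg l i
      refine ⟨(show Γ(O, U i) from cr c (U i) ^ j * z + a i l), ?_⟩
      show cr c (U i) ^ t * (cr c (U i) ^ j * z + a i l) = cr (g l) (U i)
      rw [mul_add, ← mul_assoc, ← pow_add, ← hz]
      exact sub_add_cancel _ _
    · show Div c E (t + j) (U i) (res le_top s.1 - ∑ l, cr (g l) (U i) • e i l)
      have h1 : Div c E (t + j) (U i) (res le_top s.1 - ∑ l, α i l • e i l) := by
        have := ((ha i).smul (cr c (U i) ^ t)).mono (show t + j ≤ n from Nat.le_add_right _ _)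
        rw [smul_sub, hu, Finset.smul_sum] at this
        simpa only [smul_smul] using this
      have h2 : Div c E (t + j) (U i) (∑ l, (cr (g l) (U i) - α i l) • e i l) :=
        Div.sum _ fun l _ => Div.of_dvd (hg l i) _
      convert h1.sub h2 using 1
      simp only [sub_smul, Finset.sum_sub_distrib]
      abel
  have hker : ∀ (s : PE) (q : Fin r → PO), (s, ϖ ^ j • q) ∈ Rel → ∃ p : PE, s = ϖ ^ j • p := by
    intro s q hs
    have hd : ∀ i, Div c E (t + j) (U i) (res le_top s.1) := fun i => by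
      have h2 : Div c E (t + j) (U i)
          (∑ l, cr (show Γ(X, ⊤) from ((ϖ ^ j • q) l).1) (U i) • e i l) :=
        Div.sum _ fun l _ => Div.of_dvd (by
          obtain ⟨y, hy⟩ := (q l).2 i
          refine ⟨y, ?_⟩
          have hq : cr (show Γ(X, ⊤) from (q l).1) (U i) = cr c (U i) ^ t * (show Γ(X, U i) from y) := hy.symm
          show cr (gl f (ϖ ^ j) * (show Γ(X, ⊤) from (q l).1)) (U i) = _
          refine (map_mul _ _ _).trans ?_
          refine (congrArg (_ * ·) hq).trans ?_
          rw [← mul_assoc, map_pow, map_pow, ← pow_add, add_comm]) _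
      have h1 := (hs i).add h2
      rwa [sub_add_cancel] at h1
    choose y hy using hd
    obtain ⟨p, hp⟩ := exists_glue hcov (fun i => cr c (U i) ^ t • y i) fun i k => by
      rw [res_pow_smul, res_pow_smul, ← sub_eq_zero, ← smul_sub]
      refine torBound_mod hE ht _ (k := t + j) ?_
      rw [smul_sub, ← res_pow_smul, ← res_pow_smul, hy, hy, res_res, res_res, sub_self]
    refine ⟨⟨p, fun i => ⟨y i, (hp i).symm⟩⟩, Subtype.ext (top_ext hcov fun i => ?_)⟩
    show res le_top s.1 = res le_top ((show R from ϖ ^ j) • p)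
    rw [res_scalar_smul, hp, smul_smul, ← pow_add, add_comm, hy]
  choose g hg using fun p => hex (bE p)
  let G : PE →ₗ[R] (Fin r → PO) := bE.constr R g
  have hG : ∀ s, (s, G s) ∈ Rel := fun s => by
    have h : LinearMap.range (LinearMap.prod LinearMap.id G) ≤ Rel := by
      rw [LinearMap.range_eq_map, ← bE.span_eq, Submodule.map_span, Submodule.span_le]
      rintro _ ⟨_, ⟨p, rfl⟩, rfl⟩
      show (bE p, G (bE p)) ∈ Rel
      rw [show G (bE p) = g p from bE.constr_basis R g p]
      exact hg p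
    exact h ⟨s, rfl⟩
  have hsurj : Function.Surjective G :=
    surjective_of_mod_injective ϖ hϖ.maximalIdeal_eq hϖ.ne_zero bE bO G (Nat.succ_pos t)
      fun s q hq => hker s q (hq ▸ hG s)
  have hδ : ∀ l : Fin r, ∀ m : Fin r,
      (show Γ(O, ⊤) from if m = l then c ^ t else 0) ∈ PO := fun l m i => by
    split_ifs
    · refine ⟨(show Γ(O, U i) from (1 : Γ(X, U i))), ?_⟩
      show cr c (U i) ^ t * (1 : Γ(X, U i)) = X.presheaf.map (homOfLE le_top).op (c ^ t)
      rw [mul_one, map_pow]
    · refine ⟨0, (smul_zero _).trans ?_⟩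
      exact (map_zero (X.presheaf.map (homOfLE (le_top : U i ≤ ⊤)).op).hom).symm
  choose s' hs' using fun l => hsurj fun m => (⟨_, hδ l m⟩ : PO)
  have hlift : ∀ l i, ∃ u : Γ(E, U i), cr c (U i) ^ t • u = res le_top (s' l).1 ∧
      Div c E j (U i) (u - e i l) := fun l i => by
    obtain ⟨z, hz⟩ := hG (s' l) i
    rw [hs' l] at hz
    refine ⟨e i l + cr c (U i) ^ j • z, ?_, z, by rw [add_sub_cancel_left]⟩
    rw [smul_add, smul_smul, ← pow_add, hz]
    show _ + (res le_top (s' l).1 - ∑ m, cr (if m = l then c ^ t else 0) (U i) • e i m) = _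
    rw [Finset.sum_eq_single l (fun m _ hm => by rw [if_neg hm, show cr (0 : Γ(X, ⊤)) (U i) = 0 from map_zero _, zero_smul])
      (fun h => absurd (Finset.mem_univ l) h), if_pos rfl,
      show cr (c ^ t) (U i) = cr c (U i) ^ t from map_pow _ _ _, add_sub_cancel]
  choose u hu hud using hlift
  have hglue : ∀ l, ∃ x : Γ(E, ⊤), ∀ i, res le_top x = u l i := fun l => exists_glue hcov (u l) fun i k => by
    rw [← sub_eq_zero]
    refine eq_zero_of_div_of_torsion hE ht (j := j) (Nat.le_succ t) ?_ ?_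
    · have hi := (hud l i).res (inf_le_left : U i ⊓ U k ≤ U i)
      have hk := (hud l k).res (inf_le_right : U i ⊓ U k ≤ U k)
      rw [show ∀ x y : Γ(E, U i), res (inf_le_left : U i ⊓ U k ≤ U i) (x - y) =
          res inf_le_left x - res inf_le_left y from
          map_sub (E.presheaf.map (homOfLE (inf_le_left : U i ⊓ U k ≤ U i)).op).hom] at hi
      rw [show ∀ x y : Γ(E, U k), res (inf_le_right : U i ⊓ U k ≤ U k) (x - y) =
          res inf_le_right x - res inf_le_right y from
          map_sub (E.presheaf.map (homOfLE (inf_le_right : U i ⊓ U k ≤ U k)).op).hom] at hk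
      convert (hi.sub hk).add ((hcompat i k l).mono
        (show j ≤ t + (t + 1) + c₀ by omega)) using 1
      abel
    · rw [smul_sub, ← res_pow_smul, ← res_pow_smul, hu, hu, res_res, res_res, sub_self]
  choose s hs using hglue
  exact ⟨s, fun i l => by rw [hs]; exact (hud l i).mono (Nat.succ_pos t)⟩

end Main

end Groth.Agent.RelPC17.TruncLift
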