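import Groth.Agent.RelPC17.HighVanish
import Groth.Agent.QCoh.AffineCohom
import Groth.Agent.QCoh.OpenSub
import Groth.Agent.QCoh.ExtendFT

/-!
# Vanishing of higher direct images above a degree is stable under base change
-/

set_option autoImplicit false
set_option linter.style.haveILetI false
set_option backward.isDefEq.respectTransparency false
set_option backward.isDefEq.respectTransparency.types false

universe u

open CategoryTheory CategoryTheory.Limits AlgebraicGeometry TopologicalSpace Opposite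

noncomputable section

namespace Groth.Agent.RelPC17.VanishBC

open Groth.Agent

variable {X Y X' Y' : Scheme.{u}}

/-- Vanishing of the higher direct images gives vanishing of the cohomology over affine opens. -/
theorem subsingleton_HH_open (f : X ⟶ Y) [QuasiCompact f] [QuasiSeparated f] [QuasiSeparatedSpace Y] (i : ℕ)
    (h : ∀ M : X.Modules, Coh.IsQCoh M → IsZero ((Coh.RpushAb f i).obj (Coh.toAb M)))
    {V : Y.Opens} (hV : IsAffineOpen V) {N : (f ⁻¹ᵁ V).toScheme.Modules} (hN : Coh.IsQCoh N) :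
    Subsingleton (Coh.HH (f ⁻¹ᵁ V).toScheme N i) := by
  haveI : HasInjectiveResolutions X.Modules := inferInstance
  let U : X.Opens := f ⁻¹ᵁ V
  haveI : QuasiCompact V.ι := QCoh.quasiCompact_ι_of_compact V hV.isCompact
  haveI : QuasiCompact U.ι :=
    MorphismProperty.of_isPullback (P := @QuasiCompact) (isPullback_morphismRestrict f V) ‹QuasiCompact V.ι›
  let M := (Scheme.Modules.pushforward U.ι).obj N
  have hM : Coh.IsQCoh M := QCoh.isQCoh_pushforward U.ι hN
  let e : M.restrict U.ι ≅ N := asIso ((Scheme.Modules.restrictAdjunction U.ι).counit.app N)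
  obtain ⟨e'⟩ := S11319.result f M i
  have hz : IsZero ((Coh.toAb ((Coh.Rpush f i).obj M)).obj.obj (op V)) :=
    Functor.map_isZero (sheafToPresheaf _ _ ⋙ (evaluation _ _).obj (op V)) ((h M hM).of_iso e')
  haveI : Subsingleton Γ((Coh.Rpush f i).obj M, V) := AddCommGrpCat.subsingleton_of_isZero hz
  letI := QCoh.modHH (QCoh.rhoV f V) (M.restrict U.ι) i
  obtain ⟨eh⟩ := QCoh.nonempty_sections_HH (f := f) hM hV i
  exact QCoh.subsingleton_HH_of_iso e i eh.symm.toEquiv.subsingleton

theorem isZero_baseChange (f : X ⟶ Y) [CompactSpace X] [QuasiSeparatedSpace X] [QuasiSeparatedSpace Y]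
    (i : ℕ) (h : ∀ M : X.Modules, Coh.IsQCoh M → IsZero ((Coh.RpushAb f i).obj (Coh.toAb M)))
    (g : Y' ⟶ Y) (f' : X' ⟶ Y') (g' : X' ⟶ X) (sq : IsPullback g' f' f g)
    (M' : X'.Modules) (hM' : Coh.IsQCoh M') : IsZero ((Coh.RpushAb f' i).obj (Coh.toAb M')) := by
  haveI : QuasiCompact f := quasiCompact_of_compactSpace f
  haveI : QuasiSeparated f := QuasiSeparated.of_quasiSeparatedSpace f
  haveI : QuasiCompact f' := MorphismProperty.of_isPullback sq inferInstance
  haveI : QuasiSeparated f' := MorphismProperty.of_isPullback sq inferInstance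
  refine ProperDescent.isZero_of_stalks _ fun y => ?_
  obtain ⟨_, ⟨V, hV, rfl⟩, hyV, -⟩ :=
    Y.isBasis_affineOpens.exists_subset_of_mem_open (Set.mem_univ (g y)) isOpen_univ
  obtain ⟨W, hW, hyW, hWV⟩ := exists_isAffineOpen_mem_and_subset (show y ∈ g ⁻¹ᵁ V from hyV)
  refine HighVanish.isZero_stalk_of_HH f' hM' hW i ?_ hyW
  have hWV' : W ≤ g ⁻¹ᵁ V := hWV
  let r := g.resLE V W hWV'
  let r' := g'.resLE (f ⁻¹ᵁ V) (f' ⁻¹ᵁ W) (by
    rw [← Scheme.Hom.comp_preimage, sq.w, Scheme.Hom.comp_preimage]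
    exact f'.preimage_mono hWV')
  have sq' : IsPullback r' (f' ∣_ W) (f ∣_ V) r := by
    refine IsPullback.of_right ?_ ?_ (isPullback_morphismRestrict f V).flip
    · rw [Scheme.Hom.resLE_comp_ι, Scheme.Hom.resLE_comp_ι]
      exact (isPullback_morphismRestrict f' W).flip.paste_horiz sq
    · rw [← cancel_mono (Scheme.Opens.ι V), Category.assoc, Category.assoc, Scheme.Hom.resLE_comp_ι,
        morphismRestrict_ι, Scheme.Hom.resLE_comp_ι_assoc, morphismRestrict_ι_assoc, sq.w]
  haveI : IsAffine (Scheme.Opens.toScheme V) := hV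
  haveI : IsAffine W.toScheme := hW
  haveI : IsAffineHom r := isAffineHom_of_isAffine r
  haveI : IsAffineHom r' := MorphismProperty.of_isPullback sq'.flip (inferInstance : IsAffineHom r)
  obtain ⟨e⟩ := QCoh.HH_push_of_isAffineHom r' (QCoh.isQCoh_restrict (f' ⁻¹ᵁ W).ι hM') i
  haveI := subsingleton_HH_open f i h hV (QCoh.isQCoh_pushforward r' (QCoh.isQCoh_restrict (f' ⁻¹ᵁ W).ι hM'))
  exact e.toEquiv.subsingleton

end Groth.Agent.RelPC17.VanishBC
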